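import Cfsg.Agent.Lib.FiniteGroup.FrobComplement
import Cfsg.Agent.Lib.FGStruct.FrobeniusData
import Cfsg.Agent.Lib.FGStruct.AbelianCyclic

/-!
Frobenius groups whose complement contains a quaternion pair: the kernel is abelian of odd square order.
-/

set_option autoImplicit false
set_option linter.style.haveILetI false
open scoped Pointwise

namespace Cfsg.Agent.FrobKernelQuat

variable {G : Type*} [Group G] [Finite G]

open Cfsg.Agent.FrobData

theorem kernel_eq {K H : Subgroup G} (h : FData K H) : Cfsg.frobeniusKernel H = (K : Set G) := by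
  haveI := h.normal
  ext x
  constructor
  · rintro (rfl | hx)
    · exact K.one_mem
    rcases h.decomp x with hK | ⟨k, -, a, ha, -, rfl⟩
    · exact hK
    · exact absurd ⟨a, ha, rfl⟩ (hx k)
  · intro hx
    by_cases hx1 : x = 1
    · exact Or.inl hx1
    refine Or.inr fun g hg => ?_
    obtain ⟨a, ha, rfl⟩ := hg
    have haK : a ∈ K := by
      have := (inferInstance : K.Normal).conj_mem' _ hx g
      simpa [mul_assoc] using this
    exact hx1 (by rw [h.eq_one_of_mem haK ha]; exact map_one (MulAut.conj g))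

theorem card_frobeniusKernel {K H : Subgroup G} (h : FData K H) :
    Nat.card (Cfsg.frobeniusKernel H) = Nat.card K := by rw [kernel_eq h]; rfl

theorem mem_zpowers_of_commute' (h : AbCyc.AbCyclic G) {a b : G} (hab : Commute a b) {r : ℕ}
    (hr : 0 < r) (ha : orderOf a = r) (hb : orderOf b = r) : b ∈ Subgroup.zpowers a := by
  classical
  set A := Subgroup.closure ({a, b} : Set G)
  have hA : IsMulCommutative A := by
    refine Subgroup.isMulCommutative_closure ?_
    rintro x (rfl | rfl) y (rfl | rfl)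
    · rfl
    · exact hab.eq
    · exact hab.eq.symm
    · rfl
  haveI := h A hA
  let a' : A := ⟨a, Subgroup.subset_closure (Set.mem_insert _ _)⟩
  let b' : A := ⟨b, Subgroup.subset_closure (Set.mem_insert_of_mem _ rfl)⟩
  have e : b' ∈ Subgroup.zpowers a' := by
    haveI : Fintype A := Fintype.ofFinite A
    have ha' : orderOf a' = r := (Subgroup.orderOf_coe a').symm.trans ha
    have hb' : orderOf b' = r := (Subgroup.orderOf_coe b').symm.trans hb
    have heq : (Finset.univ.filter fun x : A => x ∈ Subgroup.zpowers a') =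
        Finset.univ.filter fun x : A => x ^ r = 1 := by
      refine Finset.eq_of_subset_of_card_le (fun x hx => ?_) ?_
      · simp only [Finset.mem_filter, Finset.mem_univ, true_and] at hx ⊢
        exact orderOf_dvd_iff_pow_eq_one.1 (ha' ▸ orderOf_dvd_of_mem_zpowers hx)
      · refine (IsCyclic.card_pow_eq_one_le hr).trans_eq ?_
        rw [← Fintype.card_subtype, ← Nat.card_eq_fintype_card, ← ha', ← Nat.card_zpowers a']
    have := (Finset.ext_iff.1 heq b').2 (by simp [← hb', pow_orderOf_eq_one])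
    simpa using this
  obtain ⟨k, hk⟩ := Subgroup.mem_zpowers_iff.1 e
  exact ⟨k, by simpa [a', b'] using congrArg Subtype.val hk⟩

/-- A noncyclic Sylow subgroup of a group with all abelian subgroups cyclic contains a quaternion pair. -/
theorem exists_pair (hab : AbCyc.AbCyclic G) {r : ℕ} [Fact r.Prime] (P : Sylow r G) (hP : ¬ IsCyclic P) :
    ∃ b g : G, orderOf b = 4 ∧ g * g = b * b ∧ g * b * g⁻¹ = b⁻¹ := by
  rcases AbCyc.structure_of_pGroup (hab.subgroup (P : Subgroup G)) P.isPGroup' with h | ⟨hr2, A, hA, hAc, hAi, hA4, hout, -⟩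
  · exact absurd h hP
  subst hr2
  have hab' := hab.subgroup (P : Subgroup G)
  obtain ⟨g, hg⟩ : ∃ g : (P : Subgroup G), g ∉ A := by
    by_contra hh
    push Not at hh
    have htop : A = ⊤ := eq_top_iff.2 fun y _ => hh y
    rw [htop, Subgroup.index_top] at hAi
    omega
  haveI := hAc
  obtain ⟨c, hc⟩ := IsCyclic.exists_ofOrder_eq_natCard (α := A)
  obtain ⟨k, hk⟩ := IsPGroup.iff_card.1 (P.isPGroup'.to_subgroup A)
  have hk2 : 2 ≤ k := by
    by_contra hlt
    have : 2 ^ k ≤ 2 ^ 1 := Nat.pow_le_pow_right two_pos (by omega)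
    omega
  have h4 : 4 ∣ orderOf (c : (P : Subgroup G)) := by
    rw [Subgroup.orderOf_coe, hc, hk]
    exact (show 4 = 2 ^ 2 by norm_num) ▸ pow_dvd_pow 2 hk2
  set b : (P : Subgroup G) := (c : (P : Subgroup G)) ^ (orderOf (c : (P : Subgroup G)) / 4) with hb
  have hb4 : orderOf b = 4 := orderOf_pow_orderOf_div (orderOf_pos _).ne' h4
  have hbA : b ∈ A := A.pow_mem c.2 _
  have hg4 : orderOf g = 4 := hout g hg
  have hAcomm : ∀ u ∈ A, ∀ v ∈ A, Commute u v := fun u hu v hv => by
    haveI : IsMulCommutative A := IsCyclic.commutative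
    exact congrArg Subtype.val (mul_comm' (⟨u, hu⟩ : A) ⟨v, hv⟩)
  have h2 : ∀ u : (P : Subgroup G), orderOf u = 4 → orderOf (u ^ 2) = 2 := fun u hu => by
    rw [orderOf_pow, hu]; rfl
  -- `g ^ 2` lies in `A`
  have hg2A : g ^ 2 ∈ A := by
    have := Subgroup.pow_index_mem A g
    rwa [hAi] at this
  have hb44 : b ^ 4 = 1 := orderOf_dvd_iff_pow_eq_one.1 (dvd_of_eq hb4)
  have hsq : g * g = b * b := by
    obtain ⟨i, hi⟩ := Subgroup.mem_zpowers_iff.1 (mem_zpowers_of_commute' hab'
      (hAcomm _ (A.pow_mem hbA 2) _ hg2A) two_pos (h2 b hb4) (h2 g hg4))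
    rw [← pow_two, ← pow_two]
    have hb22 : (b ^ 2) ^ (2 : ℤ) = 1 := by
      rw [zpow_two, ← pow_add]; exact hb44
    rcases Int.emod_two_eq_zero_or_one i with he | he
    · exfalso
      have : g ^ 2 = 1 := by
        rw [← hi, ← Int.mul_ediv_cancel' (Int.dvd_of_emod_eq_zero he), zpow_mul, hb22, one_zpow]
      have := h2 g hg4
      rw [‹g ^ 2 = 1›, orderOf_one] at this
      omega
    · rw [← hi, ← Int.emod_add_mul_ediv i 2, he, zpow_add, zpow_mul, hb22, one_zpow, mul_one, zpow_one]
  have hconjA : g * b * g⁻¹ ∈ A := hA.conj_mem b hbA g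
  have hconj4 : orderOf (g * b * g⁻¹) = 4 := by
    rw [← MulAut.conj_apply, MulEquiv.orderOf_eq, hb4]
  have hne : g * b * g⁻¹ ≠ b := by
    intro e
    refine hg ?_
    obtain ⟨i, hi⟩ := Subgroup.mem_zpowers_iff.1 (mem_zpowers_of_commute' hab'
      (mul_inv_eq_iff_eq_mul.1 e).symm (by norm_num) hb4 hg4)
    rw [← hi]
    exact A.zpow_mem hbA i
  have hinv : g * b * g⁻¹ = b⁻¹ := by
    have hm := mem_zpowers_of_commute' hab' (hAcomm _ hbA _ hconjA) (by norm_num) hb4 hconj4
    rw [← mem_powers_iff_mem_zpowers, (Submonoid.mem_powers_iff _ _)] at hm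
    obtain ⟨n, hn⟩ := hm
    rw [pow_eq_pow_mod n (hb4 ▸ pow_orderOf_eq_one b : b ^ 4 = 1)] at hn
    have hlt : n % 4 < 4 := Nat.mod_lt _ (by norm_num)
    interval_cases hm4 : n % 4
    · rw [pow_zero] at hn; rw [← hn, orderOf_one] at hconj4; omega
    · rw [pow_one] at hn; exact absurd hn.symm hne
    · rw [← hn, h2 b hb4] at hconj4; omega
    · rw [← hn]
      exact (inv_eq_of_mul_eq_one_right (by rw [← pow_succ']; exact hb44)).symm
  exact ⟨b, g, by rw [Subgroup.orderOf_coe, hb4], congrArg Subtype.val hsq, congrArg Subtype.val hinv⟩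

/-- The kernel has odd square order when the complement has a quaternion pair. -/
theorem kernel_odd_square {K H : Subgroup G} (h : FData K H) {b g : H} (hb : orderOf b = 4)
    (hgb : g * g = b * b) (hconj : g * b * g⁻¹ = b⁻¹) :
    Odd (Nat.card K) ∧ IsSquare (Nat.card K) := by
  haveI := h.normal
  have hz1 : b * b ≠ 1 := fun e => by
    have := Nat.le_of_dvd two_pos (hb ▸ orderOf_dvd_of_pow_eq_one ((pow_two b).trans e))
    omega
  have hzz : b * b * (b * b) = 1 := by
    rw [← pow_two b, ← pow_add]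
    exact orderOf_dvd_iff_pow_eq_one.1 (dvd_of_eq hb)
  have hodd : Odd (Nat.card K) := by
    rcases Nat.even_or_odd (Nat.card K) with he | ho
    · exfalso
      have h4 : 2 ∣ Nat.card H := (show 2 ∣ 4 by norm_num).trans (hb ▸ orderOf_dvd_natCard b)
      have := Nat.eq_one_of_dvd_coprimes h.coprime he.two_dvd h4
      omega
    · exact ho
  refine ⟨hodd, ?_⟩
  let σ : H →* MulAut K := (MulAut.conjNormal (H := K)).comp H.subtype
  have hfpf : ∀ a : H, a ≠ 1 → ∀ v : K, σ a v = v → v = 1 := fun a ha v hv => by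
    refine Subtype.ext (h.fpf a.2 (fun e => ha (Subtype.ext e)) v.2 ?_)
    exact mul_inv_eq_iff_eq_mul.1 (congrArg Subtype.val hv)
  have hzinv : ∀ v : K, σ (b * b) v = v⁻¹ := by
    intro v
    have hinj : Function.Injective (fun w : K => w⁻¹ * σ (b * b) w) := by
      intro x y hxy
      have hxy' : x⁻¹ * σ (b * b) x = y⁻¹ * σ (b * b) y := hxy
      have h1 : σ (b * b) (y * x⁻¹) = y * x⁻¹ := by
        rw [map_mul, map_inv, mul_inv_eq_iff_eq_mul]
        calc σ (b * b) y = y * (y⁻¹ * σ (b * b) y) := by group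
          _ = _ := by rw [← hxy']; group
      exact (mul_inv_eq_one.1 (hfpf _ hz1 _ h1)).symm
    obtain ⟨w, hw⟩ := Finite.injective_iff_surjective.1 hinj v
    rw [← hw]
    show σ (b * b) (w⁻¹ * σ (b * b) w) = (w⁻¹ * σ (b * b) w)⁻¹
    rw [map_mul, map_inv, ← MulAut.mul_apply, ← map_mul, hzz, map_one, MulAut.one_apply, mul_inv_rev, inv_inv]
  have hcomm : ∀ v w : K, v * w = w * v := fun v w => by
    have h1 := hzinv (v * w)
    rw [map_mul, hzinv, hzinv, mul_inv_rev] at h1
    exact inv_injective (by rw [mul_inv_rev, mul_inv_rev, ← h1])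
  letI cg : CommGroup K := { (inferInstance : Group K) with mul_comm := hcomm }
  let ad : H → (Additive K →+ Additive K) := fun a => MonoidHom.toAdditive (σ a).toMonoidHom
  have hneg : ∀ v : Additive K, ad (b * b) v = -v := fun v => congrArg Additive.ofMul (hzinv (Additive.toMul v))
  have hmul : ∀ (a a' : H) (v : Additive K), ad (a * a') v = ad a (ad a' v) := fun a a' v =>
    congrArg Additive.ofMul (DFunLike.congr_fun (map_mul σ a a') (Additive.toMul v))
  refine FrobCompl.isSquare_card_of_quaternion_pair _ (Additive K) (Nat.card_congr Additive.toMul) hodd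
    (ad b) (ad g) (fun v => by rw [← hmul, hneg]) (fun v => by rw [← hmul, hgb, hneg]) (fun v => ?_)
  rw [← hmul, ← hmul, ← hneg, ← hmul]
  congr 1
  have e : g * b = b⁻¹ * g := mul_inv_eq_iff_eq_mul.1 hconj
  rw [e]
  group

end Cfsg.Agent.FrobKernelQuat
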