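import Cfsg.Agent.Lib.Solvable.Coprime
import Cfsg.Agent.Lib.LocalEven.OmegaOne
import Mathlib.GroupTheory.SpecificGroups.Cyclic

/-!
For odd `p`, a noncyclic `p`-group has a noncyclic abelian subgroup; a `p`-group acting without
fixed points by conjugation on a nontrivial `p'`-subgroup is cyclic.
-/

set_option autoImplicit false
set_option linter.style.haveILetI false

namespace Cfsg.Agent.CyclicPGroup

universe u

theorem exists_noncyclic_abelian {p : ℕ} [hp : Fact p.Prime] (hp2 : p ≠ 2) :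
    ∀ (P : Type u) [Group P] [Finite P], IsPGroup p P → ¬ IsCyclic P →
      ∃ A : Subgroup P, IsMulCommutative ↥A ∧ ¬ IsCyclic ↥A := by
  intro P _ _
  induction hn : Nat.card P using Nat.strong_induction_on generalizing P with
  | _ N ih =>
  intro hP hc
  by_cases hab : ∀ a b : P, a * b = b * a
  · refine ⟨⊤, .of_setLike_mul_comm fun a _ b _ => hab a b, fun h => hc ?_⟩
    exact isCyclic_of_surjective Subgroup.topEquiv.toMonoidHom Subgroup.topEquiv.surjective
  haveI : Nontrivial P := by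
    by_contra h
    rw [not_nontrivial_iff_subsingleton] at h
    exact hab fun a b => Subsingleton.elim _ _
  haveI := hP.center_nontrivial
  obtain ⟨n, hn0, hn'⟩ :=
    (IsPGroup.nontrivial_iff_card (hP.to_subgroup (Subgroup.center P))).1 inferInstance
  obtain ⟨z, hz⟩ := exists_prime_orderOf_dvd_card' (G := ↥(Subgroup.center P)) p (hn' ▸ dvd_pow_self p hn0.ne')
  set Z := Subgroup.zpowers (z : P) with hZdef
  have hZc : Z ≤ Subgroup.center P := Subgroup.zpowers_le.2 z.2
  haveI : Z.Normal := ⟨fun a ha g => by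
    rw [Subgroup.mem_center_iff.1 (hZc ha) g, mul_inv_cancel_right]; exact ha⟩
  have hZcard : Nat.card Z = p := by rw [hZdef, Nat.card_zpowers, Subgroup.orderOf_coe, hz]
  set f := QuotientGroup.mk' Z with hf
  by_cases hcyc : IsCyclic (P ⧸ Z)
  · haveI := hcyc
    exact absurd (commutative_of_cyclic_center_quotient f (by rw [hf, QuotientGroup.ker_mk']; exact hZc)) hab
  have hlt : Nat.card (P ⧸ Z) < N := by
    rw [← hn, Z.card_eq_card_quotient_mul_card_subgroup, hZcard]
    exact lt_mul_of_one_lt_right Nat.card_pos hp.out.one_lt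
  obtain ⟨Abar, hAc, hAn⟩ := ih _ hlt (P ⧸ Z) rfl (hP.to_quotient Z) hcyc
  haveI := hAc
  obtain ⟨q, E, hq, hE, hexp⟩ := CoprimeAct.exists_elementary_of_not_isCyclic hAn
  have hqp : q = p := by
    obtain ⟨k, hk⟩ := IsPGroup.iff_card.1 (((hP.to_quotient Z).to_subgroup Abar).to_subgroup E)
    have : q ∣ p ^ k := hk ▸ hE ▸ dvd_pow_self q two_ne_zero
    exact (Nat.prime_dvd_prime_iff_eq hq hp.out).1 (hq.dvd_of_dvd_pow this)
  subst hqp
  set E' := (E.map Abar.subtype).comap f with hE'
  have hE'card : Nat.card E' = q ^ 3 := by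
    have h1 := E'.card_mul_index
    rw [hE', Subgroup.index_comap_of_surjective _ (QuotientGroup.mk'_surjective Z)] at h1
    have h2 := (E.map Abar.subtype).card_mul_index
    rw [Subgroup.card_map_of_injective Abar.subtype_injective, hE] at h2
    have h3 := Z.card_eq_card_quotient_mul_card_subgroup
    rw [hZcard, ← h2, ← h1] at h3
    refine Nat.eq_of_mul_eq_mul_right
      (Nat.pos_of_ne_zero (Subgroup.index_ne_zero_of_finite (H := E.map Abar.subtype))) ?_
    rw [hE', h3]; ring
  have memE : ∀ x ∈ E', f x ^ q = 1 ∧ ∀ y ∈ E', f x * f y = f y * f x := by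
    intro x hx
    obtain ⟨a, ha, hax⟩ := hx
    refine ⟨?_, fun y hy => ?_⟩
    · rw [← hax, ← map_pow]
      have h1 : (⟨a, ha⟩ : E) ^ q = 1 := hexp ⟨a, ha⟩
      rw [show a ^ q = 1 from congrArg Subtype.val h1, map_one]
    · obtain ⟨b, hb, hby⟩ := hy
      rw [← hax, ← hby, ← map_mul, ← map_mul]
      exact congrArg _ (Subtype.ext (setLike_mul_comm (s := Abar) a.2 b.2))
  have hcomm : ∀ x ∈ E', ∀ y ∈ E', (x⁻¹ * y⁻¹ * x * y) ∈ Z := by
    intro x hx y hy
    rw [← QuotientGroup.eq_one_iff, ← QuotientGroup.mk'_apply, ← hf]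
    simp only [map_mul, map_inv]
    calc (f x)⁻¹ * (f y)⁻¹ * f x * f y = (f x)⁻¹ * (f y)⁻¹ * (f x * f y) := by group
      _ = (f x)⁻¹ * (f y)⁻¹ * (f y * f x) := by rw [(memE x hx).2 y hy]
      _ = 1 := by group
  have hpowZ : ∀ x : E', (x : P) ^ q ∈ Z := fun x => by
    rw [← QuotientGroup.eq_one_iff, ← QuotientGroup.mk'_apply, ← hf, map_pow]
    exact (memE x x.2).1
  let φ : E' →* Z := MonoidHom.mk' (fun x => ⟨(x : P) ^ q, hpowZ x⟩) (by
    intro x y
    apply Subtype.ext
    show ((x : P) * y) ^ q = (x : P) ^ q * (y : P) ^ q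
    set c := (x : P)⁻¹ * (y : P)⁻¹ * x * y with hcdef
    have hcZ : c ∈ Z := hcomm x x.2 y y.2
    have hcc : ∀ w : P, Commute c w := fun w => (Subgroup.mem_center_iff.1 (hZc hcZ) w).symm
    have hba : (y : P) * x = x * y * c⁻¹ := by rw [hcdef]; group
    have hcq : c ^ q = 1 := by
      have : (⟨c, hcZ⟩ : Z) ^ q = 1 := hZcard ▸ pow_card_eq_one'
      exact congrArg Subtype.val this
    obtain ⟨d, hd⟩ := (Fact.out : q.Prime).dvd_choose_self (k := 2) two_ne_zero
      (lt_of_le_of_ne (Fact.out : q.Prime).two_le (Ne.symm hp2))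
    rw [LEOmega.mul_pow_class_two hba (hcc _).inv_left (hcc _).inv_left q, hd, pow_mul, inv_pow, hcq,
      inv_one, one_pow, mul_one])
  have hker : q * q ≤ Nat.card φ.ker := by
    have h1 := φ.ker.card_mul_index
    rw [Subgroup.index_ker, hE'card] at h1
    have h2 : Nat.card φ.range ≤ q :=
      hZcard ▸ Nat.card_le_card_of_injective _ φ.range.subtype_injective
    have h3 : q ^ 3 ≤ Nat.card φ.ker * q := h1 ▸ Nat.mul_le_mul_left _ h2
    exact Nat.le_of_mul_le_mul_right (by rw [show q * q * q = q ^ 3 by ring]; exact h3) hp.out.pos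
  obtain ⟨u, hu, huZ⟩ : ∃ u ∈ φ.ker, (u : P) ∉ Z := by
    by_contra hno
    push Not at hno
    have hle : φ.ker.map E'.subtype ≤ Z := by
      rintro _ ⟨u, hu, rfl⟩
      exact hno u hu
    have := Nat.le_of_dvd Nat.card_pos (Subgroup.card_dvd_of_le hle)
    rw [Subgroup.card_map_of_injective E'.subtype_injective, hZcard] at this
    have := hp.out.two_le
    nlinarith
  have hup : (u : P) ^ q = 1 := congrArg Subtype.val (MonoidHom.mem_ker.1 hu)
  have hzc : ∀ w : P, w * (z : P) = z * w := fun w => Subgroup.mem_center_iff.1 z.2 w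
  set A := Subgroup.closure ({(u : P), (z : P)} : Set P) with hA
  have hAab : IsMulCommutative ↥A := by
    refine Subgroup.isMulCommutative_closure ?_
    rintro a (rfl | rfl) b (rfl | rfl)
    · rfl
    · exact hzc _
    · exact (hzc _).symm
    · rfl
  refine ⟨A, hAab, fun hcy => huZ ?_⟩
  haveI := hcy
  have hzA : (z : P) ∈ A := Subgroup.subset_closure (by simp)
  have huA : (u : P) ∈ A := Subgroup.subset_closure (by simp)
  have hu1 : (u : P) ≠ 1 := fun h => huZ (h ▸ one_mem Z)
  have h1 : Subgroup.zpowers (⟨u, huA⟩ : A) = Subgroup.zpowers ⟨z, hzA⟩ := by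
    classical
    haveI := Fintype.ofFinite A
    refine Subgroup.eq_of_le_of_card_ge ?_ ?_
    · intro w hw
      by_contra hwn
      have hall : ∀ v : A, v ∈ Subgroup.zpowers (⟨u, huA⟩ : A) ∨ v ∈ Subgroup.zpowers (⟨(z : P), hzA⟩ : A) →
          v ^ q = 1 := by
        rintro v (hv | hv) <;> obtain ⟨k, rfl⟩ := Subgroup.mem_zpowers_iff.1 hv <;>
          apply Subtype.ext <;> simp only [SubgroupClass.coe_pow, SubgroupClass.coe_zpow, OneMemClass.coe_one]
        · rw [← zpow_natCast, ← zpow_mul, mul_comm, zpow_mul, zpow_natCast, hup, one_zpow]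
        · rw [← zpow_natCast, ← zpow_mul, mul_comm, zpow_mul, zpow_natCast,
            show (z : P) ^ q = 1 by rw [← hz, ← Subgroup.orderOf_coe, pow_orderOf_eq_one], one_zpow]
      have hle := IsCyclic.card_pow_eq_one_le (α := A) hp.out.pos
      have hsub : insert w ((Subgroup.zpowers (⟨(z : P), hzA⟩ : A) : Set A).toFinset) ⊆
          Finset.univ.filter (fun v : A => v ^ q = 1) := by
        intro v hv
        rw [Finset.mem_filter]
        refine ⟨Finset.mem_univ _, hall v ?_⟩
        rw [Finset.mem_insert, Set.mem_toFinset] at hv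
        exact hv.elim (fun h => Or.inl (h ▸ hw)) Or.inr
      have := (Finset.card_le_card hsub).trans hle
      rw [Finset.card_insert_of_notMem (by rwa [Set.mem_toFinset]), Set.toFinset_card,
        Fintype.card_eq_nat_card] at this
      have hzz : Nat.card ↥(Subgroup.zpowers (⟨(z : P), hzA⟩ : A)) = q := by
        rw [Nat.card_zpowers, Subgroup.orderOf_mk, Subgroup.orderOf_coe, hz]
      exact absurd this (by rw [show Nat.card ↥((Subgroup.zpowers (⟨(z : P), hzA⟩ : A) : Set A)) = q from hzz]; omega)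
    · rw [Nat.card_zpowers, Nat.card_zpowers, Subgroup.orderOf_mk, Subgroup.orderOf_mk,
        Subgroup.orderOf_coe, hz, orderOf_eq_prime hup hu1]
  have h2 : (⟨u, huA⟩ : A) ∈ Subgroup.zpowers (⟨(z : P), hzA⟩ : A) := h1 ▸ Subgroup.mem_zpowers _
  obtain ⟨k, hk⟩ := Subgroup.mem_zpowers_iff.1 h2
  exact ⟨k, congrArg Subtype.val hk⟩

/-- A `p`-group, `p` odd, acting without fixed points on a nontrivial subgroup of coprime order is
cyclic. -/
theorem isCyclic_of_fixedPointFree {G : Type u} [Group G] [Finite G] {p : ℕ} [hp : Fact p.Prime]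
    (hp2 : p ≠ 2) {P K : Subgroup G} (hP : IsPGroup p ↥P) (hPK : P ≤ Subgroup.normalizer (K : Set G))
    (hcop : (Nat.card P).Coprime (Nat.card K)) (hK : K ≠ ⊥)
    (hfpf : ∀ a ∈ P, a ≠ 1 → ∀ k ∈ K, k ≠ 1 → a * k ≠ k * a) : IsCyclic ↥P := by
  by_contra hc
  obtain ⟨A, hA, hAn⟩ := exists_noncyclic_abelian hp2 ↥P hP hc
  set A' := A.map P.subtype with hA'
  have hA'P : A' ≤ P := Subgroup.map_subtype_le A
  haveI : IsMulCommutative ↥A' := .of_setLike_mul_comm fun a ha b hb => by
    obtain ⟨a, ha', rfl⟩ := ha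
    obtain ⟨b, hb', rfl⟩ := hb
    exact congrArg Subtype.val (setLike_mul_comm (s := A) ha' hb')
  have hA'n : ¬ IsCyclic ↥A' := fun h => hAn
    (isCyclic_of_surjective (A.equivMapOfInjective P.subtype P.subtype_injective).symm.toMonoidHom
      (MulEquiv.surjective _))
  refine hK (le_bot_iff.1 ?_)
  rw [← CoprimeAct.generated_by_centralizers hA'n (hA'P.trans hPK)
    (hcop.coprime_dvd_left (Subgroup.card_dvd_of_le hA'P))]
  refine iSup₂_le fun a ha => fun k hk => ?_
  obtain ⟨hkK, hkC⟩ := Subgroup.mem_inf.1 hk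
  rw [Subgroup.mem_bot]
  by_contra hk1
  exact hfpf a (hA'P ha.1) ha.2 k hkK hk1 (Subgroup.mem_centralizer_singleton_iff.1 hkC).symm

end Cfsg.Agent.CyclicPGroup
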