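import Cfsg.Prelude.Def_PLocal
import Mathlib.GroupTheory.Nilpotent
import Mathlib.GroupTheory.Frattini
import Mathlib.GroupTheory.Sylow
import Mathlib.GroupTheory.Commutator.Basic

/-!
Hall's basic facts about regular `p`-groups.
-/

set_option autoImplicit false
set_option linter.style.haveILetI false
open scoped commutatorElement

namespace Cfsg.Agent.RegularP

variable {G : Type*} [Group G] [Finite G] {p : ℕ} [hp : Fact p.Prime]

/-- In a nilpotent finite group a subgroup covering the abelianisation is everything. -/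
theorem eq_top_of_sup_commutator [Group.IsNilpotent G] {K : Subgroup G}
    (h : K ⊔ commutator G = ⊤) : K = ⊤ := by
  by_contra hK
  obtain ⟨M, hM, hKM⟩ := (eq_top_or_exists_le_coatom K).resolve_left hK
  haveI hMn : M.Normal :=
    Subgroup.NormalizerCondition.normal_of_coatom M Group.normalizerCondition_of_isNilpotent hM
  have hidx : M ≠ ⊤ := hM.1
  haveI : IsSimpleGroup (G ⧸ M) := by
    haveI : Nontrivial (G ⧸ M) := QuotientGroup.nontrivial_iff.2 hidx
    refine ⟨fun N _ => ?_⟩
    rcases hM.le_iff.1 (show M ≤ N.comap (QuotientGroup.mk' M) from fun m hm => by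
      rw [Subgroup.mem_comap, QuotientGroup.mk'_apply, (QuotientGroup.eq_one_iff m).2 hm]
      exact one_mem N) with e | e
    · exact Or.inr (Subgroup.comap_injective (QuotientGroup.mk'_surjective M) (e.trans (Subgroup.comap_top _).symm))
    · refine Or.inl (Subgroup.comap_injective (QuotientGroup.mk'_surjective M) (e.trans ?_))
      rw [MonoidHom.comap_bot, QuotientGroup.ker_mk']
  refine hidx (top_le_iff.1 (h ▸ sup_le hKM ?_))
  rw [commutator_def, Subgroup.commutator_le]
  intro a _ b _
  rw [← QuotientGroup.eq_one_iff, ← QuotientGroup.mk'_apply, map_commutatorElement,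
    commutatorElement_eq_one_iff_mul_comm]
  exact (IsSimpleGroup.comm_iff_isSolvable (G := G ⧸ M)).2 inferInstance _ _

/-- The defining condition of regularity at a single exponent `p ^ k`. -/
def LevelReg (p k : ℕ) (G : Type*) [Group G] : Prop :=
  IsPGroup p G ∧ ∀ a b : G,
    ∃ c ∈ Cfsg.powerClosure p k ⁅Subgroup.closure ({a, b} : Set G), Subgroup.closure ({a, b} : Set G)⁆,
      (a * b) ^ (p ^ k) = a ^ (p ^ k) * b ^ (p ^ k) * c

omit [Finite G] hp in
theorem levelReg_of_regular (hG : Cfsg.IsRegularPGroup p G) (k : ℕ) : LevelReg p k G :=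
  ⟨hG.1, fun a b => hG.2 a b k⟩

omit [Finite G] hp in
theorem mul_pow_of_exponent {k : ℕ} (hG : LevelReg p k G) {H : Subgroup G}
    (hH : ∀ d ∈ ⁅H, H⁆, d ^ p ^ k = 1) {a b : G} (ha : a ∈ H) (hb : b ∈ H) :
    (a * b) ^ p ^ k = a ^ p ^ k * b ^ p ^ k := by
  obtain ⟨c, hc, he⟩ := hG.2 a b
  have hc1 : c = 1 := by
    have hle : Cfsg.powerClosure p k
        ⁅Subgroup.closure ({a, b} : Set G), Subgroup.closure ({a, b} : Set G)⁆ ≤ ⊥ := by
      rw [Cfsg.powerClosure, Subgroup.closure_le]
      rintro _ ⟨d, hd, rfl⟩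
      have hcl : Subgroup.closure ({a, b} : Set G) ≤ H := by
        rw [Subgroup.closure_le]
        rintro _ (rfl | rfl) <;> assumption
      exact hH d (Subgroup.commutator_mono hcl hcl hd)
    simpa using hle hc
  rw [he, hc1, mul_one]

theorem key {k : ℕ} (hG : LevelReg p k G) : ∀ n : ℕ, ∀ a b : G,
    Nat.card (Subgroup.closure ({a, b} : Set G)) ≤ n →
      (a ^ p ^ k = b ^ p ^ k ↔ (a⁻¹ * b) ^ p ^ k = 1) := by
  intro n
  induction n with
  | zero => intro a b h; exact absurd h (by simp [Nat.card_pos.ne'])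
  | succ n ih =>
    intro a b hn
    classical
    set H := Subgroup.closure ({a, b} : Set G) with hH
    have haH : a ∈ H := Subgroup.subset_closure (by simp)
    have hbH : b ∈ H := Subgroup.subset_closure (by simp)
    haveI : Group.IsNilpotent H := (hG.1.to_subgroup H).isNilpotent
    -- smaller subgroups
    have small : ∀ L : Subgroup G, L < H → ∀ x ∈ L, ∀ y ∈ L,
        (x ^ p ^ k = y ^ p ^ k ↔ (x⁻¹ * y) ^ p ^ k = 1) := by
      intro L hL x hx y hy
      refine ih x y ?_
      have h1 : Subgroup.closure ({x, y} : Set G) ≤ L := by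
        rw [Subgroup.closure_le]
        rintro _ (rfl | rfl) <;> assumption
      have h2 : Nat.card L < Nat.card H := lt_of_not_ge fun hge =>
        hL.ne (Subgroup.eq_of_le_of_card_ge hL.le hge)
      have h3 := Nat.le_of_dvd Nat.card_pos (Subgroup.card_dvd_of_le h1)
      omega
    -- exponent of a proper subgroup generated by elements of order dividing `p ^ k`
    have expo : ∀ (L : Subgroup G) (S : Set G), L < H → L = Subgroup.closure S →
        (∀ s ∈ S, s ^ p ^ k = 1) → ∀ d ∈ L, d ^ p ^ k = 1 := by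
      intro L S hL hLS hS d hd
      rw [hLS] at hd
      induction hd using Subgroup.closure_induction with
      | mem x hx => exact hS x hx
      | one => exact one_pow _
      | mul x y hx hy ihx ihy =>
        have := (small L hL x⁻¹ (inv_mem (hLS ▸ hx)) y (hLS ▸ hy)).1 (by rw [inv_pow, ihx, ihy, inv_one])
        rwa [inv_inv] at this
      | inv x _ ihx => rw [inv_pow, ihx, inv_one]
    by_cases habel : ∀ x ∈ H, ∀ y ∈ H, x * y = y * x
    · have hc : Commute a⁻¹ b := habel _ (inv_mem haH) b hbH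
      rw [hc.mul_pow, inv_pow, inv_mul_eq_one]
    set H' := ⁅H, H⁆ with hH'
    have hH'le : H' ≤ H := Subgroup.commutator_le_self H
    -- `⟨x⟩ H'` is proper
    have proper : ∀ x ∈ H, Subgroup.zpowers x ⊔ H' < H := by
      intro x hx
      refine lt_of_le_of_ne (sup_le (Subgroup.zpowers_le.2 hx) hH'le) fun e => habel ?_
      have htop : (Subgroup.zpowers x).subgroupOf H = ⊤ := by
        refine eq_top_of_sup_commutator ?_
        apply Subgroup.map_injective H.subtype_injective
        rw [Subgroup.map_sup, Subgroup.map_subgroupOf_eq_of_le (Subgroup.zpowers_le.2 hx),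
          Subgroup.map_subtype_commutator, ← MonoidHom.range_eq_map, Subgroup.range_subtype]
        exact e
      intro u hu v hv
      obtain ⟨i, rfl⟩ := Subgroup.mem_zpowers_iff.1 (show u ∈ Subgroup.zpowers x from
        Subgroup.subgroupOf_eq_top.1 htop hu)
      obtain ⟨j, rfl⟩ := Subgroup.mem_zpowers_iff.1 (show v ∈ Subgroup.zpowers x from
        Subgroup.subgroupOf_eq_top.1 htop hv)
      rw [← zpow_add, ← zpow_add, add_comm]
    -- a commutator of order dividing `p ^ k` bounds the exponent of `H'`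
    have main : ⁅a, b⁆ ^ p ^ k = 1 → ∀ d ∈ H', d ^ p ^ k = 1 := by
      intro hcomm
      set S : Set G := {y | ∃ h ∈ H, y = h * ⁅a, b⁆ * h⁻¹} with hS
      have hcS : Subgroup.closure S = H' := by
        refine le_antisymm ?_ ?_
        · rw [Subgroup.closure_le]
          rintro _ ⟨h, hh, rfl⟩
          exact (Subgroup.mem_normalizer_iff.1 (Subgroup.normalizer_commutator_ge_right H H hh) _).1
            (Subgroup.commutator_mem_commutator haH hbH)
        · have hnorm : H ≤ Subgroup.normalizer (Subgroup.closure S : Set G) := by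
            intro h hh
            rw [Subgroup.mem_normalizer_iff_map_conj_eq, MonoidHom.map_closure]
            congr 1
            refine Set.Subset.antisymm ?_ ?_
            · rintro _ ⟨_, ⟨g, hg, rfl⟩, rfl⟩
              exact ⟨h * g, mul_mem hh hg, by simp [mul_assoc]⟩
            · rintro _ ⟨g, hg, rfl⟩
              exact ⟨h⁻¹ * g * ⁅a, b⁆ * (h⁻¹ * g)⁻¹, ⟨h⁻¹ * g, mul_mem (inv_mem hh) hg, rfl⟩,
                by simp [mul_assoc]⟩
          haveI : ((Subgroup.closure S).subgroupOf H).Normal :=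
            Subgroup.normal_subgroupOf_of_le_normalizer hnorm
          set π := QuotientGroup.mk' ((Subgroup.closure S).subgroupOf H)
          have hab : Commute (π ⟨a, haH⟩) (π ⟨b, hbH⟩) := by
            refine commutatorElement_eq_one_iff_commute.1 ?_
            rw [← map_commutatorElement]
            refine (QuotientGroup.eq_one_iff _).2 ?_
            exact Subgroup.subset_closure ⟨1, one_mem _, by simp [commutatorElement_def]⟩
          rw [hH', Subgroup.commutator_le]
          intro u hu v hv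
          suffices hc : Commute (π ⟨u, hu⟩) (π ⟨v, hv⟩) by
            have := (map_commutatorElement π ⟨u, hu⟩ ⟨v, hv⟩).trans (commutatorElement_eq_one_iff_commute.2 hc)
            exact (QuotientGroup.eq_one_iff (N := (Subgroup.closure S).subgroupOf H) _).1 this
          have hgen : ∀ w (hw : w ∈ H), π ⟨w, hw⟩ ∈
              Subgroup.closure ({π ⟨a, haH⟩, π ⟨b, hbH⟩} : Set _) := by
            intro w hw
            induction hw using Subgroup.closure_induction with
            | mem x hx =>
              rcases hx with rfl | rfl <;> exact Subgroup.subset_closure (by simp)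
            | one => exact (map_one π).symm ▸ one_mem _
            | mul x y hx hy ihx ihy =>
              rw [show (⟨x * y, mul_mem hx hy⟩ : H) = ⟨x, hx⟩ * ⟨y, hy⟩ from rfl, map_mul]
              exact mul_mem ihx ihy
            | inv x hx ihx =>
              rw [show (⟨x⁻¹, inv_mem hx⟩ : H) = (⟨x, hx⟩ : H)⁻¹ from rfl, map_inv]
              exact inv_mem ihx
          haveI : IsMulCommutative (Subgroup.closure ({π ⟨a, haH⟩, π ⟨b, hbH⟩} : Set _)) :=
            Subgroup.isMulCommutative_closure (by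
              rintro _ (rfl | rfl) _ (rfl | rfl)
              · rfl
              · exact hab.eq
              · exact hab.eq.symm
              · rfl)
          exact congrArg Subtype.val (mul_comm' (⟨_, hgen u hu⟩ : Subgroup.closure _) ⟨_, hgen v hv⟩)
      have hlt : H' < H := lt_of_le_of_lt le_sup_right (proper a haH)
      refine expo H' S hlt hcS.symm ?_
      rintro _ ⟨h, _, rfl⟩
      rw [conj_pow, hcomm, mul_one, mul_inv_cancel]
    constructor
    · intro hab
      set a' := b * a * b⁻¹ with ha'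
      have hpa' : a' ^ p ^ k = a ^ p ^ k := by
        rw [ha', conj_pow, hab, ← pow_succ', pow_succ, mul_inv_cancel_right]
      have hmem : a' ∈ Subgroup.zpowers a ⊔ H' := by
        have : a' = ⁅b, a⁆ * a := by rw [ha', commutatorElement_def]; group
        rw [this]
        exact mul_mem (Subgroup.mem_sup_right (Subgroup.commutator_mem_commutator hbH haH))
          (Subgroup.mem_sup_left (Subgroup.mem_zpowers a))
      have h1 := (small _ (proper a haH) a'⁻¹ (inv_mem hmem) a⁻¹
        (inv_mem (Subgroup.mem_sup_left (Subgroup.mem_zpowers a)))).1 (by rw [inv_pow, inv_pow, hpa'])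
      have hcomm : ⁅a, b⁆ ^ p ^ k = 1 := by
        rw [← commutatorElement_inv, inv_pow, inv_eq_one]
        rwa [inv_inv, ha', ← commutatorElement_def] at h1
      rw [mul_pow_of_exponent hG (main hcomm) (inv_mem haH) hbH, inv_pow, inv_mul_eq_one]
      exact hab
    · intro hc
      set c := a⁻¹ * b with hcdef
      have hcH : c ∈ H := mul_mem (inv_mem haH) hbH
      set c' := a * c * a⁻¹ with hc'
      have hc'pow : c'⁻¹ ^ p ^ k = 1 := by rw [inv_pow, hc', conj_pow, hc, mul_one, mul_inv_cancel, inv_one]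
      have hmem : c' ∈ Subgroup.zpowers c ⊔ H' := by
        have : c' = ⁅a, c⁆ * c := by rw [hc', commutatorElement_def]; group
        rw [this]
        exact mul_mem (Subgroup.mem_sup_right (Subgroup.commutator_mem_commutator haH hcH))
          (Subgroup.mem_sup_left (Subgroup.mem_zpowers c))
      have h1 := (small _ (proper c hcH) c'⁻¹ (inv_mem hmem) c⁻¹
        (inv_mem (Subgroup.mem_sup_left (Subgroup.mem_zpowers c)))).1 (by rw [hc'pow, inv_pow, hc, inv_one])
      have hcomm : ⁅a, b⁆ ^ p ^ k = 1 := by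
        have e : ⁅a, b⁆ = a * ⁅a, c⁆ * a⁻¹ := by
          simp only [hcdef, commutatorElement_def]; group
        rw [inv_inv, hc', ← commutatorElement_def] at h1
        rw [e, conj_pow, h1, mul_one, mul_inv_cancel]
      have := mul_pow_of_exponent hG (main hcomm) haH hcH
      rw [hc, mul_one, hcdef, mul_inv_cancel_left] at this
      exact this.symm

theorem pow_eq_iff (hG : Cfsg.IsRegularPGroup p G) (k : ℕ) (a b : G) :
    a ^ p ^ k = b ^ p ^ k ↔ (a⁻¹ * b) ^ p ^ k = 1 := key (levelReg_of_regular hG k) _ a b le_rfl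

theorem mul_pow_eq_one (hG : Cfsg.IsRegularPGroup p G) (k : ℕ) {a b : G} (ha : a ^ p ^ k = 1)
    (hb : b ^ p ^ k = 1) : (a * b) ^ p ^ k = 1 := by
  have := (pow_eq_iff hG k a⁻¹ b).1 (by rw [inv_pow, ha, hb, inv_one])
  rwa [inv_inv] at this

theorem commute_pow_iff (hG : Cfsg.IsRegularPGroup p G) (k : ℕ) (a b : G) :
    a ^ p ^ k * b = b * a ^ p ^ k ↔ (a⁻¹ * b⁻¹ * a * b) ^ p ^ k = 1 := by
  rw [show a⁻¹ * b⁻¹ * a * b = a⁻¹ * (b⁻¹ * a * b⁻¹⁻¹) by group, ← pow_eq_iff hG k, conj_pow, inv_inv]
  constructor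
  · intro h; rw [mul_assoc, h, inv_mul_cancel_left]
  · intro h
    conv_rhs => rw [h]
    group

omit [Finite G] hp in
theorem powerClosure_mono {k : ℕ} {H K : Subgroup G} (h : H ≤ K) :
    Cfsg.powerClosure p k H ≤ Cfsg.powerClosure p k K :=
  Subgroup.closure_mono fun _ ⟨x, hx, hy⟩ => ⟨x, h hx, hy⟩

theorem normalizer_powerClosure {k : ℕ} {H K : Subgroup G} (h : H ≤ Subgroup.normalizer (K : Set G)) :
    H ≤ Subgroup.normalizer (Cfsg.powerClosure p k K : Set G) := by
  intro g hg
  rw [Subgroup.mem_normalizer_iff_map_conj_eq]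
  refine Subgroup.eq_of_le_of_card_ge ?_ (Subgroup.card_map_of_injective (MulAut.conj g).injective).ge
  rw [Cfsg.powerClosure, MonoidHom.map_closure, Subgroup.closure_le]
  rintro _ ⟨_, ⟨x, hx, rfl⟩, rfl⟩
  exact Subgroup.subset_closure ⟨g * x * g⁻¹, (Subgroup.mem_normalizer_iff.1 (h hg) x).1 hx, conj_pow.symm⟩

theorem exists_pow_eq {k : ℕ} (hG : LevelReg p k G) : ∀ n : ℕ, ∀ H : Subgroup G, Nat.card H ≤ n →
    ∀ a ∈ H, ∀ b ∈ H, ∃ z ∈ H, a ^ p ^ k * b ^ p ^ k = z ^ p ^ k := by
  intro n
  induction n with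
  | zero => intro H h; exact absurd h (by simp [Nat.card_pos.ne'])
  | succ n ih =>
    intro H hn a ha b hb
    haveI : Group.IsNilpotent H := (hG.1.to_subgroup H).isNilpotent
    by_cases habel : ∀ x ∈ H, ∀ y ∈ H, x * y = y * x
    · exact ⟨a * b, mul_mem ha hb, ((show Commute a b from habel a ha b hb).mul_pow _).symm⟩
    set H' := ⁅H, H⁆ with hH'
    have hH'le : H' ≤ H := Subgroup.commutator_le_self H
    have proper : ∀ x ∈ H, Subgroup.zpowers x ⊔ H' < H := by
      intro x hx
      refine lt_of_le_of_ne (sup_le (Subgroup.zpowers_le.2 hx) hH'le) fun e => habel ?_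
      have htop : (Subgroup.zpowers x).subgroupOf H = ⊤ := by
        refine eq_top_of_sup_commutator ?_
        apply Subgroup.map_injective H.subtype_injective
        rw [Subgroup.map_sup, Subgroup.map_subgroupOf_eq_of_le (Subgroup.zpowers_le.2 hx),
          Subgroup.map_subtype_commutator, ← MonoidHom.range_eq_map, Subgroup.range_subtype]
        exact e
      intro u hu v hv
      obtain ⟨i, rfl⟩ := Subgroup.mem_zpowers_iff.1 (show u ∈ Subgroup.zpowers x from
        Subgroup.subgroupOf_eq_top.1 htop hu)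
      obtain ⟨j, rfl⟩ := Subgroup.mem_zpowers_iff.1 (show v ∈ Subgroup.zpowers x from
        Subgroup.subgroupOf_eq_top.1 htop hv)
      rw [← zpow_add, ← zpow_add, add_comm]
    have small : ∀ x ∈ H, Nat.card (Subgroup.zpowers x ⊔ H' : Subgroup G) ≤ n := fun x hx => by
      have h2 : Nat.card (Subgroup.zpowers x ⊔ H' : Subgroup G) < Nat.card H := lt_of_not_ge fun hge =>
        (proper x hx).ne (Subgroup.eq_of_le_of_card_ge (proper x hx).le hge)
      omega
    have hpow : ∀ d ∈ Cfsg.powerClosure p k H', ∃ e ∈ H', d = e ^ p ^ k := by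
      intro d hd
      have hsmall : Nat.card H' ≤ n := le_trans (Nat.le_of_dvd Nat.card_pos
        (Subgroup.card_dvd_of_le le_sup_right)) (small a ha)
      induction hd using Subgroup.closure_induction with
      | mem x hx => exact hx
      | one => exact ⟨1, one_mem _, (one_pow _).symm⟩
      | mul x y _ _ ihx ihy =>
        obtain ⟨e, he, rfl⟩ := ihx
        obtain ⟨f, hf, rfl⟩ := ihy
        exact ih H' hsmall e he f hf
      | inv x _ ihx =>
        obtain ⟨e, he, rfl⟩ := ihx
        exact ⟨e⁻¹, inv_mem he, (inv_pow e _).symm⟩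
    obtain ⟨c, hc, he⟩ := hG.2 a b
    have hle : ⁅Subgroup.closure ({a, b} : Set G), Subgroup.closure ({a, b} : Set G)⁆ ≤ H' := by
      have : Subgroup.closure ({a, b} : Set G) ≤ H := by
        rw [Subgroup.closure_le]; rintro _ (rfl | rfl) <;> assumption
      exact Subgroup.commutator_mono this this
    have hc' : c ∈ Cfsg.powerClosure p k H' :=
      powerClosure_mono hle hc
    obtain ⟨e, heH, hce⟩ := hpow c⁻¹ (inv_mem hc')
    obtain ⟨z, hz, hzp⟩ := ih _ (small (a * b) (mul_mem ha hb)) (a * b)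
      (Subgroup.mem_sup_left (Subgroup.mem_zpowers _)) e (Subgroup.mem_sup_right heH)
    exact ⟨z, (proper _ (mul_mem ha hb)).le hz, by rw [← hzp, he, ← hce, mul_inv_cancel_right]⟩

theorem powerClosure_eq {k : ℕ} (hG : LevelReg p k G) (H : Subgroup G) :
    {y : G | ∃ x ∈ H, y = x ^ p ^ k} = (Cfsg.powerClosure p k H : Set G) := by
  refine Set.Subset.antisymm Subgroup.subset_closure fun y hy => ?_
  induction hy using Subgroup.closure_induction with
  | mem x hx => exact hx
  | one => exact ⟨1, one_mem _, (one_pow _).symm⟩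
  | mul x y _ _ ihx ihy =>
    obtain ⟨e, he, rfl⟩ := ihx
    obtain ⟨f, hf, rfl⟩ := ihy
    exact exists_pow_eq hG _ H le_rfl e he f hf
  | inv x _ ihx =>
    obtain ⟨e, he, rfl⟩ := ihx
    exact ⟨e⁻¹, inv_mem he, (inv_pow e _).symm⟩

theorem commutator_powerClosure_le {k : ℕ} (hG : LevelReg p k G) (H : Subgroup G) :
    ⁅Cfsg.powerClosure p k H, Cfsg.powerClosure p k H⁆ ≤ Cfsg.powerClosure p k ⁅H, H⁆ := by
  have hN : H ≤ Subgroup.normalizer (Cfsg.powerClosure p k ⁅H, H⁆ : Set G) :=
    normalizer_powerClosure (Subgroup.normalizer_commutator_ge_right H H)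
  have hpH : Cfsg.powerClosure p k H ≤ H := by
    rw [Cfsg.powerClosure, Subgroup.closure_le]
    rintro _ ⟨x, hx, rfl⟩
    exact pow_mem hx _
  rw [Subgroup.commutator_le]
  intro u hu v hv
  rw [← SetLike.mem_coe, ← powerClosure_eq hG H] at hv
  obtain ⟨a, ha, rfl⟩ := hv
  have hb := hpH hu
  set c := ⁅u, a⁆ with hcdef
  have hc : c ∈ ⁅H, H⁆ := Subgroup.commutator_mem_commutator hb ha
  obtain ⟨d, hd, he⟩ := hG.2 c a
  have hle : Subgroup.closure ({c, a} : Set G) ≤ H := by
    rw [Subgroup.closure_le]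
    rintro _ (rfl | rfl)
    · exact Subgroup.commutator_le_self H hc
    · exact ha
  have hd' : d ∈ Cfsg.powerClosure p k ⁅H, H⁆ :=
    powerClosure_mono (Subgroup.commutator_mono hle hle) hd
  have e1 : c * a = u * a * u⁻¹ := by rw [hcdef, commutatorElement_def]; group
  rw [commutatorElement_def, ← conj_pow, ← e1, he, mul_assoc (c ^ p ^ k), mul_assoc (c ^ p ^ k)]
  refine mul_mem (Subgroup.subset_closure ⟨c, hc, rfl⟩) ?_
  exact (Subgroup.mem_normalizer_iff.1 (hN (pow_mem ha _)) d).1 hd'

/-- Hall: regularity follows from the condition at exponent `p`. -/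
theorem regular_of_levelOne (hG : LevelReg p 1 G) : Cfsg.IsRegularPGroup p G := by
  refine ⟨hG.1, ?_⟩
  intro a b n
  suffices H : ∀ n : ℕ, ∀ H : Subgroup G, ∀ a ∈ H, ∀ b ∈ H,
      ∃ c ∈ Cfsg.powerClosure p n ⁅H, H⁆, (a * b) ^ p ^ n = a ^ p ^ n * b ^ p ^ n * c from
    H n _ a (Subgroup.subset_closure (by simp)) b (Subgroup.subset_closure (by simp))
  clear a b n
  intro n
  induction n with
  | zero => intro H a _ b _; exact ⟨1, one_mem _, by simp⟩
  | succ n ih =>
    intro H a ha b hb
    obtain ⟨c, hc, he⟩ := hG.2 a b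
    have hle : Subgroup.closure ({a, b} : Set G) ≤ H := by
      rw [Subgroup.closure_le]; rintro _ (rfl | rfl) <;> assumption
    have hc' : c ∈ (Cfsg.powerClosure p 1 ⁅H, H⁆ : Set G) :=
      powerClosure_mono (Subgroup.commutator_mono hle hle) hc
    rw [← powerClosure_eq hG] at hc'
    obtain ⟨e, heH, rfl⟩ := hc'
    simp only [pow_one] at he
    set L := Cfsg.powerClosure p 1 H with hL
    have hLmem : ∀ x ∈ H, x ^ p ∈ L := fun x hx =>
      Subgroup.subset_closure ⟨x, hx, by rw [pow_one]⟩
    have heH' : e ∈ H := Subgroup.commutator_le_self H heH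
    obtain ⟨d₁, hd₁, h₁⟩ := ih L (a ^ p * b ^ p) (mul_mem (hLmem a ha) (hLmem b hb)) (e ^ p) (hLmem e heH')
    obtain ⟨d₂, hd₂, h₂⟩ := ih L (a ^ p) (hLmem a ha) (b ^ p) (hLmem b hb)
    have hLe : Cfsg.powerClosure p n ⁅L, L⁆ ≤ Cfsg.powerClosure p (n + 1) ⁅H, H⁆ := by
      rw [Cfsg.powerClosure, Subgroup.closure_le]
      rintro _ ⟨x, hx, rfl⟩
      have hx' := commutator_powerClosure_le hG H hx
      rw [← SetLike.mem_coe, ← powerClosure_eq hG] at hx'
      obtain ⟨w, hw, rfl⟩ := hx'
      exact Subgroup.subset_closure ⟨w, hw, by rw [← pow_mul, pow_one, pow_succ']⟩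
    refine ⟨d₂ * (e ^ p) ^ p ^ n * d₁, mul_mem (mul_mem (hLe hd₂)
      (Subgroup.subset_closure ⟨e, heH, by rw [← pow_mul, pow_succ']⟩)) (hLe hd₁), ?_⟩
    rw [pow_succ', pow_mul, he, h₁, h₂, ← pow_mul a, ← pow_mul b]
    simp only [mul_assoc]

end Cfsg.Agent.RegularP
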