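import Cfsg.Agent.Lib.Solvable.NilpotentFrattini
import Cfsg.Agent.Lib.Transfer.PGroup
import Mathlib.GroupTheory.Frattini
import Mathlib.GroupTheory.GroupAction.Quotient
import Mathlib.LinearAlgebra.Matrix.GeneralLinearGroup.Card
import Mathlib.LinearAlgebra.Dimension.Finite
import Mathlib.Algebra.Module.ZMod
import Mathlib.FieldTheory.Finite.Basic
import Mathlib.FieldTheory.Finiteness
import Mathlib.Algebra.Field.ZMod
import Mathlib.LinearAlgebra.Basis.VectorSpace
import Mathlib.LinearAlgebra.FreeModule.Finite.Basic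
import Mathlib.LinearAlgebra.Matrix.ToLin

/-! The order of the automorphism group of a `p`-group in terms of the Frattini quotient (Burnside-Hall). -/

set_option autoImplicit false
set_option linter.style.haveILetI false

open scoped commutatorElement

namespace Cfsg.Agent.FrattiniAut

variable {P : Type*} [Group P] [Finite P] {p n r : ℕ} [hp : Fact p.Prime]

/-- A free action has group order dividing the number of points. -/
theorem card_dvd_of_free {A T : Type*} [Group A] [Finite A] [MulAction A T] [Finite T]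
    (h : ∀ t : T, MulAction.stabilizer A t = ⊥) : Nat.card A ∣ Nat.card T := by
  classical
  haveI := Fintype.ofFinite (MulAction.orbitRel.Quotient A T)
  rw [Nat.card_congr (MulAction.selfEquivSigmaOrbitsQuotientStabilizer A T), Nat.card_sigma]
  refine Finset.dvd_sum fun w _ => ?_
  rw [← Subgroup.index_eq_card, h, Subgroup.index_bot]

theorem module_facts {W : Type*} [AddCommGroup W] [Finite W] [Module (ZMod p) W]
    (hcard : Nat.card W = p ^ r) :
    (∃ t : Fin r → W, ∀ S : AddSubgroup W, (∀ i, t i ∈ S) → S = ⊤) ∧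
      Nat.card (W ≃+ W) = ∏ i ∈ Finset.range r, (p ^ r - p ^ i) := by
  classical
  have hfr : Module.finrank (ZMod p) W = r := by
    have h := Module.natCard_eq_pow_finrank (K := ZMod p) (V := W)
    rw [Nat.card_zmod, hcard] at h
    exact (Nat.pow_right_injective hp.out.two_le h).symm
  let b := Module.finBasisOfFinrankEq (ZMod p) W hfr
  refine ⟨⟨fun i => b i, fun S hS => ?_⟩, ?_⟩
  · rw [eq_top_iff]
    intro v hv
    clear hv
    induction (b.mem_span v) using Submodule.span_induction with
    | mem x hx => obtain ⟨i, rfl⟩ := hx; exact hS i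
    | zero => exact zero_mem _
    | add x y _ _ hx hy => exact add_mem hx hy
    | smul c x _ hx =>
      rw [← ZMod.natCast_zmod_val c, Nat.cast_smul_eq_nsmul]
      exact S.nsmul_mem hx _
  · let e1 : (W ≃+ W) ≃ (W ≃ₗ[ZMod p] W) :=
      { toFun := fun f => { f with map_smul' := fun c x => ZMod.map_smul f.toAddMonoidHom c x }
        invFun := fun g => g.toAddEquiv
        left_inv := fun f => by ext; rfl
        right_inv := fun g => by ext; rfl }
    rw [Nat.card_congr e1,
      ← Nat.card_congr (LinearMap.GeneralLinearGroup.generalLinearEquiv (ZMod p) _).toEquiv,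
      Nat.card_congr (Units.mapEquiv (LinearMap.toMatrixAlgEquiv b).toMulEquiv).toEquiv,
      Matrix.card_GL_field, ZMod.card, Finset.prod_range (f := fun i => p ^ r - p ^ i)]

theorem elemAbelian_facts {V : Type*} [CommGroup V] [Finite V] (hexp : ∀ x : V, x ^ p = 1)
    (hcard : Nat.card V = p ^ r) :
    (∃ t : Fin r → V, Subgroup.closure (Set.range t) = ⊤) ∧
      Nat.card (MulAut V) = ∏ i ∈ Finset.range r, (p ^ r - p ^ i) := by
  obtain ⟨⟨t, ht⟩, hc⟩ := @module_facts p r hp (Additive V) _ _
    (AddCommGroup.zmodModule fun x => Additive.toMul.injective (hexp (Additive.toMul x)))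
    ((Nat.card_congr Additive.toMul).trans hcard)
  refine ⟨⟨fun i => Additive.toMul (t i), ?_⟩, (Nat.card_congr MulEquiv.toAdditive).trans hc⟩
  rw [← map_eq_top_iff Subgroup.toAddSubgroup]
  exact ht _ fun i => (Subgroup.subset_closure ⟨i, rfl⟩ :
    Additive.toMul (t i) ∈ Subgroup.closure (Set.range fun i => Additive.toMul (t i)))

theorem exists_generators (hP : Nat.card P = p ^ n) (hr : (frattini P).index = p ^ r) :
    (∃ t : Fin r → P, Subgroup.closure (Set.range t) ⊔ frattini P = ⊤) ∧
      Nat.card (MulAut (P ⧸ frattini P)) = ∏ i ∈ Finset.range r, (p ^ r - p ^ i) := by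
  classical
  have hpg : IsPGroup p P := IsPGroup.of_card hP
  haveI : Group.IsNilpotent P := hpg.isNilpotent
  have hcomm : ∀ a b : P ⧸ frattini P, a * b = b * a := by
    intro a b
    obtain ⟨x, rfl⟩ := QuotientGroup.mk_surjective a
    obtain ⟨y, rfl⟩ := QuotientGroup.mk_surjective b
    rw [← QuotientGroup.mk_mul, ← QuotientGroup.mk_mul, QuotientGroup.eq]
    refine SolvStruct.commutator_le_frattini P ?_
    have : (x * y)⁻¹ * (y * x) = ⁅y⁻¹, x⁻¹⁆ := by rw [commutatorElement_def]; group
    rw [this]
    exact Subgroup.commutator_mem_commutator (Subgroup.mem_top _) (Subgroup.mem_top _)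
  letI : CommGroup (P ⧸ frattini P) := { QuotientGroup.Quotient.group (frattini P) with mul_comm := hcomm }
  have hexp : ∀ x : P ⧸ frattini P, x ^ p = 1 := by
    intro x
    obtain ⟨y, rfl⟩ := QuotientGroup.mk_surjective x
    rw [← QuotientGroup.mk_pow, QuotientGroup.eq_one_iff]
    exact Cfsg.Agent.PGroupBasics.pow_mem_frattini hpg y
  obtain ⟨⟨t, ht⟩, hc⟩ := elemAbelian_facts (p := p) (r := r) hexp
    (by rw [← Subgroup.index_eq_card, hr])
  refine ⟨⟨fun i => (t i).out, ?_⟩, hc⟩
  have hle : ⊤ ≤ (Subgroup.closure (Set.range fun i => (t i).out) ⊔ frattini P).map (QuotientGroup.mk' (frattini P)) := by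
    rw [← ht, Subgroup.closure_le]
    rintro _ ⟨i, rfl⟩
    exact ⟨_, Subgroup.mem_sup_left (Subgroup.subset_closure ⟨i, rfl⟩), QuotientGroup.out_eq' _⟩
  rw [eq_top_iff]
  intro g _
  obtain ⟨k, hk, he⟩ := hle (Subgroup.mem_top (g : P ⧸ frattini P))
  have h1 : k⁻¹ * g ∈ frattini P := QuotientGroup.eq.1 he
  have := mul_mem hk (show k⁻¹ * g ∈ _ from Subgroup.mem_sup_right (S := Subgroup.closure (Set.range fun i => (t i).out)) h1)
  rwa [mul_inv_cancel_left] at this

theorem closure_eq_top {t : Fin r → P} (h : Subgroup.closure (Set.range t) ⊔ frattini P = ⊤) :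
    Subgroup.closure (Set.range t) = ⊤ :=
  frattini_nongenerating h

/-- Automorphisms trivial on the Frattini quotient. -/
theorem card_dvd_of_trivial (hP : Nat.card P = p ^ n) (hr : (frattini P).index = p ^ r)
    (A : Subgroup (MulAut P)) (hA : ∀ α ∈ A, ∀ x : P, α x * x⁻¹ ∈ frattini P) :
    Nat.card A ∣ p ^ (r * (n - r)) := by
  classical
  obtain ⟨⟨t₀, ht₀⟩, -⟩ := exists_generators hP hr
  have hΦ : Nat.card (frattini P) = p ^ (n - r) := by
    have h := Subgroup.card_mul_index (frattini P)
    rw [hr, hP] at h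
    have hrn : r ≤ n := (Nat.pow_dvd_pow_iff_le_right hp.out.one_lt).1 (Dvd.intro_left _ h)
    apply Nat.eq_of_mul_eq_mul_right (pow_pos hp.out.pos r)
    rw [h, ← pow_add, Nat.sub_add_cancel hrn]
  let T := {t : Fin r → P // ∀ i, t i * (t₀ i)⁻¹ ∈ frattini P}
  letI : MulAction A T :=
    { smul := fun α t => ⟨fun i => (α : MulAut P) (t.1 i), fun i => by
        have := mul_mem (hA α α.2 (t.1 i)) (t.2 i)
        simpa [mul_assoc] using this⟩
      one_smul := fun t => Subtype.ext rfl
      mul_smul := fun α β t => Subtype.ext rfl }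
  have hcard : Nat.card T = p ^ (r * (n - r)) := by
    have e : T ≃ (Fin r → frattini P) :=
      { toFun := fun t i => ⟨_, t.2 i⟩
        invFun := fun f => ⟨fun i => (f i : P) * t₀ i, fun i => by simp⟩
        left_inv := fun t => Subtype.ext (funext fun i => by simp)
        right_inv := fun f => funext fun i => Subtype.ext (by simp) }
    rw [Nat.card_congr e, Nat.card_fun, hΦ, Nat.card_fin, ← pow_mul, mul_comm]
  rw [← hcard]
  refine card_dvd_of_free fun t => ?_
  rw [Subgroup.eq_bot_iff_forall]
  intro α hα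
  have hgen : Subgroup.closure (Set.range t.1) = ⊤ := by
    refine closure_eq_top (eq_top_iff.2 (ht₀ ▸ sup_le ?_ le_sup_right))
    rw [Subgroup.closure_le]
    rintro _ ⟨i, rfl⟩
    have h1 : t₀ i = (t.1 i * (t₀ i)⁻¹)⁻¹ * t.1 i := by group
    rw [h1]
    exact mul_mem (inv_mem (Subgroup.mem_sup_right (t.2 i)))
      (Subgroup.mem_sup_left (Subgroup.subset_closure ⟨i, rfl⟩))
  apply Subtype.ext
  apply MulEquiv.toMonoidHom_injective
  refine MonoidHom.eq_of_eqOn_dense hgen ?_
  rintro _ ⟨i, rfl⟩
  exact congrFun (congrArg Subtype.val hα) i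

theorem card_mulAut_dvd (hP : Nat.card P = p ^ n) (hr : (frattini P).index = p ^ r) :
    Nat.card (MulAut P) ∣ p ^ (r * (n - r)) * ∏ i ∈ Finset.range r, (p ^ r - p ^ i) := by
  have hchar : ∀ α : MulAut P, (frattini P).map (α : P →* P) = frattini P := fun α =>
    Subgroup.characteristic_iff_map_eq.1 inferInstance α
  let Φ : MulAut P →* MulAut (P ⧸ frattini P) :=
    { toFun := fun α => QuotientGroup.congr (frattini P) (frattini P) α (hchar α)
      map_one' := by
        ext x
        obtain ⟨y, rfl⟩ := QuotientGroup.mk_surjective x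
        rfl
      map_mul' := fun α β => by
        ext x
        obtain ⟨y, rfl⟩ := QuotientGroup.mk_surjective x
        rfl }
  have h1 := Subgroup.card_mul_index Φ.ker
  rw [Subgroup.index_ker] at h1
  rw [← h1]
  refine Nat.mul_dvd_mul (card_dvd_of_trivial hP hr _ fun α hα x => ?_) ?_
  · have h2 : ((α x : P) : P ⧸ frattini P) = (x : P ⧸ frattini P) :=
      DFunLike.congr_fun (MonoidHom.mem_ker.1 hα) (x : P ⧸ frattini P)
    rw [← QuotientGroup.eq_one_iff, QuotientGroup.mk_mul, QuotientGroup.mk_inv, h2, mul_inv_cancel]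
  · rw [← (exists_generators hP hr).2]
    exact Subgroup.card_subgroup_dvd_card _

end Cfsg.Agent.FrattiniAut
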