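import Mathlib.GroupTheory.Perm.Basic
import Mathlib.GroupTheory.Perm.Sign
import Mathlib.GroupTheory.Perm.ViaEmbedding
import Mathlib.GroupTheory.Solvable
import Mathlib.Data.Fintype.Perm
import Mathlib.GroupTheory.Coset.Card
import Mathlib.Data.Nat.Factorial.BigOperators
import Mathlib.Tactic.FinCases

/-!
Symmetric groups of degree at most 4 are solvable; subgroups generated by few transpositions
act inside small blocks.
-/

set_option autoImplicit false

namespace Cfsg.Agent.PermSmall

open Equiv

/-- The four-group inside `S₄`. -/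
def fourGroup : Subgroup (Perm (Fin 4)) where
  carrier := {σ | σ * σ = 1 ∧ (σ = 1 ∨ ∀ i, σ i ≠ i)}
  one_mem' := ⟨one_mul 1, Or.inl rfl⟩
  mul_mem' := by
    have key : ∀ a b : Perm (Fin 4), (a * a = 1 ∧ (a = 1 ∨ ∀ i, a i ≠ i)) →
        (b * b = 1 ∧ (b = 1 ∨ ∀ i, b i ≠ i)) →
        (a * b * (a * b) = 1 ∧ (a * b = 1 ∨ ∀ i, (a * b) i ≠ i)) := by decide +kernel
    intro a b
    exact key a b
  inv_mem' := by
    intro a ha
    have : a⁻¹ = a := inv_eq_of_mul_eq_one_right ha.1
    simpa [this] using ha

theorem isSolvable_perm_fin_four : Group.IsSolvable (Perm (Fin 4)) := by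
  have h3 : ∀ a b : Perm (Fin 4), (a * a = 1 ∧ (a = 1 ∨ ∀ i, a i ≠ i)) →
      (b * b = 1 ∧ (b = 1 ∨ ∀ i, b i ≠ i)) → a * b = b * a := by decide +kernel
  have h2 : ∀ a b : Perm (Fin 4), Perm.sign a = 1 → Perm.sign b = 1 →
      (a * b * a⁻¹ * b⁻¹ * (a * b * a⁻¹ * b⁻¹) = 1 ∧
        (a * b * a⁻¹ * b⁻¹ = 1 ∨ ∀ i, (a * b * a⁻¹ * b⁻¹) i ≠ i)) := by decide +kernel
  refine ⟨⟨3, ?_⟩⟩
  have s1 : derivedSeries (Perm (Fin 4)) 1 ≤ (Perm.sign (α := Fin 4)).ker := by
    rw [derivedSeries_succ]
    refine Subgroup.commutator_le.2 fun a _ b _ => ?_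
    rw [MonoidHom.mem_ker, map_commutatorElement, commutatorElement_eq_one_iff_mul_comm]
    exact mul_comm _ _
  have s2 : derivedSeries (Perm (Fin 4)) 2 ≤ fourGroup := by
    rw [derivedSeries_succ]
    refine le_trans (Subgroup.commutator_mono s1 s1) (Subgroup.commutator_le.2 fun a ha b hb => ?_)
    rw [commutatorElement_def]
    exact h2 a b (MonoidHom.mem_ker.1 ha) (MonoidHom.mem_ker.1 hb)
  rw [derivedSeries_succ, eq_bot_iff]
  refine le_trans (Subgroup.commutator_mono s2 s2) (Subgroup.commutator_le.2 fun a ha b hb => ?_)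
  rw [Subgroup.mem_bot, commutatorElement_eq_one_iff_mul_comm]
  exact h3 a b ha hb

theorem isSolvable_perm_of_card_le_four {α : Type*} [Finite α] (h : Nat.card α ≤ 4) :
    Group.IsSolvable (Perm α) := by
  haveI := Fintype.ofFinite α
  rw [Nat.card_eq_fintype_card] at h
  let ι : α ↪ Fin 4 := (Fintype.equivFin α).toEmbedding.trans (Fin.castLEEmb h)
  haveI := isSolvable_perm_fin_four
  exact Group.isSolvable_of_isSolvable_injective (Perm.viaEmbeddingHom_injective ι)

theorem isSolvable_pi {ι : Type*} [Finite ι] (P : ι → Type*) [∀ i, Group (P i)]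
    (h : ∀ i, Group.IsSolvable (P i)) : Group.IsSolvable (∀ i, P i) := by
  classical
  haveI := Fintype.ofFinite ι
  choose n hn using fun i => (h i).solvable
  refine ⟨⟨Finset.univ.sup n, eq_bot_iff.2 fun x hx => ?_⟩⟩
  rw [Subgroup.mem_bot]
  funext i
  have h1 := map_derivedSeries_le_derivedSeries (Pi.evalMonoidHom P i) (Finset.univ.sup n)
    (Subgroup.mem_map_of_mem _ hx)
  have h2 := derivedSeries_antitone (P i) (Finset.le_sup (f := n) (Finset.mem_univ i)) h1
  rw [hn i, Subgroup.mem_bot] at h2
  exact h2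

/-- The group of permutations preserving `f` maps into the product of the symmetric groups of the fibres. -/
def fibreHom {α β : Type*} (f : α → β) (H : Subgroup (Perm α)) (hH : ∀ σ ∈ H, ∀ a, f (σ a) = f a) :
    H →* ∀ b : β, Perm {a // f a = b} where
  toFun σ b := (σ : Perm α).subtypePerm (fun a => by rw [hH _ σ.2 a])
  map_one' := by funext b; ext a; rfl
  map_mul' σ τ := by funext b; ext a; rfl

theorem fibreHom_injective {α β : Type*} (f : α → β) (H : Subgroup (Perm α))
    (hH : ∀ σ ∈ H, ∀ a, f (σ a) = f a) : Function.Injective (fibreHom f H hH) := by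
  intro σ τ h
  apply Subtype.ext
  ext a
  exact congrArg (fun g => ((g (f a) ⟨a, rfl⟩ : {x // f x = f a}) : α)) h

/-- A labelling invariant under the given transpositions with small fibres. -/
theorem exists_label {α : Type*} [Fintype α] [DecidableEq α] (l : List (Perm α))
    (hl : ∀ σ ∈ l, σ.IsSwap) :
    ∃ f : α → α, (∀ σ ∈ l, ∀ a, f (σ a) = f a) ∧
      Fintype.card α ≤ (Finset.univ.image f).card + l.length := by
  induction l with
  | nil => exact ⟨id, by simp, by simp⟩
  | cons s l ih =>
    obtain ⟨f, hf, hc⟩ := ih fun σ hσ => hl σ (List.mem_cons_of_mem _ hσ)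
    obtain ⟨x, y, hxy, rfl⟩ := hl s (List.mem_cons_self ..)
    let g : α → α := fun a => if f a = f y then f x else f a
    refine ⟨g, ?_, ?_⟩
    · intro σ hσ a
      rcases List.mem_cons.1 hσ with rfl | hσ
      · rw [swap_apply_def]
        by_cases h1 : a = x
        · subst h1; simp only [if_pos, g]
          split_ifs <;> simp_all
        · by_cases h2 : a = y
          · subst h2; simp only [if_neg h1, g]
            split_ifs <;> simp_all
          · simp [h1, h2]
      · simp only [g, hf σ hσ a]
    · have hsub : Finset.univ.image f ⊆ insert (f y) (Finset.univ.image g) := by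
        intro z hz
        obtain ⟨a, -, rfl⟩ := Finset.mem_image.1 hz
        by_cases h : f a = f y
        · rw [h]; exact Finset.mem_insert_self _ _
        · exact Finset.mem_insert_of_mem (Finset.mem_image.2 ⟨a, Finset.mem_univ _, by simp [g, h]⟩)
      have := (Finset.card_le_card hsub).trans (Finset.card_insert_le _ _)
      simp only [List.length_cons]
      omega

/-- Fibre cardinality bound from the number of labels. -/
theorem card_fibre_le {α : Type*} [Fintype α] [DecidableEq α] (f : α → α) {m : ℕ}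
    (h : Fintype.card α ≤ (Finset.univ.image f).card + m) (b : α) :
    Nat.card {a // f a = b} ≤ m + 1 := by
  rw [Nat.card_eq_fintype_card, Fintype.card_subtype]
  have hsub : Finset.univ.image f ⊆ insert b ((Finset.univ.filter fun a => f a ≠ b).image f) := by
    intro z hz
    obtain ⟨a, -, rfl⟩ := Finset.mem_image.1 hz
    by_cases hb : f a = b
    · rw [hb]; exact Finset.mem_insert_self _ _
    · exact Finset.mem_insert_of_mem (Finset.mem_image_of_mem _ (Finset.mem_filter.2 ⟨Finset.mem_univ _, hb⟩))
  have h1 := ((Finset.card_le_card hsub).trans (Finset.card_insert_le _ _)).trans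
    (Nat.add_le_add_right Finset.card_image_le 1)
  have h2 := Finset.card_filter_add_card_filter_not (s := (Finset.univ : Finset α)) (fun a => f a = b)
  rw [Finset.card_univ] at h2
  simp only [ne_eq] at h1
  omega

/-- The subgroup generated by `m` transpositions acts faithfully on blocks of size at most `m + 1`. -/
theorem exists_fibre_embedding {α : Type*} [Fintype α] [DecidableEq α] (l : List (Perm α))
    (hl : ∀ σ ∈ l, σ.IsSwap) :
    ∃ (f : α → α) (φ : Subgroup.closure {σ | σ ∈ l} →* ∀ b : α, Perm {a // f a = b}),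
      Function.Injective φ ∧ ∀ b, Nat.card {a // f a = b} ≤ l.length + 1 := by
  obtain ⟨f, hf, hc⟩ := exists_label l hl
  have hH : ∀ σ ∈ Subgroup.closure {σ | σ ∈ l}, ∀ a, f (σ a) = f a := by
    intro σ hσ
    induction hσ using Subgroup.closure_induction with
    | mem x hx => exact hf x hx
    | one => intro a; rfl
    | mul x y _ _ hx hy => intro a; rw [Perm.mul_apply, hx, hy]
    | inv x _ hx => intro a; have := hx (x⁻¹ a); simpa using this.symm
  exact ⟨f, fibreHom f _ hH, fibreHom_injective f _ hH, card_fibre_le f hc⟩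

end Cfsg.Agent.PermSmall
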