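import Mathlib.GroupTheory.Sylow
import Mathlib.GroupTheory.Nilpotent
import Mathlib.GroupTheory.SpecificGroups.Cyclic
import Cfsg.Prelude.Def_Solvable

/-!
Index powers of elements of the Fitting subgroup, and prime-power parts of elements.
-/

set_option autoImplicit false

namespace Cfsg.Agent.FiniteGroup

variable {G : Type*} [Group G]

/-- A subgroup containing every power of `x` of prime power order contains `x`. -/
theorem mem_of_primePow_mem [Finite G] (L : Subgroup G) (x : G)
    (h : ∀ p : ℕ, p.Prime → ∀ y ∈ Subgroup.zpowers x, (∃ k, orderOf y = p ^ k) → y ∈ L) :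
    x ∈ L := by
  have hle : Subgroup.zpowers x ≤ L := by
    by_contra hne
    have h1 : L.relIndex (Subgroup.zpowers x) ≠ 1 := fun h1 => hne (Subgroup.relIndex_eq_one.1 h1)
    obtain ⟨p, hp, hdvd⟩ := Nat.exists_prime_and_dvd h1
    haveI := Fact.mk hp
    obtain ⟨P⟩ : Nonempty (Sylow p (Subgroup.zpowers x)) := inferInstance
    have hPL : (P : Subgroup (Subgroup.zpowers x)) ≤ L.subgroupOf (Subgroup.zpowers x) := by
      intro y hy
      refine Subgroup.mem_subgroupOf.2 (h p hp _ y.2 ?_)
      obtain ⟨k, hk⟩ := IsPGroup.iff_orderOf.1 P.isPGroup' ⟨y, hy⟩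
      exact ⟨k, by rw [← hk, Subgroup.orderOf_mk]; exact Subgroup.orderOf_coe y⟩
    exact P.not_dvd_index (dvd_trans hdvd (Subgroup.index_dvd_of_le hPL))
  exact hle (Subgroup.mem_zpowers x)

/-- For a normal subgroup `K`, the index of `H ⊓ K` in `K` divides the index of `H`. -/
theorem relIndex_dvd_index_of_normal_right [Finite G] (H K : Subgroup G) [K.Normal] :
    H.relIndex K ∣ H.index := by
  have e : H.relIndex (H ⊔ K) = H.relIndex K := by
    have h1 := Subgroup.relIndex_mul_relIndex (⊥ : Subgroup G) H (H ⊔ K) bot_le le_sup_left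
    have h2 := Subgroup.relIndex_mul_relIndex (⊥ : Subgroup G) K (H ⊔ K) bot_le le_sup_right
    have h3 := Subgroup.relIndex_mul_relIndex (⊥ : Subgroup G) (H ⊓ K) H bot_le inf_le_left
    have h4 := Subgroup.relIndex_mul_relIndex (⊥ : Subgroup G) (H ⊓ K) K bot_le inf_le_right
    rw [Subgroup.inf_relIndex_right] at h4
    rw [Subgroup.inf_relIndex_left] at h3
    rw [Subgroup.relIndex_sup_right] at h2
    have hpos : (⊥ : Subgroup G).relIndex H ≠ 0 := by
      rw [Subgroup.relIndex_bot_left]; exact Nat.card_pos.ne'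
    apply mul_left_cancel₀ hpos
    rw [h1, ← h2, ← h3, ← h4]
    ring
  rw [← e, ← Subgroup.relIndex_mul_index (le_sup_left : H ≤ H ⊔ K)]
  exact dvd_mul_right _ _

/-- The index of a subgroup maps an element of a normal `p`-subgroup into that subgroup. -/
theorem pow_index_mem_of_mem_normal_pGroup [Finite G] {p : ℕ} [Fact p.Prime] (K : Subgroup G)
    [K.Normal] (hK : IsPGroup p K) (H : Subgroup G) {a : G} (ha : a ∈ K) : a ^ H.index ∈ H := by
  have hC : Subgroup.zpowers a ≤ K := by simpa using ha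
  obtain ⟨i, hi⟩ := hK.index (H.subgroupOf K)
  obtain ⟨j, hj⟩ := (hK.to_le hC).index (H.subgroupOf (Subgroup.zpowers a))
  have hle : H.relIndex (Subgroup.zpowers a) ≤ H.relIndex K :=
    Subgroup.relIndex_le_of_le_right hC (Subgroup.index_ne_zero_of_finite)
  have hdvd : H.relIndex (Subgroup.zpowers a) ∣ H.index := by
    refine dvd_trans ?_ (relIndex_dvd_index_of_normal_right H K)
    unfold Subgroup.relIndex at hle ⊢
    rw [hi, hj] at hle ⊢
    exact pow_dvd_pow _ ((Nat.pow_le_pow_iff_right (Fact.out (p := p.Prime)).one_lt).1 hle)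
  have hn : (H.subgroupOf (Subgroup.zpowers a)).Normal :=
    ⟨fun n hn g => by
      have hcomm : g * n = n * g := by
        obtain ⟨g, i, rfl⟩ := g
        obtain ⟨n, j, rfl⟩ := n
        ext
        exact (Commute.zpow_zpow_self a i j).eq
      rw [hcomm, mul_assoc, mul_inv_cancel, mul_one]; exact hn⟩
  have h := (H.subgroupOf (Subgroup.zpowers a)).pow_index_mem ⟨a, Subgroup.mem_zpowers a⟩
  rw [Subgroup.mem_subgroupOf] at h
  obtain ⟨c, hc⟩ := hdvd
  rw [hc, pow_mul]
  exact pow_mem h c

theorem pCore_normal (p : ℕ) : (Cfsg.pCore p G).Normal :=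
  Subgroup.sSup_normal _ (fun _ h => h.1)

theorem pCore_isPGroup (p : ℕ) [Fact p.Prime] [Finite G] : IsPGroup p (Cfsg.pCore p G) :=
  Sylow.sSup_of_normal _ (fun _ h => h.2) (fun _ h => h.1)

theorem commute_pCores [Finite G] {p q : ℕ} (hp : p.Prime) (hq : q.Prime) (hne : p ≠ q)
    {a b : G} (ha : a ∈ Cfsg.pCore p G) (hb : b ∈ Cfsg.pCore q G) : Commute a b := by
  haveI := Fact.mk hp
  haveI := Fact.mk hq
  exact Subgroup.commute_of_normal_of_disjoint _ _ (pCore_normal p) (pCore_normal q)
    (IsPGroup.disjoint_of_ne p q hne _ _ (pCore_isPGroup p) (pCore_isPGroup q)) a b ha hb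

/-- Every element of a join of `p`-cores satisfies the index power property. -/
theorem pow_index_mem_sup_pCores [Finite G] (S : Finset ℕ) (hS : ∀ p ∈ S, p.Prime)
    (H : Subgroup G) {x : G} (hx : x ∈ S.sup fun p => Cfsg.pCore p G) : x ^ H.index ∈ H := by
  induction S using Finset.induction_on generalizing x with
  | empty => simp_all
  | insert p S hpS ih =>
    rw [Finset.sup_insert] at hx
    have hp : p.Prime := hS p (Finset.mem_insert_self _ _)
    haveI := Fact.mk hp
    haveI : (Cfsg.pCore p G).Normal := pCore_normal p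
    obtain ⟨a, ha, b, hb, rfl⟩ := Subgroup.mem_sup_of_normal_left.1 hx
    have hab : Commute a b := by
      have hle : (S.sup fun q => Cfsg.pCore q G) ≤ Subgroup.centralizer {a} := by
        refine Finset.sup_le fun q hq c hc => ?_
        rw [Subgroup.mem_centralizer_singleton_iff]
        exact (commute_pCores (hS q (Finset.mem_insert_of_mem hq)) hp
          (fun e => hpS (e ▸ hq)) hc ha).eq
      exact (Subgroup.mem_centralizer_singleton_iff.1 (hle hb)).symm
    rw [hab.mul_pow]
    exact mul_mem (pow_index_mem_of_mem_normal_pGroup _ (pCore_isPGroup p) H ha)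
      (ih (fun q hq => hS q (Finset.mem_insert_of_mem hq)) hb)

/-- A normal nilpotent subgroup has its `p`-elements in the `p`-core. -/
theorem mem_pCore_of_mem_normal_nilpotent [Finite G] {p : ℕ} [Fact p.Prime] (N : Subgroup G)
    [N.Normal] [Group.IsNilpotent N] {y : G} (hy : y ∈ N) (hk : ∃ k, orderOf y = p ^ k) :
    y ∈ Cfsg.pCore p G := by
  obtain ⟨k, hk⟩ := hk
  have hP : IsPGroup p (Subgroup.zpowers (⟨y, hy⟩ : N)) :=
    IsPGroup.of_card (n := k) (by rw [Nat.card_zpowers, Subgroup.orderOf_mk, hk])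
  obtain ⟨P, hle⟩ := hP.exists_le_sylow
  haveI : (P : Subgroup N).Characteristic := P.characteristic_of_normal inferInstance
  have hn : ((P : Subgroup N).map N.subtype).Normal := inferInstance
  exact le_sSup (s := {K : Subgroup G | K.Normal ∧ IsPGroup p K})
    ⟨hn, P.isPGroup'.map N.subtype⟩ ⟨⟨y, hy⟩, hle (Subgroup.mem_zpowers _), rfl⟩

/-- The Fitting subgroup lies in the join of the `p`-cores. -/
theorem fittingSubgroup_le_sup_pCores [Finite G] :
    Cfsg.fittingSubgroup G ≤ (Nat.card G).primeFactors.sup fun p => Cfsg.pCore p G := by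
  refine sSup_le fun N hN x hx => ?_
  haveI := hN.1
  haveI := hN.2
  refine mem_of_primePow_mem _ x fun p hp y hy hk => ?_
  have hyN : y ∈ N := (Subgroup.zpowers_le.2 hx) hy
  obtain ⟨k, hk⟩ := hk
  rcases Nat.eq_zero_or_pos k with hk0 | hkpos
  · subst hk0
    rw [pow_zero, orderOf_eq_one_iff] at hk
    rw [hk]; exact one_mem _
  · haveI := Fact.mk hp
    have hmem : p ∈ (Nat.card G).primeFactors := by
      refine Nat.mem_primeFactors.2 ⟨hp, ?_, Nat.card_pos.ne'⟩
      exact dvd_trans (dvd_trans (dvd_pow_self p hkpos.ne') (hk ▸ dvd_rfl)) (orderOf_dvd_natCard y)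
    exact (Finset.le_sup (f := fun p => Cfsg.pCore p G) hmem)
      (mem_pCore_of_mem_normal_nilpotent N hyN ⟨k, hk⟩)

end Cfsg.Agent.FiniteGroup
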