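import Cfsg.Agent.Lib.Blocks.BlockOrth
import Cfsg.Agent.Lib.Char.Burnside
import Cfsg.Agent.Lib.Char.GlaubermanMod
import Cfsg.Agent.Lib.Solvable.Structure
import Cfsg.Agent.Lib.Solvable.Fitting
import Cfsg.Agent.Lib.Components.Fitting
import Cfsg.Agent.Lib.Transfer.Basic
import Mathlib.GroupTheory.Subgroup.Simple

/-!
Kazarin's theorem on conjugacy classes of prime power size: the elements of such a class
generate, modulo the largest normal `p`-subgroup, an abelian normal subgroup.

The key step uses weak block orthogonality in the principal `q`-block for a prime `q` different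
from `p` and prime to the order of the element.
-/

set_option autoImplicit false
set_option linter.style.haveILetI false

namespace Cfsg.Agent.Kazarin

open scoped ComplexConjugate
open Cfsg.Agent.Char Cfsg.Agent.Blocks

universe u

/-- A simple non-abelian normal subgroup whose quotient is generated by an element of prime power
order with a class of prime power size is centralized by that element. -/
theorem centralize_normal {H : Type u} [Group H] [Finite H] {p a : ℕ} (hp : p.Prime)
    (S : Subgroup H) [hSn : S.Normal] (hsim : IsSimpleGroup S) (hnc : ¬ IsMulCommutative S)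
    (x : H) {r k : ℕ} (hr : r.Prime) (hord : orderOf x = r ^ k)
    (htop : S ⊔ Subgroup.zpowers x = ⊤)
    (hcl : (Subgroup.centralizer ({x} : Set H)).index = p ^ a) :
    x ∈ Subgroup.centralizer (S : Set H) := by
  classical
  haveI := hsim
  haveI : Fintype H := Fintype.ofFinite H
  by_contra hx
  obtain ⟨q, hq, hqS, hqp, hqr⟩ : ∃ q : ℕ, q.Prime ∧ q ∣ Nat.card S ∧ q ≠ p ∧ q ≠ r := by
    by_contra hcon
    push Not at hcon
    refine hnc ⟨⟨?_⟩⟩
    refine IsSimpleGroup.comm_iff_isSolvable.2 (isSolvable_of_card_pq p r hp hr _ S rfl ?_)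
    refine ⟨(Nat.card S).factorization p,
      ((ordCompl[p] (Nat.card S))).primeFactorsList.length, ?_⟩
    have hall : ∀ {d : ℕ}, d.Prime → d ∣ ordCompl[p] (Nat.card S) → d = r := fun {d} hd hdd =>
      hcon d hd (hdd.trans (Nat.ordCompl_dvd _ _)) fun h =>
        Nat.not_dvd_ordCompl hp Nat.card_pos.ne' (h ▸ hdd)
    conv_lhs => rw [← Nat.ordProj_mul_ordCompl_eq_self (Nat.card S) p]
    congr 1
    exact Nat.eq_prime_pow_of_unique_prime_dvd (Nat.ordCompl_pos p Nat.card_pos.ne').ne' hall
  haveI := Fact.mk hq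
  obtain ⟨M, hM⟩ := Cfsg.Agent.GlaubermanMod.exists_isPModular q
  haveI := IsPModular.isPrime hM
  obtain ⟨z, hz⟩ := exists_prime_orderOf_dvd_card' (G := S) q hqS
  have hzq : orderOf (z : H) = q ^ 1 := by rw [Subgroup.orderOf_coe, hz, pow_one]
  have hz1 : (z : H) ≠ 1 := fun h => by
    rw [h, orderOf_one, pow_one] at hzq; exact hq.ne_one hzq.symm
  have hpa : ¬ q ∣ p ^ a := fun h =>
    hqp ((Nat.prime_dvd_prime_iff_eq hq hp).1 (hq.dvd_of_dvd_pow h))
  have hrk : ¬ q ∣ r ^ k := fun h =>
    hqr ((Nat.prime_dvd_prime_iff_eq hq hr).1 (hq.dvd_of_dvd_pow h))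
  have hpair := blockPair_eq_zero_of_not_isConj hM (isPBlock_principalBlock M H) (a := (1 : H))
    (b := (z : H)) (u := 1) (w := 1) ⟨0, by simp⟩ ⟨1, hzq⟩ (Commute.one_left _)
    (Commute.one_right _) (by simp [hq.ne_one]) (by simp [hq.ne_one])
    (fun h => hz1 (isConj_one_right.1 h))
  rw [mul_one, mul_one] at hpair
  unfold blockPair at hpair
  rw [← Finset.add_sum_erase _ _ (a := principal H)
    (Finset.mem_filter.2 ⟨Finset.mem_univ _, principal_mem_principalBlock⟩)] at hpair
  rw [show ((principal H : Cfsg.IrrCharacter H) : H → ℂ) = fun _ => 1 from rfl] at hpair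
  simp only [map_one, mul_one] at hpair
  set R := ∑ χ ∈ ((Finset.univ.filter (· ∈ Cfsg.principalBlock M H)).erase (principal H)),
    (χ : H → ℂ) 1 * conj ((χ : H → ℂ) (z : H)) with hR
  have hint : IsIntegral ℤ (R / p) := by
    rw [hR, Finset.sum_div]
    refine IsIntegral.sum _ fun χ hχ => ?_
    obtain ⟨hne, hmem⟩ := Finset.mem_erase.1 hχ
    have hblk : Cfsg.MemLocalIdeal M
        (Cfsg.centralChar (fun _ : H => (1 : ℂ)) x - Cfsg.centralChar (χ : H → ℂ) x) :=
      (Finset.mem_filter.1 hmem).2 x
    have hcc : Cfsg.centralChar (fun _ : H => (1 : ℂ)) x = ((p ^ a : ℕ) : ℂ) := by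
      rw [Cfsg.centralChar, hcl]; simp
    rw [← irr_inv χ]
    obtain ⟨n, ρ, hρ, hρχ⟩ := χ.2
    rw [← hρχ] at hblk ⊢
    rw [Representation.char_one, mul_div_right_comm]
    have hd0 : (Module.finrank ℂ (Fin n → ℂ) : ℂ) ≠ 0 :=
      Nat.cast_ne_zero.2 (finrank_pos_of_irreducible ρ).ne'
    by_cases hpd : p ∣ Module.finrank ℂ (Fin n → ℂ)
    · obtain ⟨c, hc⟩ := hpd
      rw [hc, Nat.cast_mul, mul_div_cancel_left₀ _ (Nat.cast_ne_zero.mpr hp.ne_zero)]
      exact (isIntegral_algebraMap (R := ℤ) (A := ℂ) (x := (c : ℤ))).mul (isIntegral_char ρ _)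
    exfalso
    have hcop : Nat.Coprime (Module.finrank ℂ (Fin n → ℂ))
        (Subgroup.centralizer ({x} : Set H)).index := by
      rw [hcl]; exact ((hp.coprime_iff_not_dvd.mpr hpd).pow_left a).symm
    rcases eq_zero_or_norm_eq ρ x hcop with h0 | hfull
    · rw [hcc, Cfsg.centralChar, h0, mul_zero, zero_div, sub_zero,
        natCast_memLocalIdeal_iff hM] at hblk
      exact hpa hblk
    obtain ⟨ω, hω⟩ := (norm_char_eq_iff ρ x).1 hfull
    have hcomm : ∀ s ∈ S, x * s * (s * x)⁻¹ ∈ S ⊓ ρ.ker := by
      intro s hs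
      refine ⟨?_, ?_⟩
      · rw [show x * s * (s * x)⁻¹ = (x * s * x⁻¹) * s⁻¹ by group]
        exact S.mul_mem (hSn.conj_mem s hs x) (S.inv_mem hs)
      · have he : ρ (x * s) = ρ (s * x) := by
          rw [map_mul, map_mul, hω, smul_mul_assoc, mul_smul_comm, ← Module.End.one_eq_id,
            one_mul, mul_one]
        change ρ (x * s * (s * x)⁻¹) = 1
        rw [map_mul, he, ← map_mul, mul_inv_cancel, map_one]
    rcases IsSimpleGroup.eq_bot_or_eq_top_of_normal (ρ.ker.subgroupOf S) inferInstance with
      hk | hk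
    · refine hx (Subgroup.mem_centralizer_iff.2 fun s hs => ?_)
      have hone : x * s * (s * x)⁻¹ = 1 := by
        have h2 : (⟨_, (hcomm s hs).1⟩ : S) ∈ ρ.ker.subgroupOf S := (hcomm s hs).2
        rw [hk, Subgroup.mem_bot] at h2
        exact congrArg Subtype.val h2
      exact (mul_inv_eq_one.1 hone).symm
    · have hSker : S ≤ ρ.ker := Subgroup.subgroupOf_eq_top.1 hk
      have hωk : ω ^ (r ^ k) = 1 := by
        have h := map_pow ρ x (r ^ k)
        rw [← hord, pow_orderOf_eq_one, map_one, hω, smul_pow, ← Module.End.one_eq_id,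
          one_pow] at h
        rw [← hord]
        have := congrArg (LinearMap.trace ℂ (Fin n → ℂ)) h
        simp only [map_smul, LinearMap.trace_one, smul_eq_mul] at this
        exact mul_right_cancel₀ hd0 (by rw [one_mul]; exact this.symm)
      have hωi : IsIntegral ℤ ω :=
        IsIntegral.of_pow (pow_pos hr.pos k) (by rw [hωk]; exact isIntegral_one)
      let w : Cfsg.AlgInt := ⟨ω, hωi⟩
      have hw : w = 1 := by
        refine (eq_of_sub_mem_of_pow_eq_one hM hrk (a := 1) (b := w) (one_pow _)
          (Subtype.ext (by simpa [w] using hωk)) ?_).symm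
        have hval : ρ.character x = ω * (Module.finrank ℂ (Fin n → ℂ) : ℂ) := by
          rw [Representation.character, hω, map_smul, LinearMap.trace_id, smul_eq_mul]
        rw [hcc, Cfsg.centralChar, hcl, hval, Representation.char_one, ← mul_assoc,
          mul_div_assoc, div_self hd0, mul_one] at hblk
        have hcast : (((((p ^ a : ℕ) : Cfsg.AlgInt) * (1 - w)) : Cfsg.AlgInt) : ℂ)
            = ((p ^ a : ℕ) : ℂ) - ((p ^ a : ℕ) : ℂ) * ω := by
          simp [w, mul_sub]
        rw [← hcast, memLocalIdeal_coe_iff] at hblk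
        exact (Ideal.IsPrime.mem_or_mem inferInstance hblk).resolve_left
          fun h => hpa ((IsPModular.natCast_mem_iff hM _).1 h)
      have hker : ρ.ker = ⊤ := by
        rw [eq_top_iff, ← htop, sup_le_iff, Subgroup.zpowers_le]
        refine ⟨hSker, ?_⟩
        change ρ x = 1
        rw [hω, show ω = 1 from congrArg Subtype.val hw, one_smul, Module.End.one_eq_id]
      apply hne
      apply Subtype.ext
      rw [← hρχ]
      have h1 := classInner_self_irr (isIrrCharacter_of_rep ρ)
      have hc : ρ.character = fun _ => (Module.finrank ℂ (Fin n → ℂ) : ℂ) := funext fun g => by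
        have : ρ g = 1 := (hker ▸ Subgroup.mem_top g : g ∈ ρ.ker)
        simp [Representation.character, this]
      rw [hc] at h1
      simp [Cfsg.classInner] at h1
      have h2 : n * n = 1 := by exact_mod_cast h1
      funext g
      rw [hc]
      simp [Nat.eq_one_of_mul_eq_one_left h2, principal]
  have hR1 : R = -1 := by linear_combination hpair
  rw [hR1, neg_div] at hint
  have h1 : IsIntegral ℤ (((1 : ℕ) : ℂ) / (p : ℂ)) := by simpa using hint.neg
  exact hp.ne_one (Nat.dvd_one.mp (dvd_of_isIntegral_div hp.ne_zero h1))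

variable {G : Type u} [Group G] [Finite G]

/-- An element with a class of prime power size normalizes and centralizes every simple non-abelian
subnormal subgroup. -/
theorem centralize_subnormal {p : ℕ} (hp : p.Prime) (S : Subgroup G) (hsn : S.IsSubnormal)
    (hsim : IsSimpleGroup S) (hnc : ¬ IsMulCommutative S) (x : G)
    (hcl : ∃ a, (Subgroup.centralizer ({x} : Set G)).index = p ^ a) :
    x ∈ Subgroup.centralizer (S : Set G) := by
  haveI := hsim
  set K := (Subgroup.centralizer (S : Set G)).subgroupOf (Subgroup.zpowers x) with hK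
  have hKtop : K = ⊤ := by
    refine Cfsg.Agent.FittingCores.eq_top_of_forall_sylow_le fun r hr => ?_
    haveI := Fact.mk hr
    refine ⟨default, fun y hy => ?_⟩
    obtain ⟨k, hk⟩ := (IsPGroup.iff_orderOf.1 (default : Sylow r _).isPGroup') ⟨y, hy⟩
    rw [← Subgroup.orderOf_coe, ← Subgroup.orderOf_coe] at hk
    change (y : G) ∈ Subgroup.centralizer (S : Set G)
    obtain ⟨a, ha⟩ := hcl
    have hle : Subgroup.centralizer ({x} : Set G) ≤ Subgroup.centralizer ({(y : G)} : Set G) := by
      intro c hc
      obtain ⟨i, hi⟩ := Subgroup.mem_zpowers_iff.1 y.2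
      rw [Subgroup.mem_centralizer_singleton_iff, ← hi]
      exact (Commute.zpow_right (Subgroup.mem_centralizer_singleton_iff.1 hc) i).eq
    obtain ⟨b, -, hb⟩ := (Nat.dvd_prime_pow hp).1 (ha ▸ Subgroup.index_dvd_of_le hle)
    set C := Subgroup.centralizer ({(y : G)} : Set G) with hC
    have hdvd := Cfsg.Agent.SolvStruct.relIndex_dvd_index_of_isSubnormal C hsn
    rw [hb] at hdvd
    obtain ⟨b', -, hb'⟩ := (Nat.dvd_prime_pow hp).1 hdvd
    -- `y` normalizes `S`
    have hnorm : (y : G) ∈ Subgroup.normalizer (S : Set G) := by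
      set T := S.map (MulAut.conj (y : G)).toMonoidHom with hT
      have hTsn : T.IsSubnormal := hsn.map (MulAut.conj (y : G)).surjective
      rcases Subgroup.IsSubnormal.eq_bot_or_top_of_isSimpleGroup hsim
        (hTsn.subgroupOf (K := S)) with h | h
      · exfalso
        have hCS : C.subgroupOf S = ⊥ := by
          rw [← le_bot_iff, ← h]
          intro s hs
          have hs' : (s : G) * (y : G) = (y : G) * s := Subgroup.mem_centralizer_singleton_iff.1 hs
          refine ⟨s, s.2, ?_⟩
          change (y : G) * s * (y : G)⁻¹ = s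
          rw [← hs', mul_inv_cancel_right]
        rw [Subgroup.relIndex, hCS, Subgroup.index_bot] at hb'
        refine hnc ⟨⟨?_⟩⟩
        exact IsSimpleGroup.comm_iff_isSolvable.2
          (isSolvable_of_card_pq p p hp hp _ S rfl ⟨b', 0, by rw [hb', pow_zero, mul_one]⟩)
      · have hST : S = T := Subgroup.eq_of_le_of_card_ge (Subgroup.subgroupOf_eq_top.1 h)
          (Subgroup.card_map_of_injective (MulAut.conj (y : G)).injective).le
        rw [Subgroup.mem_normalizer_iff]
        intro g
        constructor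
        · intro hg
          rw [hST]
          exact ⟨g, hg, rfl⟩
        · intro hg
          rw [hST] at hg
          obtain ⟨g', hg', he⟩ := hg
          rwa [← (MulAut.conj (y : G)).injective he]
    -- pass to `⟨S, y⟩`
    set J := S ⊔ Subgroup.zpowers (y : G) with hJ
    have hSJ : S ≤ J := le_sup_left
    have hyJ : (y : G) ∈ J := (le_sup_right : _ ≤ J) (Subgroup.mem_zpowers _)
    haveI hn : (S.subgroupOf J).Normal := (Subgroup.normal_subgroupOf_iff_le_normalizer hSJ).2
      (sup_le Subgroup.le_normalizer (Subgroup.zpowers_le.2 hnorm))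
    let y' : J := ⟨(y : G), hyJ⟩
    let S' := S.subgroupOf J
    let C' := Subgroup.centralizer ({y'} : Set J)
    have htop : S' ⊔ Subgroup.zpowers y' = ⊤ := by
      refine Subgroup.map_injective J.subtype_injective ?_
      rw [Subgroup.map_sup, Subgroup.map_subgroupOf_eq_of_le hSJ, MonoidHom.map_zpowers,
        ← MonoidHom.range_eq_map, Subgroup.range_subtype]
      rfl
    have hC' : C' = C.subgroupOf J := by
      ext g
      simp only [C', C, Subgroup.mem_subgroupOf, Subgroup.mem_centralizer_singleton_iff,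
        Subtype.ext_iff, Subgroup.coe_mul, y']
    have hidx : C'.index = p ^ b' := by
      have h1 : C'.relIndex S' = C.relIndex S := by
        rw [hC', Subgroup.relIndex_subgroupOf hSJ]
      have hsup : C' ⊔ S' = ⊤ := by
        rw [eq_top_iff, ← htop]
        exact sup_le le_sup_right (le_trans (Subgroup.zpowers_le.2
          (Subgroup.mem_centralizer_singleton_iff.2 rfl)) le_sup_left)
      have h2 : S'.relIndex C' = S'.index := by
        rw [← Subgroup.relIndex_sup_right, hsup, Subgroup.relIndex_top_right]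
      have h3 : (C' ⊓ S').index = C'.index * S'.index := by
        rw [← h2, ← Subgroup.relIndex_mul_index (inf_le_left : C' ⊓ S' ≤ C'),
          Subgroup.inf_relIndex_left, mul_comm]
      have h4 : (C' ⊓ S').index = C'.relIndex S' * S'.index := by
        rw [← Subgroup.relIndex_mul_index (inf_le_right : C' ⊓ S' ≤ S'),
          Subgroup.inf_relIndex_right]
      rw [← hb', ← h1]
      exact Nat.eq_of_mul_eq_mul_right (Nat.pos_of_ne_zero Subgroup.index_ne_zero_of_finite)
        (h3.symm.trans h4)
    have hy' := centralize_normal hp S' (MulEquiv.isSimpleGroup (Subgroup.subgroupOfEquivOfLe hSJ))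
      (fun h => hnc ⟨⟨fun s t => (Subgroup.subgroupOfEquivOfLe hSJ).symm.injective
        (by rw [map_mul, map_mul]; exact h.1.1 _ _)⟩⟩)
      y' hr (by rw [← Subgroup.orderOf_coe]; exact hk) htop hidx
    refine Subgroup.mem_centralizer_iff.2 fun s hs => ?_
    exact congrArg Subtype.val
      (Subgroup.mem_centralizer_iff.1 hy' (⟨s, hSJ hs⟩ : J) hs)
  exact Subgroup.subgroupOf_eq_top.1 hKtop (Subgroup.mem_zpowers x)

omit [Finite G] in
theorem index_centralizer_conj (g x : G) :
    (Subgroup.centralizer ({g * x * g⁻¹} : Set G)).index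
      = (Subgroup.centralizer ({x} : Set G)).index := by
  have h : Subgroup.centralizer ({g * x * g⁻¹} : Set G)
      = (Subgroup.centralizer ({x} : Set G)).map (MulAut.conj g).toMonoidHom := by
    ext y
    rw [Subgroup.mem_map_equiv, Subgroup.mem_centralizer_singleton_iff,
      Subgroup.mem_centralizer_singleton_iff, MulAut.conj_symm_apply]
    constructor <;> intro h
    · calc g⁻¹ * y * g * x = g⁻¹ * (y * (g * x * g⁻¹)) * g := by group
        _ = g⁻¹ * (g * x * g⁻¹ * y) * g := by rw [h]
        _ = x * (g⁻¹ * y * g) := by group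
    · calc y * (g * x * g⁻¹) = g * (g⁻¹ * y * g * x) * g⁻¹ := by group
        _ = g * (x * (g⁻¹ * y * g)) * g⁻¹ := by rw [h]
        _ = g * x * g⁻¹ * y := by group
  rw [h]
  exact Subgroup.index_map_equiv _ (MulAut.conj g)

/-- A nontrivial normal subgroup centralizing all non-abelian simple subnormal subgroups inside it
contains a nontrivial abelian normal subgroup. -/
theorem exists_abelian_normal (N : Subgroup G) (hN : N.Normal) (hne : N ≠ ⊥)
    (h : ∀ T : Subgroup G, T.IsSubnormal → IsSimpleGroup T → ¬ IsMulCommutative T → T ≤ N →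
      N ≤ Subgroup.centralizer (T : Set G)) :
    ∃ A : Subgroup G, A.Normal ∧ A ≠ ⊥ ∧ A ≤ N ∧ IsMulCommutative A := by
  classical
  obtain ⟨L, ⟨hLn, hLne, hLN⟩, hLmin⟩ := Set.Finite.exists_minimal
    (s := {L : Subgroup G | L.Normal ∧ L ≠ ⊥ ∧ L ≤ N}) (Set.toFinite _) ⟨N, hN, hne, le_rfl⟩
  refine ⟨L, hLn, hLne, hLN, ?_⟩
  obtain ⟨T, ⟨hTsn, hTne, hTL⟩, hTmin⟩ := Set.Finite.exists_minimal
    (s := {T : Subgroup G | T.IsSubnormal ∧ T ≠ ⊥ ∧ T ≤ L}) (Set.toFinite _)
    ⟨L, hLn.isSubnormal, hLne, le_rfl⟩
  have hTsim : IsSimpleGroup T := by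
    haveI : Nontrivial T := (Subgroup.nontrivial_iff_ne_bot T).2 hTne
    refine ⟨fun K hK => ?_⟩
    by_cases hKb : K = ⊥
    · exact Or.inl hKb
    refine Or.inr ?_
    have h1 : T ≤ K.map T.subtype := hTmin
      ⟨hK.isSubnormal.trans' hTsn, fun h0 => hKb
        ((Subgroup.map_eq_bot_iff_of_injective K T.subtype_injective).1 h0),
        (Subgroup.map_subtype_le K).trans hTL⟩ (Subgroup.map_subtype_le K)
    rw [eq_top_iff]
    intro t _
    obtain ⟨k, hk, hkt⟩ := h1 t.2
    rwa [← Subtype.ext hkt]
  by_cases hTc : IsMulCommutative T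
  · have hTr : T ≤ Cfsg.Agent.Components.solvRadical G := Cfsg.Agent.Components.subnormal_solvable_le_radical hTsn
      (Group.isSolvable_of_comm fun a b => mul_comm' a b)
    haveI := Cfsg.Agent.Components.solvRadical_solvable (G := G)
    haveI hRn : (Cfsg.Agent.Components.solvRadical G).Normal :=
      Cfsg.Agent.Components.solvRadical_normal
    haveI := hLn
    have hLR : L ≤ Cfsg.Agent.Components.solvRadical G := (hLmin (y := L ⊓ Cfsg.Agent.Components.solvRadical G)
      ⟨inferInstance, fun h0 => hTne (le_bot_iff.1 (h0 ▸ le_inf hTL hTr)),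
        inf_le_left.trans hLN⟩ inf_le_left).trans inf_le_right
    haveI hLs : Group.IsSolvable L :=
      Group.isSolvable_of_isSolvable_injective (f := Subgroup.inclusion hLR)
        (Subgroup.inclusion_injective hLR)
    haveI : Nontrivial L := (Subgroup.nontrivial_iff_ne_bot L).2 hLne
    by_cases hb : ⁅L, L⁆ = ⊥
    · have hc := Subgroup.commutator_eq_bot_iff_le_centralizer.1 hb
      exact ⟨⟨fun u v => Subtype.ext (Subgroup.mem_centralizer_iff.1 (hc v.2) u u.2)⟩⟩
    exfalso
    have hle : ⁅L, L⁆ ≤ L := Subgroup.commutator_le_left L L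
    have hge : L ≤ ⁅L, L⁆ := hLmin ⟨inferInstance, hb, hle.trans hLN⟩ hle
    have hlt := Group.IsSolvable.commutator_lt_top_of_nontrivial L
    refine hlt.ne (Subgroup.map_injective L.subtype_injective ?_)
    rw [commutator_def, Subgroup.map_commutator, ← MonoidHom.range_eq_map, Subgroup.range_subtype]
    exact le_antisymm hle hge
  · exfalso
    have hTN : T ≤ N := hTL.trans hLN
    exact hTc ⟨⟨fun u v => Subtype.ext (Subgroup.mem_centralizer_iff.1
      (h T hTsn hTsim hTc hTN (hTN v.2)) u u.2)⟩⟩

omit [Finite G] in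
theorem index_centralizer_map_dvd {G' : Type*} [Group G'] (f : G →* G')
    (hf : Function.Surjective f) (x : G) :
    (Subgroup.centralizer ({f x} : Set G')).index
      ∣ (Subgroup.centralizer ({x} : Set G)).index := by
  refine (Subgroup.index_dvd_of_le ?_).trans (Subgroup.index_map_dvd _ hf)
  rintro _ ⟨y, hy, rfl⟩
  rw [Subgroup.mem_centralizer_singleton_iff, ← map_mul, ← map_mul,
    Subgroup.mem_centralizer_singleton_iff.1 hy]

/-- With trivial `p`-core, an element of `p`-power class size generates an abelian normal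
subgroup. -/
theorem normalClosure_commutative {p : ℕ} [hp : Fact p.Prime] (hO : Cfsg.pCore p G = ⊥) (x : G)
    {a : ℕ} (hcl : (Subgroup.centralizer ({x} : Set G)).index = p ^ a) :
    Subgroup.normalClosure ({x} : Set G)
      ≤ Subgroup.centralizer (Subgroup.normalClosure ({x} : Set G) : Set G) := by
  set N := Subgroup.normalClosure ({x} : Set G) with hN
  haveI : N.Normal := Subgroup.normalClosure_normal
  set Z := N ⊓ Subgroup.centralizer (N : Set G) with hZ
  haveI : Z.Normal := inferInstance
  set f := QuotientGroup.mk' Z with hf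
  by_contra hne
  have hbar : N.map f ≠ ⊥ := by
    intro h
    apply hne
    intro n hn
    have h1 : f n ∈ (⊥ : Subgroup (G ⧸ Z)) := h ▸ Subgroup.mem_map_of_mem f hn
    rw [Subgroup.mem_bot, hf, QuotientGroup.mk'_apply, QuotientGroup.eq_one_iff] at h1
    exact h1.2
  have hsurj : Function.Surjective f := QuotientGroup.mk'_surjective Z
  obtain ⟨A₀, hA₀n, hA₀ne, hA₀N, hA₀c⟩ := exists_abelian_normal (N.map f)
    (Subgroup.Normal.map inferInstance f hsurj) hbar (by
      intro T hT hTs hTc _
      rw [Subgroup.map_le_iff_le_comap, hN, Subgroup.normalClosure, Subgroup.closure_le]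
      intro c hc
      obtain ⟨x', hx', hcx⟩ := Group.mem_conjugatesOfSet_iff.1 hc
      rw [Set.mem_singleton_iff] at hx'
      subst x'
      obtain ⟨g, rfl⟩ := isConj_iff.1 hcx
      have hd := index_centralizer_map_dvd f hsurj (g * x * g⁻¹)
      rw [index_centralizer_conj, hcl] at hd
      obtain ⟨b, -, hb⟩ := (Nat.dvd_prime_pow hp.out).1 hd
      exact centralize_subnormal hp.out T hT hTs hTc _ ⟨b, hb⟩)
  set A := A₀.comap f with hA
  haveI hAn : A.Normal := hA₀n.comap f
  have hAN : A ≤ N := by
    refine (Subgroup.comap_mono hA₀N).trans (le_of_eq ?_)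
    rw [Subgroup.comap_map_eq, hf, QuotientGroup.ker_mk', sup_eq_left]
    exact inf_le_left
  haveI : Group.IsNilpotent A₀ :=
    letI : CommGroup A₀ :=
      { (inferInstance : Group A₀) with mul_comm := fun u v => hA₀c.1.1 u v }
    CommGroup.isNilpotent
  haveI : Group.IsNilpotent A := Subgroup.isNilpotent_of_ker_le_center
    ((f.comp A.subtype).codRestrict A₀ fun u => u.2) (by
      intro u hu
      have h1 : f (u : G) = 1 := congrArg Subtype.val hu
      rw [hf, QuotientGroup.mk'_apply, QuotientGroup.eq_one_iff] at h1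
      rw [Subgroup.mem_center_iff]
      exact fun v => Subtype.ext (Subgroup.mem_centralizer_iff.1 h1.2 _ (hAN v.2)))
  have hxA : A ≤ Subgroup.centralizer ({x} : Set G) := by
    refine (Cfsg.Agent.FittingCores.le_iSup_pCore hAn).trans (iSup_le ?_)
    rintro ⟨q, hq⟩
    by_cases hqp : q = p
    · subst hqp
      change Cfsg.pCore q G ≤ _
      rw [hO]; exact bot_le
    haveI := Fact.mk hq
    set C := Subgroup.centralizer ({x} : Set G) with hC
    obtain ⟨Q⟩ : Nonempty (Sylow q C) := inferInstance
    have hQi : ¬ q ∣ ((Q : Subgroup C).map C.subtype).index := by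
      rw [Subgroup.index_map_subtype, hcl, hq.dvd_mul]
      rintro (h | h)
      · exact Q.not_dvd_index h
      · exact hqp ((Nat.prime_dvd_prime_iff_eq hq hp.out).1 (hq.dvd_of_dvd_pow h))
    let P := (Q.isPGroup'.map C.subtype).toSylow hQi
    have hn : (Cfsg.pCore q G).Normal := Cfsg.Agent.FittingCores.pCore_normal q
    have hle : Cfsg.pCore q G ≤ (P : Subgroup G) := by
      have h2 : IsPGroup q ((P : Subgroup G) ⊔ Cfsg.pCore q G : Subgroup G) :=
        P.isPGroup'.to_sup_of_normal_right (Cfsg.Agent.FittingCores.pCore_isPGroup q)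
      exact le_sup_right.trans (le_of_eq (P.is_maximal' h2 le_sup_left))
    refine hle.trans ?_
    exact Subgroup.map_subtype_le _
  have hNA : N ≤ Subgroup.centralizer (A : Set G) := by
    refine Subgroup.normalClosure_le_normal ?_
    rw [Set.singleton_subset_iff]
    exact Subgroup.mem_centralizer_iff.2 fun g hg =>
      Subgroup.mem_centralizer_singleton_iff.1 (hxA hg)
  have hAZ : A ≤ Z := le_inf hAN fun g hg => Subgroup.mem_centralizer_iff.2 fun n hn =>
    (Subgroup.mem_centralizer_iff.1 (hNA hn) g hg).symm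
  refine hA₀ne ?_
  rw [← Subgroup.map_comap_eq_self_of_surjective hsurj A₀, ← hA, eq_bot_iff,
    Subgroup.map_le_iff_le_comap, MonoidHom.comap_bot, hf, QuotientGroup.ker_mk']
  exact hAZ

/-- Kazarin: two conjugates of an element of `p`-power class size commute modulo `O_p`. -/
theorem commutator_mem_pCore {p : ℕ} [hp : Fact p.Prime] (x : G)
    (hcl : ∃ a : ℕ, (Subgroup.centralizer ({x} : Set G)).index = p ^ a) (g h : G) :
    (g * x * g⁻¹) * (h * x * h⁻¹) * (g * x * g⁻¹)⁻¹ * (h * x * h⁻¹)⁻¹ ∈ Cfsg.pCore p G := by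
  haveI := Cfsg.Agent.FittingCores.pCore_normal (G := G) p
  set f := QuotientGroup.mk' (Cfsg.pCore p G) with hf
  obtain ⟨a, ha⟩ := hcl
  obtain ⟨b, -, hb⟩ := (Nat.dvd_prime_pow hp.out).1
    (ha ▸ index_centralizer_map_dvd f (QuotientGroup.mk'_surjective _) x)
  have hc := normalClosure_commutative (Cfsg.Agent.PBasic.pCore_quotient_pCore p G) (f x) hb
  rw [← QuotientGroup.eq_one_iff, ← QuotientGroup.mk'_apply, ← hf]
  have hm : ∀ u : G, f (u * x * u⁻¹) ∈ Subgroup.normalClosure ({f x} : Set (G ⧸ Cfsg.pCore p G)) :=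
    fun u => by
      rw [map_mul, map_mul, map_inv]
      exact (Subgroup.normalClosure_normal).conj_mem _
        (Subgroup.subset_normalClosure (Set.mem_singleton _)) _
  have hcom := Subgroup.mem_centralizer_iff.1 (hc (hm h)) _ (hm g)
  rw [map_mul, map_mul, map_mul, map_inv, map_inv, hcom]
  group

end Cfsg.Agent.Kazarin
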