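import Mathlib.GroupTheory.Sylow
import Mathlib.GroupTheory.Solvable
import Mathlib.GroupTheory.GroupAction.Quotient
import Mathlib.GroupTheory.Commutator.Basic
import Mathlib.GroupTheory.QuotientGroup.Basic

/-!
Index bounds, commutators into normal subgroups, orbit lengths.
-/

set_option autoImplicit false

namespace Cfsg.Agent.FiniteGroup

variable {G : Type*} [Group G]

/-- If `Y.relIndex C` is the full index, then `Y C = G`. -/
theorem exists_mul_of_relIndex_eq_index [Finite G] (Y C : Subgroup G)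
    (h : Y.relIndex C = Y.index) (g : G) : ∃ c ∈ C, ∃ y ∈ Y, g = c * y := by
  classical
  let f : C ⧸ Y.subgroupOf C → G ⧸ Y :=
    Quotient.map' (fun c : C => (c : G)) (fun a b hab => by
      rw [QuotientGroup.leftRel_apply] at hab ⊢
      simpa [Subgroup.mem_subgroupOf] using hab)
  have hf : Function.Injective f := by
    intro a b
    induction a using QuotientGroup.induction_on with | _ a =>
    induction b using QuotientGroup.induction_on with | _ b =>
    intro hab
    have hab' : ((a : G) : G ⧸ Y) = ((b : G) : G ⧸ Y) := hab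
    rw [QuotientGroup.eq] at hab' ⊢
    simpa [Subgroup.mem_subgroupOf] using hab'
  have hbij : Function.Bijective f :=
    hf.bijective_of_nat_card_le (by
      show Y.index ≤ Y.relIndex C
      exact h.ge)
  obtain ⟨q, hq⟩ := hbij.2 (g : G ⧸ Y)
  induction q using QuotientGroup.induction_on with | _ c =>
  have hq' : ((c : G) : G ⧸ Y) = (g : G ⧸ Y) := hq
  rw [QuotientGroup.eq] at hq'
  exact ⟨c, c.2, _, hq', by group⟩

/-- For `K` normal, `H.relIndex (H ⊔ K) = H.relIndex K`. -/
theorem relIndex_sup_of_normal [Finite G] (H K : Subgroup G) [K.Normal] :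
    H.relIndex (H ⊔ K) = H.relIndex K := by
  have h1 := Subgroup.relIndex_mul_relIndex (⊥ : Subgroup G) H (H ⊔ K) bot_le le_sup_left
  have h2 := Subgroup.relIndex_mul_relIndex (⊥ : Subgroup G) K (H ⊔ K) bot_le le_sup_right
  have h3 := Subgroup.relIndex_mul_relIndex (⊥ : Subgroup G) (H ⊓ K) H bot_le inf_le_left
  have h4 := Subgroup.relIndex_mul_relIndex (⊥ : Subgroup G) (H ⊓ K) K bot_le inf_le_right
  rw [Subgroup.inf_relIndex_right] at h4
  rw [Subgroup.inf_relIndex_left] at h3
  rw [Subgroup.relIndex_sup_right] at h2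
  have hpos : (⊥ : Subgroup G).relIndex H ≠ 0 := by
    rw [Subgroup.relIndex_bot_left]; exact Nat.card_pos.ne'
  apply mul_left_cancel₀ hpos
  rw [h1, ← h2, ← h3, ← h4]
  ring

/-- A commutator lies in a normal subgroup iff it is trivial in the quotient. -/
theorem commutator_le_iff_map_le_centralizer (S A B : Subgroup G) [S.Normal] :
    ⁅A, B⁆ ≤ S ↔ A.map (QuotientGroup.mk' S) ≤
      Subgroup.centralizer ((B.map (QuotientGroup.mk' S) : Subgroup (G ⧸ S)) : Set (G ⧸ S)) := by
  rw [← Subgroup.commutator_eq_bot_iff_le_centralizer, ← Subgroup.map_commutator,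
    Subgroup.map_eq_bot_iff, QuotientGroup.ker_mk']

theorem commutator_iSup_le {ι : Sort*} (S L : Subgroup G) [S.Normal] (f : ι → Subgroup G)
    (h : ∀ i, ⁅f i, L⁆ ≤ S) : ⁅⨆ i, f i, L⁆ ≤ S := by
  rw [commutator_le_iff_map_le_centralizer, Subgroup.map_iSup]
  exact iSup_le fun i => (commutator_le_iff_map_le_centralizer S _ L).1 (h i)

theorem commutator_sup_right_le (S A B C : Subgroup G) [S.Normal]
    (hB : ⁅A, B⁆ ≤ S) (hC : ⁅A, C⁆ ≤ S) : ⁅A, B ⊔ C⁆ ≤ S := by
  rw [Subgroup.commutator_comm, commutator_le_iff_map_le_centralizer, Subgroup.map_sup]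
  rw [Subgroup.commutator_comm, commutator_le_iff_map_le_centralizer] at hB hC
  exact sup_le hB hC

/-- The three subgroups lemma modulo a normal subgroup. -/
theorem three_subgroups_le (S A B C : Subgroup G) [S.Normal]
    (h1 : ⁅⁅B, C⁆, A⁆ ≤ S) (h2 : ⁅⁅C, A⁆, B⁆ ≤ S) : ⁅⁅A, B⁆, C⁆ ≤ S := by
  have e : ∀ X : Subgroup G, X ≤ S ↔ X.map (QuotientGroup.mk' S) = ⊥ := fun X => by
    rw [Subgroup.map_eq_bot_iff, QuotientGroup.ker_mk']
  rw [e, Subgroup.map_commutator, Subgroup.map_commutator] at h1 h2 ⊢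
  exact Subgroup.commutator_commutator_eq_bot_of_rotate h1 h2

/-- A subgroup lifting a solvable quotient by a solvable kernel. -/
theorem isSolvable_of_quotient (N : Subgroup G) [N.Normal] (hN : Group.IsSolvable N)
    (hQ : Group.IsSolvable (G ⧸ N)) : Group.IsSolvable G :=
  Group.isSolvable_of_ker_le_range N.subtype (QuotientGroup.mk' N)
    (by rw [QuotientGroup.ker_mk', Subgroup.range_subtype])

end Cfsg.Agent.FiniteGroup
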