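import Mathlib.RepresentationTheory.Maschke
import Mathlib.RepresentationTheory.Basic
import Mathlib.RingTheory.Finiteness.Nakayama
import Mathlib.Algebra.Module.ZMod
import Mathlib.GroupTheory.OrderOfElement
import Mathlib.Algebra.Field.ZMod
import Mathlib.LinearAlgebra.Dual.Lemmas
import Mathlib.Tactic.NoncommRing
import Mathlib.RingTheory.Int.Basic

/-!
Fixed point free representations of a finite group can be moved to any characteristic prime to its order.
-/

set_option autoImplicit false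

namespace Cfsg.Agent.FpfLift

open MonoidAlgebra

universe u

variable {A : Type u} [Group A] [Finite A]

/-- The sum of the powers of `h`. -/
noncomputable def nrm (k : Type) [CommRing k] (h : A) : MonoidAlgebra k A :=
  ∑ i ∈ Finset.range (orderOf h), MonoidAlgebra.of k A (h ^ i)

/-- The ideal generated by the norm elements, as an additive subgroup. -/
noncomputable def nrmIdeal (k : Type) [CommRing k] (A : Type u) [Group A] :
    AddSubgroup (MonoidAlgebra k A) :=
  AddSubgroup.closure {x | ∃ (h : A) (r s : MonoidAlgebra k A), h ≠ 1 ∧ x = r * nrm k h * s}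

/-- No nonzero multiple of `1` lies in the ideal generated by the norms. -/
def Good (A : Type u) [Group A] : Prop :=
  ∀ m : ℤ, (m • (1 : MonoidAlgebra ℤ A)) ∈ nrmIdeal ℤ A → m = 0

omit [Finite A] in
theorem mul_mem_nrmIdeal {k : Type} [CommRing k] {x : MonoidAlgebra k A} (hx : x ∈ nrmIdeal k A)
    (y : MonoidAlgebra k A) : y * x ∈ nrmIdeal k A := by
  induction hx using AddSubgroup.closure_induction with
  | mem x hx =>
    obtain ⟨h, r, s, hh, rfl⟩ := hx
    exact AddSubgroup.subset_closure ⟨h, y * r, s, hh, by simp only [mul_assoc]⟩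
  | zero => rw [mul_zero]; exact zero_mem _
  | add a b _ _ iha ihb => rw [mul_add]; exact add_mem iha ihb
  | neg a _ iha => rw [mul_neg]; exact neg_mem iha

theorem of_mul_nrm (k : Type) [CommRing k] (h : A) : MonoidAlgebra.of k A h * nrm k h = nrm k h := by
  rw [nrm, Finset.mul_sum]
  have hn : 0 < orderOf h := orderOf_pos h
  obtain ⟨n, hn'⟩ := Nat.exists_eq_succ_of_ne_zero hn.ne'
  rw [hn', Finset.sum_range_succ, Finset.sum_range_succ']
  congr 1
  · refine Finset.sum_congr rfl fun i _ => ?_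
    rw [← map_mul, ← pow_succ']
  · rw [← map_mul, ← pow_succ', ← Nat.succ_eq_add_one, ← hn', pow_orderOf_eq_one, pow_zero]

theorem nrm_sq (k : Type) [CommRing k] (h : A) : nrm k h * nrm k h = orderOf h • nrm k h := by
  have hp : ∀ i : ℕ, MonoidAlgebra.of k A (h ^ i) * nrm k h = nrm k h := by
    intro i
    induction i with
    | zero => rw [pow_zero, map_one, one_mul]
    | succ i ih => rw [pow_succ', map_mul, mul_assoc, ih, of_mul_nrm]
  conv_lhs => arg 1; rw [nrm]
  rw [Finset.sum_mul, Finset.sum_congr rfl (fun i _ => hp i), Finset.sum_const, Finset.card_range]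

/-- Reduction of coefficients. -/
noncomputable def red (q : ℕ) : MonoidAlgebra ℤ A →+* MonoidAlgebra (ZMod q) A :=
  MonoidAlgebra.mapRingHom A (Int.castRingHom (ZMod q))

theorem red_nrm (q : ℕ) (h : A) : red q (nrm ℤ h) = nrm (ZMod q) h := by
  simp [nrm, red]

omit [Finite A] in
theorem red_surjective (q : ℕ) : Function.Surjective (red (A := A) q) := by
  intro x
  induction x using MonoidAlgebra.induction_on with
  | of g => exact ⟨MonoidAlgebra.of ℤ A g, by simp [red]⟩
  | add a b ha hb =>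
    obtain ⟨a', rfl⟩ := ha
    obtain ⟨b', rfl⟩ := hb
    exact ⟨a' + b', map_add _ _ _⟩
  | smul r a ha =>
    obtain ⟨a', rfl⟩ := ha
    obtain ⟨z, rfl⟩ := ZMod.intCast_surjective r
    exact ⟨z • a', by rw [map_zsmul, Int.cast_smul_eq_zsmul]⟩

theorem exists_eq_smul_of_red_eq_zero (q : ℕ) {x : MonoidAlgebra ℤ A} (hx : red q x = 0) :
    ∃ z, x = (q : ℤ) • z := by
  classical
  haveI : Fintype A := Fintype.ofFinite A
  refine ⟨∑ a : A, MonoidAlgebra.single a (x.coeff a / (q : ℤ)), ?_⟩
  apply MonoidAlgebra.ext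
  ext b
  have hb : (q : ℤ) ∣ x.coeff b := by
    rw [← ZMod.intCast_zmod_eq_zero_iff_dvd]
    have := congrArg (fun y : MonoidAlgebra (ZMod q) A => y.coeff b) hx
    simpa [red] using this
  rw [MonoidAlgebra.coeff_smul, Finsupp.smul_apply, smul_eq_mul, MonoidAlgebra.coeff_sum,
    Finsupp.finsetSum_apply]
  simp [Finsupp.single_apply, Int.mul_ediv_cancel' hb]

/-- Congruence modulo `q ^ j`. -/
def Div (q j : ℕ) (x : MonoidAlgebra ℤ A) : Prop := ∃ z, x = ((q : ℤ) ^ j) • z

omit [Finite A] in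
theorem Div.add {q j : ℕ} {x y : MonoidAlgebra ℤ A} (hx : Div q j x) (hy : Div q j y) : Div q j (x + y) := by
  obtain ⟨a, rfl⟩ := hx
  obtain ⟨b, rfl⟩ := hy
  exact ⟨a + b, (smul_add _ _ _).symm⟩

omit [Finite A] in
theorem Div.mul {q i j : ℕ} {x y : MonoidAlgebra ℤ A} (hx : Div q i x) (hy : Div q j y) :
    Div q (i + j) (x * y) := by
  obtain ⟨a, rfl⟩ := hx
  obtain ⟨b, rfl⟩ := hy
  exact ⟨a * b, by rw [smul_mul_assoc, mul_smul_comm, smul_smul, ← pow_add]⟩

omit [Finite A] in
theorem Div.left {q j : ℕ} {y : MonoidAlgebra ℤ A} (x : MonoidAlgebra ℤ A) (hy : Div q j y) :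
    Div q j (x * y) := by
  have := Div.mul (i := 0) (x := x) ⟨x, by rw [pow_zero, one_smul]⟩ hy
  rwa [zero_add] at this

omit [Finite A] in
theorem Div.right {q j : ℕ} {x : MonoidAlgebra ℤ A} (hx : Div q j x) (y : MonoidAlgebra ℤ A) :
    Div q j (x * y) := by
  have := hx.mul (j := 0) (y := y) ⟨y, by rw [pow_zero, one_smul]⟩
  rwa [add_zero] at this

omit [Finite A] in
theorem Div.smul {q j : ℕ} {x : MonoidAlgebra ℤ A} (c : ℤ) (hx : Div q j x) : Div q j (c • x) := by
  obtain ⟨a, rfl⟩ := hx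
  exact ⟨c • a, smul_comm _ _ _⟩

omit [Finite A] in
theorem Div.mono {q i j : ℕ} {x : MonoidAlgebra ℤ A} (hij : i ≤ j) (hx : Div q j x) : Div q i x := by
  obtain ⟨a, rfl⟩ := hx
  exact ⟨((q : ℤ) ^ (j - i)) • a, by rw [smul_smul, ← pow_add, Nat.add_sub_cancel' hij]⟩

/-- Idempotents lift modulo every power of `q`. -/
theorem exists_lift {q : ℕ} {ε : MonoidAlgebra (ZMod q) A} (hε : ε * ε = ε) : ∀ k : ℕ,
    ∃ e : MonoidAlgebra ℤ A, red q e = ε ∧ Div q (2 ^ k) (e * e - e) := by
  intro k
  induction k with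
  | zero =>
    obtain ⟨e, rfl⟩ := red_surjective (A := A) q ε
    obtain ⟨z, hz⟩ := exists_eq_smul_of_red_eq_zero q (x := e * e - e)
      (by rw [map_sub, map_mul, hε, sub_self])
    exact ⟨e, rfl, z, by rw [hz, pow_zero, pow_one]⟩
  | succ k ih =>
    obtain ⟨e, he, hd⟩ := ih
    refine ⟨e + (e * e - e) * (1 - (e + e)), ?_, ?_⟩
    · rw [map_add, map_mul, map_sub, map_mul, he, hε, sub_self, zero_mul, add_zero]
    · have key : (e + (e * e - e) * (1 - (e + e))) * (e + (e * e - e) * (1 - (e + e))) -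
          (e + (e * e - e) * (1 - (e + e))) =
          (e * e - e) * (e * e - e) * ((4 : ℤ) • (e * e) - (4 : ℤ) • e - (3 : ℤ) • (1 : MonoidAlgebra ℤ A)) := by
        noncomm_ring
      rw [key, pow_succ, mul_two]
      exact (hd.mul hd).right _

theorem good_of_idempotent {q : ℕ} (hq : q.Prime) (hqA : ¬ q ∣ Nat.card A)
    {ε : MonoidAlgebra (ZMod q) A} (hε : ε * ε = ε) (hne : ε ≠ 0)
    (hN : ∀ (h : A), h ≠ 1 → ∀ r, nrm (ZMod q) h * r * ε = 0) : Good A := by
  intro m hm
  by_contra hm0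
  set k := m.natAbs + 1 with hk
  obtain ⟨e, he, hd⟩ := exists_lift hε k
  have hdk : Div q k (e * e - e) := hd.mono k.lt_two_pow_self.le
  have hzero : ∀ j, j ≤ k → ∀ (h : A), h ≠ 1 → ∀ r, Div q j (nrm ℤ h * r * e) := by
    intro j
    induction j with
    | zero => intro _ h _ r; exact ⟨_, by rw [pow_zero, one_smul]⟩
    | succ j ih =>
      intro hj h hh r
      obtain ⟨z, hz⟩ := ih (Nat.le_of_succ_le hj) h hh r
      set N := nrm ℤ h with hN'
      have hz' : Div q 1 (N * z * e) := by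
        obtain ⟨w, hw⟩ := exists_eq_smul_of_red_eq_zero q (x := N * z * e)
          (by rw [map_mul, map_mul, hN', red_nrm, he, hN h hh])
        exact ⟨w, by rw [pow_one, hw]⟩
      have h1 : Div q (j + 1) ((orderOf h : ℤ) • (N * r * e)) := by
        have e1 : (orderOf h : ℤ) • (N * r * e) = N * (N * r * e) * e + (-1 : ℤ) • (N * N * r * (e * e - e)) := by
          rw [natCast_zsmul, ← smul_mul_assoc, ← smul_mul_assoc, hN', ← nrm_sq]
          noncomm_ring
        rw [e1]
        refine Div.add ?_ ((((hdk.mono hj).left _)).smul _)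
        rw [hz, mul_smul_comm, smul_mul_assoc]
        obtain ⟨w, hw⟩ := hz'
        exact ⟨w, by rw [hw, smul_smul, pow_one, ← pow_succ]⟩
      have hcop : IsCoprime ((orderOf h : ℤ)) ((q : ℤ) ^ (j + 1)) := by
        rw [← Nat.cast_pow, Nat.isCoprime_iff_coprime]
        exact Nat.Coprime.pow_right _ ((hq.coprime_iff_not_dvd.2 fun hd' =>
          hqA (hd'.trans (orderOf_dvd_natCard h))).symm)
      obtain ⟨a, b, hab⟩ := hcop
      have e2 : N * r * e = a • ((orderOf h : ℤ) • (N * r * e)) + b • (((q : ℤ) ^ (j + 1)) • (N * r * e)) := by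
        rw [smul_smul, smul_smul, ← add_smul, hab, one_smul]
      rw [e2]
      exact (h1.smul a).add (Div.smul b ⟨_, rfl⟩)
  have hI : ∀ x ∈ nrmIdeal ℤ A, Div q k (x * e) := by
    intro x hx
    induction hx using AddSubgroup.closure_induction with
    | mem x hx =>
      obtain ⟨h, r, s, hh, rfl⟩ := hx
      rw [mul_assoc, mul_assoc]
      exact Div.left r (by rw [← mul_assoc]; exact hzero k le_rfl h hh s)
    | zero => exact ⟨0, by rw [zero_mul, smul_zero]⟩
    | add a b _ _ iha ihb => rw [add_mul]; exact iha.add ihb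
    | neg a _ iha =>
      rw [neg_mul, ← neg_one_zsmul]
      exact iha.smul _
  obtain ⟨z, hz⟩ := hI _ hm
  obtain ⟨b, hb⟩ : ∃ b, ε.coeff b ≠ 0 := by
    by_contra hc
    push Not at hc
    exact hne (MonoidAlgebra.ext (Finsupp.ext fun b => by rw [hc b]; rfl))
  have hcoef : ((q : ℤ) ^ k) ∣ m * e.coeff b := by
    refine ⟨z.coeff b, ?_⟩
    have := congrArg (fun y : MonoidAlgebra ℤ A => y.coeff b) hz
    rwa [smul_mul_assoc, one_mul, MonoidAlgebra.coeff_smul, MonoidAlgebra.coeff_smul, Finsupp.smul_apply,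
      Finsupp.smul_apply, smul_eq_mul, smul_eq_mul] at this
  have hqe : ¬ (q : ℤ) ∣ e.coeff b := fun hd' => hb (by
    rw [← he]
    simpa [red, ZMod.intCast_zmod_eq_zero_iff_dvd] using hd')
  have hqp : Prime (q : ℤ) := Nat.prime_iff_prime_int.1 hq
  have h2 : ((q : ℤ) ^ k) ∣ m := hqp.pow_dvd_of_dvd_mul_right k hqe hcoef
  have h3 := Nat.le_of_dvd (Int.natAbs_pos.2 hm0) (Int.natAbs_dvd_natAbs.2 h2)
  rw [Int.natAbs_pow, Int.natAbs_natCast] at h3
  exact absurd ((Nat.lt_pow_self hq.one_lt).trans_le h3) (by omega)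

/-- A fixed point free elementary abelian module in coprime characteristic makes `A` good. -/
theorem good_of_fpf {q : ℕ} (hq : q.Prime) (hqA : ¬ q ∣ Nat.card A) {V : Type*} [AddCommGroup V]
    [Nontrivial V] (hV : ∀ v : V, q • v = 0) (ρ : A →* AddMonoid.End V)
    (hfpf : ∀ h : A, h ≠ 1 → ∀ v : V, ρ h v = v → v = 0) : Good A := by
  classical
  haveI := Fact.mk hq
  haveI : Module (ZMod q) V := AddCommGroup.zmodModule hV
  haveI : NeZero (Nat.card A : ZMod q) := ⟨fun h => hqA ((ZMod.natCast_eq_zero_iff _ _).1 h)⟩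
  let σ : Representation (ZMod q) A V :=
    { toFun := fun a => (ρ a).toZModLinearMap q
      map_one' := LinearMap.ext fun v => by rw [map_one]; rfl
      map_mul' := fun a b => LinearMap.ext fun v => by rw [map_mul]; rfl }
  let Φ := σ.asAlgebraHom
  obtain ⟨v, hv⟩ := exists_ne (0 : V)
  let L : Submodule (MonoidAlgebra (ZMod q) A) (MonoidAlgebra (ZMod q) A) :=
    { carrier := {r | Φ r v = 0}
      add_mem' := fun {a b} ha hb => by
        simp only [Set.mem_setOf_eq, map_add, LinearMap.add_apply] at *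
        rw [ha, hb, add_zero]
      zero_mem' := by simp
      smul_mem' := fun c r hr => by
        simp only [Set.mem_setOf_eq, smul_eq_mul, map_mul, Module.End.mul_apply] at *
        rw [hr, map_zero] }
  obtain ⟨L', hL'⟩ := MonoidAlgebra.Submodule.exists_isCompl (k := ZMod q) (G := A) L
  obtain ⟨l, hl, ε, hε, hle⟩ := Submodule.mem_sup.1 (hL'.sup_eq_top.ge (Submodule.mem_top (x := 1)))
  have hdisj : ∀ x, x ∈ L → x ∈ L' → x = 0 := fun x h1 h2 => by
    have := hL'.inf_eq_bot.le ⟨h1, h2⟩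
    exact (Submodule.mem_bot _).1 this
  have hεε : ε * ε = ε := by
    have h1 : ε * l = 0 := by
      refine hdisj _ (L.smul_mem ε hl) ?_
      have : ε * l = ε - ε * ε := by rw [eq_sub_iff_add_eq, ← mul_add, hle, mul_one]
      rw [this]
      exact L'.sub_mem hε (L'.smul_mem ε hε)
    have := congrArg (ε * ·) hle
    simpa [mul_add, h1] using this
  refine good_of_idempotent hq hqA hεε ?_ fun h hh r => hdisj _ ?_ (L'.smul_mem _ hε)
  · intro h0
    rw [h0, add_zero] at hle
    refine hv ?_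
    have h1 : Φ l v = 0 := hl
    rw [hle, map_one] at h1
    exact h1
  · show Φ (nrm (ZMod q) h * r * ε) v = 0
    rw [mul_assoc, map_mul, Module.End.mul_apply]
    set w := Φ (r * ε) v
    refine hfpf h hh _ ?_
    show ρ h (Φ (nrm (ZMod q) h) w) = Φ (nrm (ZMod q) h) w
    conv_rhs => rw [← of_mul_nrm, map_mul, Module.End.mul_apply]
    simp only [Φ, MonoidAlgebra.of_apply, Representation.asAlgebraHom_single_one]
    rfl

/-- A good group has a fixed point free module in every characteristic prime to its order. -/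
theorem exists_fpf_of_good (hA : Good A) {q : ℕ} (hq : q.Prime) (hqA : ¬ q ∣ Nat.card A) :
    ∃ (M : Type u) (_ : AddCommGroup M), Finite M ∧ Nontrivial M ∧ (∀ v : M, q • v = 0) ∧
      ∃ ρ : A →* AddMonoid.End M, ∀ h : A, h ≠ 1 → ∀ v : M, ρ h v = v → v = 0 := by
  classical
  haveI := Fact.mk hq
  haveI : Finite (MonoidAlgebra (ZMod q) A) :=
    Finite.of_injective (fun x a => x.coeff a) fun x y h => MonoidAlgebra.ext (Finsupp.ext fun a => congrFun h a)
  set J := nrmIdeal (ZMod q) A with hJ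
  let ρ : A →* AddMonoid.End (MonoidAlgebra (ZMod q) A ⧸ J) :=
    { toFun := fun a => QuotientAddGroup.map J J (AddMonoidHom.mulLeft (MonoidAlgebra.of (ZMod q) A a))
        fun x hx => mul_mem_nrmIdeal hx _
      map_one' := AddMonoidHom.ext fun x => by
        obtain ⟨x, rfl⟩ := QuotientAddGroup.mk_surjective x
        show QuotientAddGroup.mk _ = _
        rw [AddMonoidHom.coe_mulLeft, map_one, one_mul]
        rfl
      map_mul' := fun a b => AddMonoidHom.ext fun x => by
        obtain ⟨x, rfl⟩ := QuotientAddGroup.mk_surjective x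
        show QuotientAddGroup.mk _ = QuotientAddGroup.mk _
        simp only [AddMonoidHom.coe_mulLeft, map_mul, mul_assoc] }
  have hone : (1 : MonoidAlgebra (ZMod q) A) ∉ J := by
    intro h1
    have hmap : J ≤ (nrmIdeal ℤ A).map (red q).toAddMonoidHom := by
      rw [hJ, nrmIdeal, AddSubgroup.closure_le]
      rintro _ ⟨h, r, s, hh, rfl⟩
      obtain ⟨r', rfl⟩ := red_surjective q r
      obtain ⟨s', rfl⟩ := red_surjective q s
      exact ⟨r' * nrm ℤ h * s', AddSubgroup.subset_closure ⟨h, r', s', hh, rfl⟩,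
        by simp [red_nrm]⟩
    obtain ⟨i, hi, hi1⟩ := hmap h1
    obtain ⟨z, hz⟩ := exists_eq_smul_of_red_eq_zero q (x := 1 - i) (by
      rw [map_sub, map_one, show red q i = 1 from hi1, sub_self])
    let I : Submodule ℤ (MonoidAlgebra ℤ A) := (nrmIdeal ℤ A).toIntSubmodule
    haveI : Module.Finite ℤ (MonoidAlgebra ℤ A) := by
      haveI : Fintype A := Fintype.ofFinite A
      refine Module.Finite.of_surjective (Fintype.linearCombination ℤ (fun a : A => MonoidAlgebra.of ℤ A a)) ?_
      intro x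
      induction x using MonoidAlgebra.induction_on with
      | of g => exact ⟨Pi.single g 1, by rw [Fintype.linearCombination_apply_single, one_smul]⟩
      | add a b ha hb =>
        obtain ⟨a', rfl⟩ := ha
        obtain ⟨b', rfl⟩ := hb
        exact ⟨a' + b', map_add _ _ _⟩
      | smul r a ha =>
        obtain ⟨a', rfl⟩ := ha
        exact ⟨r • a', map_smul _ _ _⟩
    obtain ⟨r, hr, hr0⟩ := Submodule.exists_sub_one_mem_and_smul_eq_zero_of_fg_of_le_smul
      (Ideal.span {(q : ℤ)}) (⊤ : Submodule ℤ (MonoidAlgebra ℤ A ⧸ I)) Module.Finite.fg_top (by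
        intro x _
        obtain ⟨x, rfl⟩ := Submodule.Quotient.mk_surjective I x
        have e : (Submodule.Quotient.mk x : MonoidAlgebra ℤ A ⧸ I) = (q : ℤ) • Submodule.Quotient.mk (x * z) := by
          rw [← Submodule.Quotient.mk_smul, Submodule.Quotient.eq, ← mul_smul_comm, ← hz, mul_sub, mul_one, sub_sub_cancel]
          exact mul_mem_nrmIdeal (k := ℤ) (A := A) hi x
        rw [e]
        exact Submodule.smul_mem_smul (Ideal.mem_span_singleton_self _) Submodule.mem_top)
    have h0 : r • (1 : MonoidAlgebra ℤ A) ∈ nrmIdeal ℤ A :=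
      (Submodule.Quotient.mk_eq_zero I).1 (hr0 (Submodule.Quotient.mk 1) Submodule.mem_top)
    rw [hA r h0, zero_sub, neg_mem_iff, Ideal.mem_span_singleton] at hr
    exact hq.one_lt.ne' (by exact_mod_cast Int.eq_one_of_dvd_one (Int.natCast_nonneg q) hr)
  refine ⟨MonoidAlgebra (ZMod q) A ⧸ J, inferInstance, inferInstance, ?_, ?_, ρ, ?_⟩
  · refine ⟨QuotientAddGroup.mk 1, 0, fun h => hone ((QuotientAddGroup.eq_zero_iff _).1 h)⟩
  · intro v
    obtain ⟨v, rfl⟩ := QuotientAddGroup.mk_surjective v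
    rw [← QuotientAddGroup.mk_nsmul, ← Nat.cast_smul_eq_nsmul (ZMod q), ZMod.natCast_self, zero_smul]
    rfl
  · intro h hh v hv
    obtain ⟨v, rfl⟩ := QuotientAddGroup.mk_surjective v
    have hpow : ∀ i : ℕ, ρ (h ^ i) (QuotientAddGroup.mk v) = QuotientAddGroup.mk v := by
      intro i
      induction i with
      | zero => rw [pow_zero, map_one]; rfl
      | succ i ih =>
        rw [pow_succ, map_mul, AddMonoid.End.coe_mul, Function.comp_apply, hv, ih]
    have hsum : (QuotientAddGroup.mk (nrm (ZMod q) h * v) : MonoidAlgebra (ZMod q) A ⧸ J) =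
        orderOf h • QuotientAddGroup.mk v := by
      rw [nrm, Finset.sum_mul, ← QuotientAddGroup.mk'_apply J, map_sum, Finset.sum_congr rfl
        (fun i _ => show QuotientAddGroup.mk' J (MonoidAlgebra.of (ZMod q) A (h ^ i) * v) =
          QuotientAddGroup.mk v from hpow i), Finset.sum_const, Finset.card_range]
    have hNv : (QuotientAddGroup.mk (nrm (ZMod q) h * v) : MonoidAlgebra (ZMod q) A ⧸ J) = 0 :=
      (QuotientAddGroup.eq_zero_iff _).2 (AddSubgroup.subset_closure
      (show nrm (ZMod q) h * v ∈ {x | ∃ (h : A) (r s : MonoidAlgebra (ZMod q) A), h ≠ 1 ∧ x = r * nrm (ZMod q) h * s} from ⟨h, 1, v, hh, by rw [one_mul]⟩))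
    rw [hNv, ← QuotientAddGroup.mk_nsmul, eq_comm,
      QuotientAddGroup.eq_zero_iff, ← Nat.cast_smul_eq_nsmul (ZMod q)] at hsum
    rw [QuotientAddGroup.eq_zero_iff]
    have hne : (orderOf h : ZMod q) ≠ 0 := fun h0 =>
      hqA (((ZMod.natCast_eq_zero_iff _ _).1 h0).trans (orderOf_dvd_natCard h))
    obtain ⟨n, hn⟩ := ZMod.natCast_zmod_surjective ((orderOf h : ZMod q)⁻¹)
    have := J.nsmul_mem hsum n
    rwa [← Nat.cast_smul_eq_nsmul (ZMod q), hn, smul_smul, inv_mul_cancel₀ hne, one_smul] at this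

/-- Products of groups of coprime orders with fixed point free modules. -/
theorem exists_fpf_prod.{v} {B : Type v} [Group B] [Finite B] (hA : Good A) (hB : Good B)
    (hco : (Nat.card A).Coprime (Nat.card B)) :
    ∃ (M : Type u) (N : Type v) (_ : AddCommGroup M) (_ : AddCommGroup N),
      Finite M ∧ Finite N ∧ Nontrivial (M →+ N) ∧
      ∃ ρ : A × B →* AddMonoid.End (M →+ N), ∀ h : A × B, h ≠ 1 → ∀ v : M →+ N, ρ h v = v → v = 0 := by
  obtain ⟨q, hqbig, hq⟩ := Nat.exists_infinite_primes (Nat.card A + Nat.card B + 1)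
  haveI := Fact.mk hq
  obtain ⟨M, _, hMf, hMn, hMq, σ, hσ⟩ := exists_fpf_of_good hA hq
    (fun hd => absurd (Nat.le_of_dvd Nat.card_pos hd) (by omega))
  obtain ⟨N, _, hNf, hNn, hNq, τ, hτ⟩ := exists_fpf_of_good hB hq
    (fun hd => absurd (Nat.le_of_dvd Nat.card_pos hd) (by omega))
  refine ⟨M, N, inferInstance, inferInstance, hMf, hNf, ?_, ?_⟩
  · haveI : Module (ZMod q) M := AddCommGroup.zmodModule hMq
    haveI : Module (ZMod q) N := AddCommGroup.zmodModule hNq
    obtain ⟨v, hv⟩ := exists_ne (0 : M)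
    obtain ⟨w, hw⟩ := exists_ne (0 : N)
    obtain ⟨φ, hφ⟩ : ∃ φ : Module.Dual (ZMod q) M, φ v ≠ 0 := by
      by_contra hc
      push Not at hc
      exact hv ((Module.forall_dual_apply_eq_zero_iff (ZMod q) v).1 hc)
    refine ⟨(φ.smulRight w).toAddMonoidHom, 0, fun h => ?_⟩
    have := DFunLike.congr_fun h v
    exact (smul_ne_zero hφ hw) this
  let ρ : A × B →* AddMonoid.End (M →+ N) :=
    { toFun := fun g =>
        { toFun := fun f => (τ g.2).comp (f.comp (σ g.1⁻¹))
          map_zero' := AddMonoidHom.ext fun _ => map_zero (τ g.2)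
          map_add' := fun f f' => AddMonoidHom.ext fun x => map_add (τ g.2) (f _) (f' _) }
      map_one' := AddMonoidHom.ext fun f => AddMonoidHom.ext fun x => by
        show τ 1 (f (σ 1⁻¹ x)) = f x
        rw [inv_one, map_one, map_one]; rfl
      map_mul' := fun g g' => AddMonoidHom.ext fun f => AddMonoidHom.ext fun x => by
        show τ (g.2 * g'.2) (f (σ (g.1 * g'.1)⁻¹ x)) = τ g.2 (τ g'.2 (f (σ g'.1⁻¹ (σ g.1⁻¹ x))))
        rw [mul_inv_rev, map_mul, map_mul]; rfl }
  refine ⟨ρ, ?_⟩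
  have h1 : ∀ a : A, a ≠ 1 → ∀ f, ρ (a, 1) f = f → f = 0 := by
    intro a ha f hf
    ext x
    have hsurj : Function.Surjective fun y : M => σ a⁻¹ y - y := by
      refine Finite.injective_iff_surjective.1 fun y y' h => sub_eq_zero.1 (hσ a⁻¹ (inv_ne_one.2 ha) _ ?_)
      have h' : σ a⁻¹ y - y = σ a⁻¹ y' - y' := h
      rw [map_sub]
      exact sub_eq_sub_iff_sub_eq_sub.1 h'
    obtain ⟨y, rfl⟩ := hsurj x
    have h2 : τ 1 (f (σ a⁻¹ y)) = f y := DFunLike.congr_fun hf y
    rw [map_one] at h2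
    show f (σ a⁻¹ y - y) = 0
    rw [map_sub, sub_eq_zero]
    exact h2
  have h2 : ∀ b : B, b ≠ 1 → ∀ f, ρ (1, b) f = f → f = 0 := by
    intro b hb f hf
    ext x
    have h3 : τ b (f (σ 1⁻¹ x)) = f x := DFunLike.congr_fun hf x
    rw [inv_one, map_one] at h3
    exact hτ b hb _ h3
  rintro ⟨a, b⟩ hne f hf
  have hpow : ∀ n : ℕ, ρ ((a, b) ^ n) f = f := by
    intro n
    induction n with
    | zero => rw [pow_zero, map_one]; rfl
    | succ n ih =>
      rw [pow_succ, map_mul]
      show ρ ((a, b) ^ n) (ρ (a, b) f) = f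
      rw [hf, ih]
  have hco' : (orderOf a).Coprime (orderOf b) :=
    (hco.coprime_dvd_left (orderOf_dvd_natCard a)).coprime_dvd_right (orderOf_dvd_natCard b)
  by_cases ha : a = 1
  · subst ha
    exact h2 b (fun hb => hne (by rw [hb]; rfl)) f hf
  · refine h1 (a ^ orderOf b) (fun he => ha ?_) f ?_
    · exact orderOf_eq_one_iff.1 (hco'.eq_one_of_dvd (orderOf_dvd_of_pow_eq_one he))
    · have := hpow (orderOf b)
      rwa [Prod.pow_mk, pow_orderOf_eq_one] at this

end Cfsg.Agent.FpfLift
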