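import Cfsg.Prelude.Def_Solvable
import Mathlib.GroupTheory.SemidirectProduct
import Mathlib.GroupTheory.SpecificGroups.Quaternion
import Mathlib.GroupTheory.SpecificGroups.Cyclic
import Mathlib.FieldTheory.Finite.Basic
import Mathlib.NumberTheory.PrimesCongruentOne
import Mathlib.Algebra.Group.Equiv.TypeTags
import Mathlib.GroupTheory.Index
import Mathlib.Algebra.Group.Shrink
import Mathlib.Logic.Small.Basic

/-!
Frobenius complements from fixed-point-free actions, and quaternion pairs of automorphisms.
-/

set_option autoImplicit false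
set_option linter.style.haveILetI false
open scoped Pointwise

namespace Cfsg.Agent.FrobCompl

/-- A group with a fixed-point-free action on a nontrivial finite group is a Frobenius complement. -/
theorem exists_frobenius {H : Type*} [Group H] [Nontrivial H] (V : Type) [Group V] [Finite V] [Nontrivial V]
    (φ : H →* MulAut V) (hfpf : ∀ h : H, h ≠ 1 → ∀ v : V, φ h v = v → v = 1) :
    ∃ (L : Type) (_ : Group L) (_ : Finite L) (C : Subgroup L),
      Cfsg.IsFrobeniusComplement C ∧ Nonempty (H ≃* C) ∧
        Nat.card (Cfsg.frobeniusKernel C) = Nat.card V := by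
  classical
  have hinj : Function.Injective φ := by
    refine (injective_iff_map_eq_one φ).2 fun h hh => by_contra fun h1 => ?_
    obtain ⟨v, hv⟩ := exists_ne (1 : V)
    exact hv (hfpf h h1 v (by rw [hh]; rfl))
  set ψ : φ.range →* MulAut V := φ.range.subtype with hψ
  have hfpf' : ∀ a : φ.range, a ≠ 1 → ∀ v : V, ψ a v = v → v = 1 := by
    rintro ⟨_, h, rfl⟩ ha v hv
    exact hfpf h (fun e => ha (Subtype.ext (show φ h = 1 by rw [e, map_one]))) v hv
  haveI : Finite (MulAut V) := Finite.of_injective (fun e : MulAut V => (e : V → V)) DFunLike.coe_injective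
  haveI : Finite (V ⋊[ψ] φ.range) := Finite.of_equiv _ SemidirectProduct.equivProd.symm
  set C := (SemidirectProduct.inr : φ.range →* V ⋊[ψ] φ.range).range with hC
  have hmemC : ∀ z : V ⋊[ψ] φ.range, z ∈ C ↔ z.left = 1 := by
    intro z
    constructor
    · rintro ⟨a, rfl⟩; rfl
    · intro hz
      exact ⟨z.right, SemidirectProduct.ext hz.symm rfl⟩
  have hconj : ∀ (g z : V ⋊[ψ] φ.range), z ∈ MulAut.conj g • C ↔ g⁻¹ * z * g ∈ C := by
    intro g z
    rw [Subgroup.mem_pointwise_smul_iff_inv_smul_mem, ← map_inv]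
    simp
  obtain ⟨v₀, hv₀⟩ := exists_ne (1 : V)
  refine ⟨V ⋊[ψ] φ.range, inferInstance, inferInstance, C, ⟨?_, ?_, ?_⟩, ?_, ?_⟩
  · intro e
    obtain ⟨h, hh⟩ := exists_ne (1 : H)
    have : (SemidirectProduct.inr (⟨φ h, h, rfl⟩ : φ.range) : V ⋊[ψ] φ.range) ∈ (⊥ : Subgroup _) :=
      e ▸ ⟨_, rfl⟩
    rw [Subgroup.mem_bot] at this
    refine hh (hinj ?_)
    rw [map_one]
    exact congrArg Subtype.val (congrArg SemidirectProduct.right this)
  · intro e
    exact hv₀ ((hmemC (SemidirectProduct.inl v₀)).1 (e ▸ Subgroup.mem_top _))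
  · intro g hg
    rw [Subgroup.eq_bot_iff_forall]
    intro z hz
    obtain ⟨hzC, hzg⟩ := hz
    have hzl := (hmemC z).1 hzC
    have hgz : g⁻¹ * z * g ∈ C := (hconj g z).1 hzg
    have hl := (hmemC _).1 hgz
    rw [SemidirectProduct.mul_left, SemidirectProduct.mul_left, SemidirectProduct.mul_right,
      SemidirectProduct.inv_left, SemidirectProduct.inv_right, hzl, map_one, mul_one] at hl
    rw [map_mul, MulAut.mul_apply, ← map_mul, map_eq_one_iff _ (ψ g.right⁻¹).injective] at hl
    by_contra hz1
    refine hg ((hmemC g).2 (hfpf' z.right (fun e => hz1 (SemidirectProduct.ext hzl e)) g.left ?_))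
    exact (inv_mul_eq_one.1 hl).symm
  · exact ⟨(MonoidHom.ofInjective hinj).trans (MonoidHom.ofInjective SemidirectProduct.inr_injective)⟩
  · refine Nat.card_congr
      { toFun := fun z => z.1.left
        invFun := fun v => ⟨SemidirectProduct.inl v, ?_⟩
        left_inv := ?_
        right_inv := fun v => rfl }
    · by_cases hv : v = 1
      · exact Or.inl (by rw [hv, map_one])
      · refine Or.inr fun g hg => hv ?_
        have h1 := (hconj g _).1 hg
        have hl := (hmemC _).1 h1
        simp only [SemidirectProduct.mul_left, SemidirectProduct.mul_right, SemidirectProduct.inv_left,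
          SemidirectProduct.inv_right, SemidirectProduct.left_inl, SemidirectProduct.right_inl, mul_one] at hl
        rw [← map_mul, ← map_mul, map_eq_one_iff _ (ψ g.right⁻¹).injective, mul_assoc] at hl
        have h2 : v = g.left * 1 * g.left⁻¹ := by rw [← hl]; group
        simpa using h2
    · rintro ⟨z, hz⟩
      refine Subtype.ext (SemidirectProduct.ext rfl ?_)
      show 1 = z.right
      rcases hz with hz | hz
      · rw [hz]; rfl
      by_contra hr
      obtain ⟨w, hw⟩ : ∃ w, w * ψ z.right w⁻¹ = z.left := by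
        refine (Finite.injective_iff_surjective (f := fun w => w * ψ z.right w⁻¹)).1 (fun a b hab => ?_) z.left
        have h1 : ψ z.right (b⁻¹ * a) = b⁻¹ * a := by
          have hab' : a * (ψ z.right a)⁻¹ = b * (ψ z.right b)⁻¹ := by
            rw [← map_inv, ← map_inv]; exact hab
          rw [map_mul, map_inv, inv_mul_eq_iff_eq_mul]
          calc ψ z.right a = (a * (ψ z.right a)⁻¹)⁻¹ * a := by group
            _ = _ := by rw [hab']; group
        exact (inv_mul_eq_one.1 (hfpf' z.right (Ne.symm hr) _ h1)).symm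
      refine hz (SemidirectProduct.inl w) ((hconj _ _).2 ((hmemC _).2 ?_))
      simp only [SemidirectProduct.mul_left, SemidirectProduct.mul_right, SemidirectProduct.inv_left,
        SemidirectProduct.inv_right, SemidirectProduct.left_inl, SemidirectProduct.right_inl, inv_one, map_one,
        MulAut.one_apply, one_mul]
      rw [← hw, map_inv]
      group

/-- The linear form of `exists_frobenius`. -/
theorem exists_frobenius_add {H : Type*} [Group H] [Nontrivial H] (M : Type) [AddCommGroup M] [Finite M]
    [Nontrivial M] (ρ : H →* AddMonoid.End M) (hfpf : ∀ h : H, h ≠ 1 → ∀ v : M, ρ h v = v → v = 0) :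
    ∃ (L : Type) (_ : Group L) (_ : Finite L) (C : Subgroup L),
      Cfsg.IsFrobeniusComplement C ∧ Nonempty (H ≃* C) ∧
        Nat.card (Cfsg.frobeniusKernel C) = Nat.card M := by
  have hinv : ∀ (h : H) (v : M), ρ h⁻¹ (ρ h v) = v := fun h v => by
    show (ρ h⁻¹ * ρ h) v = v
    rw [← map_mul, inv_mul_cancel, map_one]; rfl
  let φ : H →* MulAut (Multiplicative M) :=
    { toFun := fun h =>
        { toFun := fun v => Multiplicative.ofAdd (ρ h (Multiplicative.toAdd v))
          invFun := fun v => Multiplicative.ofAdd (ρ h⁻¹ (Multiplicative.toAdd v))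
          left_inv := fun v => congrArg Multiplicative.ofAdd (hinv h (Multiplicative.toAdd v))
          right_inv := fun v => congrArg Multiplicative.ofAdd (by
            have := hinv h⁻¹ (Multiplicative.toAdd v)
            rw [inv_inv] at this
            exact this)
          map_mul' := fun a b => congrArg Multiplicative.ofAdd (map_add (ρ h) _ _) }
      map_one' := MulEquiv.ext fun v => congrArg Multiplicative.ofAdd (by rw [map_one]; rfl)
      map_mul' := fun a b => MulEquiv.ext fun v => congrArg Multiplicative.ofAdd (by rw [map_mul]; rfl) }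
  obtain ⟨L, i1, i2, C, hC, he, hk⟩ := exists_frobenius (Multiplicative M) φ fun h h1 v hv =>
    Multiplicative.toAdd.injective (hfpf h h1 (Multiplicative.toAdd v) (congrArg Multiplicative.toAdd hv))
  exact ⟨L, i1, i2, C, hC, he, hk⟩

/-- A homomorphism out of a generalised quaternion group. -/
def quatLift {n : ℕ} [NeZero n] {K : Type*} [Group K] (A X : K) (hA : A ^ (2 * n) = 1) (hX : X ^ 2 = A ^ n)
    (hXA : X * A * X⁻¹ = A⁻¹) : QuaternionGroup n →* K :=
  MonoidHom.mk' (fun q => match q with
    | .a i => A ^ i.val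
    | .xa i => X * A ^ i.val) (by
    haveI : NeZero (2 * n) := ⟨mul_ne_zero two_ne_zero (NeZero.ne n)⟩
    have hadd : ∀ i j : ZMod (2 * n), A ^ (i + j).val = A ^ i.val * A ^ j.val := fun i j => by
      rw [ZMod.val_add, ← pow_eq_pow_mod _ hA, pow_add]
    have hflip : ∀ i : ℕ, A ^ i * X = X * (A ^ i)⁻¹ := by
      intro i
      have h1 : X⁻¹ * A * X = A⁻¹ := by
        have := congrArg (fun t => (X⁻¹ * t * X)⁻¹) hXA
        simp [mul_assoc] at this
        simpa [mul_assoc] using this.symm
      have h2 : X⁻¹ * A ^ i * X = (A ^ i)⁻¹ := by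
        rw [← inv_pow, ← h1]
        simpa using (conj_pow (a := X⁻¹) (b := A) (i := i)).symm
      rw [← h2]; group
    have hsub : ∀ i j : ZMod (2 * n), A ^ (j - i).val = (A ^ i.val)⁻¹ * A ^ j.val := fun i j => by
      rw [eq_inv_mul_iff_mul_eq, ← hadd, add_sub_cancel]
    have hn : A ^ ((n : ZMod (2 * n))).val = A ^ n := by
      rw [ZMod.val_natCast, ← pow_eq_pow_mod _ hA]
    rintro (i | i) (j | j)
    · simp only [QuaternionGroup.a_mul_a]
      exact hadd i j
    · simp only [QuaternionGroup.a_mul_xa]
      rw [hsub, ← mul_assoc (A ^ i.val), hflip, mul_assoc]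
    · simp only [QuaternionGroup.xa_mul_a]
      rw [hadd, mul_assoc]
    · simp only [QuaternionGroup.xa_mul_xa]
      rw [add_sub_assoc, hadd, hn, hsub, mul_assoc X, ← mul_assoc (A ^ i.val), hflip, ← mul_assoc,
        ← mul_assoc, ← mul_assoc, ← pow_two, hX])

/-- An abelian group of odd order with two anticommuting square roots of `-1` has square order. -/
theorem isSquare_card_of_quaternion_pair : ∀ (n : ℕ) (M : Type*) [AddCommGroup M] [Finite M],
    Nat.card M = n → Odd n → ∀ I J : M →+ M, (∀ v, I (I v) = -v) → (∀ v, J (J v) = -v) →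
      (∀ v, I (J v) = -(J (I v))) → IsSquare n := by
  intro n
  induction n using Nat.strong_induction_on with
  | _ n ih =>
    intro M _ _ hn hodd I J hI hJ hIJ
    classical
    by_cases hn1 : n = 1
    · exact hn1 ▸ IsSquare.one
    obtain ⟨q, hq, hqn⟩ := Nat.exists_prime_and_dvd hn1
    haveI : Fact q.Prime := ⟨hq⟩
    -- `q M` and `M[q]`
    set f : M →+ M := nsmulAddMonoidHom q with hf
    set A := f.range with hA
    set B := f.ker with hB
    have hcard : Nat.card A * Nat.card B = n := by
      have h := AddSubgroup.card_eq_card_quotient_mul_card_addSubgroup B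
      rw [Nat.card_congr (QuotientAddGroup.quotientKerEquivRange f).toEquiv, hn] at h
      exact h.symm
    have hI' : ∀ v ∈ A, I v ∈ A := by rintro _ ⟨w, rfl⟩; exact ⟨I w, (map_nsmul I q w).symm⟩
    have hJ' : ∀ v ∈ A, J v ∈ A := by rintro _ ⟨w, rfl⟩; exact ⟨J w, (map_nsmul J q w).symm⟩
    have hlt : Nat.card A < n := by
      have hB1 : 1 < Nat.card B := by
        obtain ⟨v, hv⟩ := exists_prime_addOrderOf_dvd_card' (G := M) q (hn ▸ hqn)
        rw [AddSubgroup.one_lt_card_iff_ne_bot]
        intro e
        have hvB : v ∈ B := by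
          show q • v = 0
          rw [← hv]; exact addOrderOf_nsmul_eq_zero v
        rw [e, AddSubgroup.mem_bot] at hvB
        rw [hvB, addOrderOf_zero] at hv
        exact hq.ne_one hv.symm
      rw [← hcard]
      exact lt_mul_of_one_lt_right Nat.card_pos hB1
    have hAsq := ih _ hlt A rfl (Odd.of_dvd_nat hodd (Dvd.intro _ hcard))
      (AddMonoidHom.codRestrict (I.comp A.subtype) A fun v => hI' v v.2)
      (AddMonoidHom.codRestrict (J.comp A.subtype) A fun v => hJ' v v.2)
      (fun v => Subtype.ext (hI v)) (fun v => Subtype.ext (hJ v)) (fun v => Subtype.ext (hIJ v))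
    -- on `M[q]` a combination of `I` and `J` is an involution
    obtain ⟨a, b, hab⟩ := ZMod.sq_add_sq q (-1)
    have hB' : ∀ v : M, q • v = 0 → q • I v = 0 ∧ q • J v = 0 := fun v hv =>
      ⟨by rw [← map_nsmul, hv, map_zero], by rw [← map_nsmul, hv, map_zero]⟩
    set U : M →+ M := a.val • I + b.val • J with hU
    set W : M →+ M := I.comp J with hW
    have hUapp : ∀ v, U v = a.val • I v + b.val • J v := fun v => rfl
    have hUU : ∀ v ∈ B, U (U v) = v := by
      intro v hv
      have hv' : q • v = 0 := hv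
      have e : U (U v) = -((a.val * a.val + b.val * b.val) • v) := by
        simp only [hUapp, map_add, map_nsmul, hI, hJ, hIJ]
        simp only [smul_add, smul_neg, add_smul, mul_smul]
        rw [smul_comm a.val b.val]
        abel
      obtain ⟨k, hk⟩ : q ∣ a.val * a.val + b.val * b.val + 1 := by
        rw [← ZMod.natCast_eq_zero_iff]
        push_cast
        rw [ZMod.natCast_zmod_val, ZMod.natCast_zmod_val, ← pow_two, ← pow_two, hab, neg_add_cancel]
      rw [e, neg_eq_iff_add_eq_zero]
      conv_lhs => arg 2; rw [← one_nsmul v]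
      rw [← add_smul, hk, mul_comm, mul_smul, hv', smul_zero]
    have hUW : ∀ v, U (W v) = -(W (U v)) := by
      intro v
      simp only [hUapp, hW, AddMonoidHom.comp_apply, map_add, map_nsmul]
      simp only [hI, hJ, hIJ, map_neg, neg_neg, smul_neg, neg_add_rev]
      abel
    set P := B ⊓ (U - AddMonoidHom.id M).ker with hP
    set N := B ⊓ (U + AddMonoidHom.id M).ker with hN
    have hPmem : ∀ v, v ∈ P ↔ q • v = 0 ∧ U v = v := fun v => by
      rw [hP, AddSubgroup.mem_inf]
      refine and_congr Iff.rfl ?_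
      rw [AddMonoidHom.mem_ker]
      exact sub_eq_zero
    have hNmem : ∀ v, v ∈ N ↔ q • v = 0 ∧ U v = -v := fun v => by
      rw [hN, AddSubgroup.mem_inf]
      refine and_congr Iff.rfl ?_
      rw [AddMonoidHom.mem_ker]
      exact add_eq_zero_iff_eq_neg
    have hq2 : Odd q := Odd.of_dvd_nat hodd hqn
    obtain ⟨h, hh⟩ := hq2
    have hhalf : ∀ v : M, q • v = 0 → (h + 1) • (v + v) = v := fun v hv => by
      rw [← two_nsmul, ← mul_nsmul', show (h + 1) * 2 = q + 1 by omega, add_nsmul, hv, zero_add, one_nsmul]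
    have hsum : Nat.card B = Nat.card P * Nat.card N := by
      rw [← Nat.card_prod]
      refine (Nat.card_eq_of_bijective (fun x : P × N => (⟨(x.1 : M) + x.2, add_mem x.1.2.1 x.2.2.1⟩ : B))
        ⟨?_, ?_⟩).symm
      · rintro ⟨⟨x, hx⟩, ⟨y, hy⟩⟩ ⟨⟨x', hx'⟩, ⟨y', hy'⟩⟩ e
        have e1 : x + y = x' + y' := congrArg Subtype.val e
        have e2 := congrArg U e1
        rw [map_add, map_add, ((hPmem x).1 hx).2, ((hNmem y).1 hy).2, ((hPmem x').1 hx').2,
          ((hNmem y').1 hy').2] at e2
        have e3 : x + x = x' + x' := by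
          calc x + x = (x + y) + (x + -y) := by abel
            _ = _ := by rw [e1, e2]; abel
        have e4 := congrArg ((h + 1) • ·) e3
        simp only [hhalf x ((hPmem x).1 hx).1, hhalf x' ((hPmem x').1 hx').1] at e4
        subst e4
        exact Prod.ext rfl (Subtype.ext (add_left_cancel e1))
      · rintro ⟨v, hv⟩
        have hv' : q • v = 0 := hv
        have hUv : q • U v = 0 := by rw [← map_nsmul, hv', map_zero]
        refine ⟨⟨⟨(h + 1) • (v + U v), (hPmem _).2 ⟨?_, ?_⟩⟩,
          ⟨(h + 1) • (v - U v), (hNmem _).2 ⟨?_, ?_⟩⟩⟩, Subtype.ext ?_⟩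
        · rw [smul_comm, smul_add, hv', hUv, add_zero, smul_zero]
        · rw [map_nsmul, map_add, hUU v hv, add_comm (U v)]
        · rw [smul_comm, smul_sub, hv', hUv, sub_zero, smul_zero]
        · rw [map_nsmul, map_sub, hUU v hv, ← smul_neg, neg_sub]
        · show (h + 1) • (v + U v) + (h + 1) • (v - U v) = v
          rw [← smul_add, show v + U v + (v - U v) = v + v by abel]
          exact hhalf v hv'
    have hWB : ∀ v : M, q • v = 0 → q • W v = 0 := fun v hv => by rw [← map_nsmul, hv, map_zero]
    have hWinj : Function.Injective W := fun x y e => by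
      have := congrArg (fun t => J (I t)) e
      simpa [hW, hI, hJ] using this
    have hPN : Nat.card P = Nat.card N := le_antisymm
      (Nat.card_le_card_of_injective (fun x : P => (⟨W x, (hNmem _).2
        ⟨hWB _ ((hPmem _).1 x.2).1, by rw [hUW, ((hPmem _).1 x.2).2]⟩⟩ : N))
        fun x y e => Subtype.ext (hWinj (congrArg Subtype.val e)))
      (Nat.card_le_card_of_injective (fun x : N => (⟨W x, (hPmem _).2
        ⟨hWB _ ((hNmem _).1 x.2).1, by rw [hUW, ((hNmem _).1 x.2).2, map_neg, neg_neg]⟩⟩ : P))
        fun x y e => Subtype.ext (hWinj (congrArg Subtype.val e)))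
    rw [← hcard, hsum, hPN]
    exact hAsq.mul (IsSquare.mul_self _)

/-- An action of a generalised quaternion group from two automorphisms. -/
theorem exists_quat {n : ℕ} [NeZero n] {M : Type*} [AddCommGroup M] (A X : M ≃+ M)
    (hA : ∀ v, (⇑A)^[2 * n] v = v) (hX : ∀ v, X (X v) = (⇑A)^[n] v) (hXA : ∀ v, A (X (A v)) = X v) :
    ∃ ρ : QuaternionGroup n →* AddMonoid.End M, ∀ (i : ZMod (2 * n)) (v : M),
      ρ (QuaternionGroup.a i) v = (⇑A)^[i.val] v ∧ ρ (QuaternionGroup.xa i) v = X ((⇑A)^[i.val] v) := by
  let u : (M ≃+ M) → (AddMonoid.End M)ˣ := fun e =>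
    ⟨e.toAddMonoidHom, e.symm.toAddMonoidHom, AddMonoidHom.ext fun v => e.apply_symm_apply v,
      AddMonoidHom.ext fun v => e.symm_apply_apply v⟩
  have hpow : ∀ (e : M ≃+ M) (k : ℕ) (v : M), ((u e ^ k : (AddMonoid.End M)ˣ) : AddMonoid.End M) v = (⇑e)^[k] v := by
    intro e k
    induction k with
    | zero => intro v; rfl
    | succ k ih =>
      intro v
      rw [pow_succ, Units.val_mul]
      show ((u e ^ k : (AddMonoid.End M)ˣ) : AddMonoid.End M) (e v) = _
      rw [ih, Function.iterate_succ_apply]
  have h1 : u A ^ (2 * n) = 1 := Units.ext (AddMonoidHom.ext fun v => (hpow A _ v).trans (hA v))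
  have h2 : u X ^ 2 = u A ^ n := Units.ext (AddMonoidHom.ext fun v =>
    ((hpow X 2 v).trans (hX v)).trans (hpow A n v).symm)
  have h3 : u X * u A * (u X)⁻¹ = (u A)⁻¹ := by
    rw [eq_inv_iff_mul_eq_one, ← mul_inv_eq_one.2 (rfl : u X = u X)]
    refine Units.ext (AddMonoidHom.ext fun v => ?_)
    show X (A (X.symm (A v))) = X (X.symm v)
    congr 1
    apply X.injective
    rw [X.apply_symm_apply]
    apply A.injective
    rw [hXA, X.apply_symm_apply]
  exact ⟨(Units.coeHom (AddMonoid.End M)).comp (quatLift (u A) (u X) h1 h2 h3),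
    fun i v => ⟨hpow A i.val v, congrArg X (hpow A i.val v)⟩⟩

/-- The linear form over a finite abelian group in any universe. -/
theorem exists_frobenius_small {H : Type*} [Group H] [Nontrivial H] (M : Type*) [AddCommGroup M] [Finite M]
    [Nontrivial M] (ρ : H →* AddMonoid.End M) (hfpf : ∀ h : H, h ≠ 1 → ∀ v : M, ρ h v = v → v = 0) :
    ∃ (L : Type) (_ : Group L) (_ : Finite L) (C : Subgroup L),
      Cfsg.IsFrobeniusComplement C ∧ Nonempty (H ≃* C) ∧
        Nat.card (Cfsg.frobeniusKernel C) = Nat.card M := by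
  let e : Shrink.{0} M ≃+ M := Shrink.addEquiv
  haveI : Finite (Shrink.{0} M) := Finite.of_equiv _ e.symm.toEquiv
  haveI : Nontrivial (Shrink.{0} M) := e.toEquiv.nontrivial
  let ρ' : H →* AddMonoid.End (Shrink.{0} M) :=
    { toFun := fun h => (e.symm.toAddMonoidHom.comp (ρ h)).comp e.toAddMonoidHom
      map_one' := AddMonoidHom.ext fun v => by
        show e.symm (ρ 1 (e v)) = v
        rw [map_one]; exact e.symm_apply_apply v
      map_mul' := fun a b => AddMonoidHom.ext fun v => by
        show e.symm (ρ (a * b) (e v)) = e.symm (ρ a (e (e.symm (ρ b (e v)))))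
        rw [map_mul, e.apply_symm_apply]; rfl }
  obtain ⟨L, i1, i2, C, hC, he, hk⟩ := exists_frobenius_add (Shrink.{0} M) ρ' fun h h1 v hv => by
    apply e.injective
    rw [map_zero]
    refine hfpf h h1 (e v) ?_
    have := congrArg e hv
    rwa [show ρ' h v = e.symm (ρ h (e v)) from rfl, e.apply_symm_apply] at this
  exact ⟨L, i1, i2, C, hC, he, hk.trans (Nat.card_congr e.toEquiv)⟩

end Cfsg.Agent.FrobCompl
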