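import Mathlib.GroupTheory.Sylow
import Mathlib.GroupTheory.Abelianization.Defs
import Cfsg.Agent.Lib.Fusion.WreathQuotient

/-! The transfer computation behind Grün's first theorem. -/

set_option autoImplicit false

namespace Cfsg.Agent.GrunFirst

open MulAction
open scoped commutatorElement
open Cfsg.Agent.FusionSys (cocycleHom cocycle_prod_fixed)

variable {G : Type*} [Group G] [Finite G] {p : ℕ} [hp : Fact p.Prime]

theorem out_conj_mem (H : Subgroup G) (g : G) (j : G ⧸ H) : (g • j).out⁻¹ * (g * j.out) ∈ H := by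
  refine QuotientGroup.eq.1 ?_
  rw [QuotientGroup.out_eq', ← smul_eq_mul, ← MulAction.Quotient.smul_mk, QuotientGroup.out_eq']

/-- A homomorphism of `P` into an abelian group which kills `P ∩ (P')^z` and `P ∩ N(P)'` kills `P ∩ G'`. -/
theorem eq_one_of_mem_commutator (P : Sylow p G) {A : Type*} [CommGroup A] (θ : ↥(P : Subgroup G) →* A)
    (h1 : ∀ (z : G) (x : ↥(P : Subgroup G)),
      (x : G) ∈ (⁅(P : Subgroup G), (P : Subgroup G)⁆).map (MulAut.conj z).toMonoidHom → θ x = 1)
    (h2 : ∀ x : ↥(P : Subgroup G), (x : G) ∈ ⁅Subgroup.normalizer ((P : Subgroup G) : Set G),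
      Subgroup.normalizer ((P : Subgroup G) : Set G)⁆ → θ x = 1)
    (u : ↥(P : Subgroup G)) (hu : (u : G) ∈ commutator G) : θ u = 1 := by
  classical
  haveI : Fintype (G ⧸ (P : Subgroup G)) := Fintype.ofFinite _
  have hS : IsPGroup p ↥(P : Subgroup G) := P.isPGroup'
  generalize hn : orderOf (u : G) = n
  induction n using Nat.strong_induction_on generalizing u with
  | _ n ih =>
  subst hn
  by_cases hu1 : (u : G) = 1
  · rw [show u = 1 from Subtype.ext hu1, map_one]
  -- conjugates of proper powers are killed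
  have hsmall : ∀ (x : G) (l : ℕ) (hx : x⁻¹ * (u : G) ^ l * x ∈ (P : Subgroup G)), p ∣ l → θ ⟨_, hx⟩ = 1 := by
    intro x l hx hl
    refine ih _ ?_ ⟨_, hx⟩ ?_ rfl
    · show orderOf (x⁻¹ * (u : G) ^ l * x) < orderOf (u : G)
      have he : x⁻¹ * (u : G) ^ l * x = MulAut.conj x⁻¹ ((u : G) ^ l) := by simp
      rw [he, MulEquiv.orderOf_eq, orderOf_pow]
      refine Nat.div_lt_self (orderOf_pos (u : G)) ?_
      obtain ⟨k, hk⟩ := IsPGroup.iff_orderOf.1 hS u
      rw [← Subgroup.orderOf_coe] at hk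
      have hk0 : k ≠ 0 := by rintro rfl; rw [pow_zero, orderOf_eq_one_iff] at hk; exact hu1 hk
      refine lt_of_lt_of_le hp.out.one_lt (Nat.le_of_dvd (Nat.gcd_pos_of_pos_left _ (orderOf_pos _)) ?_)
      exact Nat.dvd_gcd (hk ▸ dvd_pow_self p hk0) hl
    · have hn : (commutator G).Normal := inferInstance
      simpa using hn.conj_mem _ ((commutator G).pow_mem hu l) x⁻¹
  -- the transfer
  let c : G → G ⧸ (P : Subgroup G) → A := fun g j => θ ⟨_, out_conj_mem (P : Subgroup G) g j⟩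
  have hc : ∀ x y j, c (x * y) j = c x (y • j) * c y j := by
    intro x y j
    show θ _ = θ _ * θ _
    rw [← map_mul]
    congr 1
    apply Subtype.ext
    simp only [Subgroup.coe_mul, mul_smul]
    group
  have htot : ∏ j, c (u : G) j = 1 :=
    Abelianization.commutator_subset_ker (cocycleHom c hc) hu
  -- the value at a point fixed by a power of `u`
  have hval : ∀ (g : G) (j : G ⧸ (P : Subgroup G)), g • j = j →
      ∃ h : j.out⁻¹ * g * j.out ∈ (P : Subgroup G), c g j = θ ⟨_, h⟩ := by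
    intro g j hj
    have h : j.out⁻¹ * g * j.out ∈ (P : Subgroup G) := by
      have := out_conj_mem (P : Subgroup G) g j
      rwa [hj, ← mul_assoc] at this
    exact ⟨h, congrArg θ (Subtype.ext (by simp only [hj]; group))⟩
  rw [cocycle_prod_fixed c hc (u : G)] at htot
  swap
  · intro j l hne hl
    obtain ⟨h, he⟩ := hval _ j hl
    rw [he]
    refine hsmall _ l h ?_
    by_contra hndvd
    obtain ⟨k, hk⟩ := IsPGroup.iff_orderOf.1 hS u
    rw [← Subgroup.orderOf_coe] at hk
    have hco : (orderOf (u : G)).Coprime l := by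
      rw [hk]
      exact Nat.Coprime.pow_left k ((Nat.Prime.coprime_iff_not_dvd hp.out).2 hndvd)
    obtain ⟨i, hi⟩ := exists_pow_eq_self_of_coprime hco.symm
    refine hne ?_
    conv_lhs => rw [← hi]
    exact MulAction.mem_stabilizer_iff.1 (Subgroup.pow_mem _ (MulAction.mem_stabilizer_iff.2 hl) i)
  -- two fixed points in one orbit of `P` have the same value
  have horb : ∀ (y : ↥(P : Subgroup G)) (j : G ⧸ (P : Subgroup G)), (u : G) • j = j → (u : G) • y • j = y • j →
      c (u : G) (y • j) = c (u : G) j := by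
    intro y j hj hyj
    obtain ⟨ha, hca⟩ := hval _ j hj
    obtain ⟨hb, hcb⟩ := hval _ (y • j) hyj
    rw [hca, hcb]
    set x := j.out with hx
    set x' := (y • j).out with hx'
    have hh : x'⁻¹ * ((y : G) * x) ∈ (P : Subgroup G) := out_conj_mem (P : Subgroup G) (y : G) j
    let h : ↥(P : Subgroup G) := ⟨_, hh⟩
    have hz : ((y : G) * x)⁻¹ * (u : G) * ((y : G) * x) ∈ (P : Subgroup G) := by
      have := (P : Subgroup G).mul_mem ((P : Subgroup G).mul_mem ((P : Subgroup G).inv_mem hh) hb) hh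
      convert this using 1
      group
    have e1 : θ ⟨_, hz⟩ = θ ⟨_, hb⟩ := by
      rw [show (⟨_, hz⟩ : ↥(P : Subgroup G)) = h⁻¹ * ⟨_, hb⟩ * h from Subtype.ext (by simp [h]; group)]
      rw [map_mul, map_mul, map_inv, mul_comm, mul_inv_cancel_left]
    have e2 : θ ((⟨_, ha⟩ : ↥(P : Subgroup G))⁻¹ * ⟨_, hz⟩) = 1 := by
      refine h1 x⁻¹ _ ⟨⁅(u : G)⁻¹, (y : G)⁻¹⁆,
        Subgroup.commutator_mem_commutator ((P : Subgroup G).inv_mem u.2) ((P : Subgroup G).inv_mem y.2), ?_⟩
      simp [commutatorElement_def]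
      group
    rw [map_mul, map_inv, inv_mul_eq_one] at e2
    rw [← e1, e2]
  -- split into `P`-fixed points and the others
  set F := Finset.univ.filter (fun j : G ⧸ (P : Subgroup G) => (u : G) • j = j) with hF
  set F₀ := Finset.univ.filter (fun j : G ⧸ (P : Subgroup G) => j ∈ fixedPoints ↥(P : Subgroup G) (G ⧸ (P : Subgroup G))) with hF₀
  have hsub : F₀ ⊆ F := fun j hj => Finset.mem_filter.2 ⟨Finset.mem_univ _, (Finset.mem_filter.1 hj).2 u⟩
  have hrest : ∏ j ∈ F \ F₀, c (u : G) j = 1 := by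
    rw [← Finset.prod_fiberwise (F \ F₀) (fun j => (Quotient.mk'' j : MulAction.orbitRel.Quotient ↥(P : Subgroup G) (G ⧸ (P : Subgroup G))))]
    refine Finset.prod_eq_one fun q _ => ?_
    rcases Finset.eq_empty_or_nonempty
        ((F \ F₀).filter fun j => (Quotient.mk'' j : MulAction.orbitRel.Quotient ↥(P : Subgroup G) (G ⧸ (P : Subgroup G))) = q) with he | ⟨j₀, hj₀⟩
    · rw [he, Finset.prod_empty]
    simp only [Finset.mem_filter, Finset.mem_sdiff, hF, hF₀, Finset.mem_univ, true_and] at hj₀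
    obtain ⟨⟨hj₀u, hj₀P⟩, rfl⟩ := hj₀
    set V := (F \ F₀).filter fun j => (Quotient.mk'' j : MulAction.orbitRel.Quotient ↥(P : Subgroup G) (G ⧸ (P : Subgroup G))) = Quotient.mk'' j₀
      with hV
    have hmem : ∀ j, j ∈ V ↔ (u : G) • j = j ∧ j ∈ orbit ↥(P : Subgroup G) j₀ := by
      intro j
      simp only [hV, hF, hF₀, Finset.mem_filter, Finset.mem_sdiff, Finset.mem_univ, true_and, Quotient.eq'',
        orbitRel_apply]
      refine ⟨fun h => ⟨h.1.1, h.2⟩, fun h => ⟨⟨h.1, fun hfix => hj₀P ?_⟩, h.2⟩⟩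
      obtain ⟨y, hy⟩ := h.2
      have h0 : j₀ = j := by
        exact ((inv_smul_smul y j₀).symm.trans (congrArg (y⁻¹ • ·) hy)).trans (hfix y⁻¹)
      rwa [h0]
    obtain ⟨ha, hca⟩ := hval _ j₀ hj₀u
    have hconst : ∀ j ∈ V, c (u : G) j = c (u : G) j₀ := fun j hj => by
      obtain ⟨hju, y, rfl⟩ := (hmem j).1 hj
      exact horb y j₀ hj₀u hju
    rw [Finset.prod_congr rfl hconst, Finset.prod_const]
    have hpV : p ∣ V.card := by
      have hU : IsPGroup p ↥(Subgroup.zpowers u) := hS.to_subgroup _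
      have hm := hU.card_modEq_card_fixedPoints (α := orbit ↥(P : Subgroup G) j₀)
      have hV' : Nat.card (fixedPoints ↥(Subgroup.zpowers u) (orbit ↥(P : Subgroup G) j₀)) = V.card := by
        rw [← Nat.card_eq_finsetCard V]
        refine Nat.card_congr ⟨fun j => ⟨j.1.1, (hmem _).2 ⟨congrArg Subtype.val (j.2 ⟨u, Subgroup.mem_zpowers u⟩), j.1.2⟩⟩,
          fun j => ⟨⟨j.1, ((hmem _).1 j.2).2⟩, fun g => ?_⟩, fun j => rfl, fun j => rfl⟩
        have hst : (g : ↥(P : Subgroup G)) ∈ stabilizer ↥(P : Subgroup G) (j : G ⧸ (P : Subgroup G)) :=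
          Subgroup.zpowers_le.2 (show u ∈ stabilizer ↥(P : Subgroup G) (j : G ⧸ (P : Subgroup G)) from ((hmem _).1 j.2).1) g.2
        exact Subtype.ext hst
      rw [hV'] at hm
      obtain ⟨k, hk⟩ := hS.card_orbit j₀
      have hk0 : k ≠ 0 := by
        rintro rfl
        refine hj₀P fun y => ?_
        haveI : Subsingleton (orbit ↥(P : Subgroup G) j₀) := (Nat.card_eq_one_iff_unique.1 (by rw [hk, pow_zero])).1
        exact congrArg Subtype.val (Subsingleton.elim (⟨y • j₀, ⟨y, rfl⟩⟩ : orbit ↥(P : Subgroup G) j₀) ⟨j₀, mem_orbit_self _⟩)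
      refine Nat.modEq_zero_iff_dvd.1 (hm.symm.trans (Nat.modEq_zero_iff_dvd.2 ?_))
      exact hk ▸ dvd_pow_self p hk0
    obtain ⟨m, hm⟩ := hpV
    rw [hm, pow_mul, hca, ← map_pow]
    have hpow : j₀.out⁻¹ * (u : G) ^ p * j₀.out ∈ (P : Subgroup G) := by
      have := (P : Subgroup G).pow_mem ha p
      rwa [show (j₀.out⁻¹ * (u : G) * j₀.out) ^ p = j₀.out⁻¹ * (u : G) ^ p * j₀.out by
        simpa using conj_pow (i := p) (a := j₀.out⁻¹) (b := (u : G))] at this
    rw [show (⟨_, ha⟩ : ↥(P : Subgroup G)) ^ p = ⟨_, hpow⟩ from Subtype.ext (by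
      simpa using conj_pow (i := p) (a := j₀.out⁻¹) (b := (u : G))), hsmall _ _ hpow dvd_rfl, one_pow]
  have hfix : ∀ j ∈ F₀, c (u : G) j = θ u := by
    intro j hj
    have hj' : ∀ y : ↥(P : Subgroup G), y • j = j := (Finset.mem_filter.1 hj).2
    obtain ⟨ha, hca⟩ := hval (u : G) j (hj' u)
    rw [hca]
    have hxN : j.out⁻¹ ∈ Subgroup.normalizer ((P : Subgroup G) : Set G) := by
      refine Subgroup.mem_normalizer_iff_map_conj_eq.2 (Subgroup.eq_of_le_of_card_ge ?_ ?_)
      · rintro _ ⟨y, hy, rfl⟩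
        obtain ⟨h, -⟩ := hval y j (hj' ⟨y, hy⟩)
        simpa using h
      · rw [Subgroup.card_map_of_injective (MulAut.conj _).injective]
    have e : θ (u⁻¹ * ⟨_, ha⟩) = 1 := by
      refine h2 _ ?_
      have := Subgroup.commutator_mem_commutator (H₁ := Subgroup.normalizer ((P : Subgroup G) : Set G))
        (H₂ := Subgroup.normalizer ((P : Subgroup G) : Set G)) (inv_mem (Subgroup.le_normalizer u.2)) hxN
      convert this using 1
      simp [commutatorElement_def, mul_assoc]
    rw [map_mul, map_inv, inv_mul_eq_one] at e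
    exact e.symm
  rw [← Finset.prod_sdiff hsub, hrest, one_mul, Finset.prod_congr rfl hfix, Finset.prod_const] at htot
  have hnd : ¬ p ∣ F₀.card := by
    intro hd
    have hcard : Nat.card (fixedPoints ↥(P : Subgroup G) (G ⧸ (P : Subgroup G))) = F₀.card := by
      rw [← Fintype.card_subtype, ← Nat.card_eq_fintype_card]
    have h := hS.card_modEq_card_fixedPoints (α := G ⧸ (P : Subgroup G))
    rw [hcard] at h
    exact P.not_dvd_index (Nat.modEq_zero_iff_dvd.1 (h.trans (Nat.modEq_zero_iff_dvd.2 hd)))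
  obtain ⟨k, hk⟩ := IsPGroup.iff_orderOf.1 hS u
  have hpk : θ u ^ p ^ k = 1 := by rw [← map_pow, ← hk, pow_orderOf_eq_one, map_one]
  have hco : (p ^ k).Coprime F₀.card := Nat.Coprime.pow_left k ((Nat.Prime.coprime_iff_not_dvd hp.out).2 hnd)
  have := pow_gcd_eq_one.2 ⟨hpk, htot⟩
  rwa [Nat.coprime_iff_gcd_eq_one.1 hco, pow_one] at this

end Cfsg.Agent.GrunFirst
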