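import Cfsg.Agent.Lib.PLocal.FixedPointFree
import Cfsg.Agent.Lib.PLocal.ThompsonNPC
import Mathlib.GroupTheory.Nilpotent
import Mathlib.Algebra.BigOperators.Group.Finset.Basic

/-!
Kegel's theorem: if every element outside a normal subgroup `G` of prime index `p` has order
dividing `p`, then `G` is nilpotent; and the norm identities behind the Hughes–Thompson theorem.
-/

set_option autoImplicit false
set_option linter.style.haveILetI false

namespace Cfsg.Agent.KegelHughes

open Cfsg.Agent

universe u

/-! ### Norm identities -/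

/-- A subgroup of index `p` without nonzero fixed points, all elements outside having norm zero. -/
theorem card_nsmul_eq_zero {K : Type*} [Group K] [Finite K] {M : Type*} [AddCommGroup M]
    (ρ : K →* AddMonoid.End M) {p : ℕ} (hp : p.Prime) (S : Subgroup K) (x : K) (hx : x ∉ S)
    (hxS : ∀ s ∈ S, x * s * x⁻¹ ∈ S) (hord : ∀ y, y ∉ S → y ^ p = 1)
    (hnorm : ∀ y, y ∉ S → ∀ v, ∑ i ∈ Finset.range p, ρ (y ^ i) v = 0)
    (hfix : ∀ v, (∀ s ∈ S, ρ s v = v) → v = 0) (v : M) : Nat.card S • v = 0 := by
  classical
  haveI : Fintype S := Fintype.ofFinite S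
  have hxn : x ∈ Subgroup.normalizer (S : Set K) := by
    have hmap : S.map (MulAut.conj x).toMonoidHom = S := by
      refine Subgroup.eq_of_le_of_card_ge ?_
        (Subgroup.card_map_of_injective (MulAut.conj x).injective).ge
      rintro _ ⟨s, hs, rfl⟩
      exact hxS s hs
    exact Subgroup.mem_normalizer_iff_map_conj_eq.2 hmap
  have hsx : ∀ s ∈ S, s * x ∉ S := fun s hs h => hx (by simpa using S.mul_mem (S.inv_mem hs) h)
  have hcoset : ∀ (i : ℕ), ∀ s ∈ S, (s * x) ^ i * (x ^ i)⁻¹ ∈ S := by
    intro i
    induction i with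
    | zero => intro s _; simp
    | succ i ih =>
      intro s hs
      have e : (s * x) ^ (i + 1) * (x ^ (i + 1))⁻¹ =
          ((s * x) ^ i * (x ^ i)⁻¹) * (x ^ i * s * (x ^ i)⁻¹) := by
        rw [pow_succ, pow_succ]; group
      rw [e]
      exact S.mul_mem (ih s hs) ((Subgroup.mem_normalizer_iff.1 (pow_mem hxn i) s).1 hs)
  have hzero : ∀ w : M, ∑ s : S, ρ (s : K) w = 0 := by
    intro w
    refine hfix _ fun t ht => ?_
    rw [map_sum]
    refine Fintype.sum_equiv (Equiv.mulLeft ⟨t, ht⟩) _ _ fun s => ?_
    show ρ t (ρ (s : K) w) = ρ (t * (s : K)) w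
    rw [map_mul]
    rfl
  have h0 : ∑ s : S, ∑ i ∈ Finset.range p, ρ (((s : K) * x) ^ i) v = 0 :=
    Finset.sum_eq_zero fun s _ => hnorm _ (hsx s s.2) v
  rw [Finset.sum_comm, Finset.sum_eq_single_of_mem 0 (Finset.mem_range.2 hp.pos) ?_] at h0
  · simpa [Nat.card_eq_fintype_card] using h0
  intro i hi hi0
  have hip : i < p := Finset.mem_range.1 hi
  have hcop : Nat.Coprime i p :=
    ((Nat.Prime.coprime_iff_not_dvd hp).2 fun h => (Nat.le_of_dvd (Nat.pos_of_ne_zero hi0) h).not_gt hip).symm
  obtain ⟨j, -, hj⟩ := Nat.exists_mul_mod_eq_one_of_coprime hcop hp.one_lt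
  let f : S → S := fun s => ⟨((s : K) * x) ^ i * (x ^ i)⁻¹, hcoset i s s.2⟩
  have hf : Function.Bijective f := by
    refine Finite.injective_iff_bijective.1 fun s t h => ?_
    have h' : ((s : K) * x) ^ i = ((t : K) * x) ^ i := mul_right_cancel (congrArg Subtype.val h)
    have h'' := congrArg (fun y => y ^ j) h'
    simp only [← pow_mul] at h''
    rw [pow_eq_pow_mod (i * j) (hord _ (hsx s s.2)), pow_eq_pow_mod (i * j) (hord _ (hsx t t.2)),
      hj, pow_one, pow_one] at h''
    exact Subtype.ext (mul_right_cancel h'')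
  rw [← hzero (ρ (x ^ i) v)]
  refine Fintype.sum_equiv (Equiv.ofBijective f hf) _ _ fun s => ?_
  show ρ (((s : K) * x) ^ i) v = ρ (((s : K) * x) ^ i * (x ^ i)⁻¹) (ρ (x ^ i) v)
  conv_lhs => rw [← inv_mul_cancel_right (((s : K) * x) ^ i) (x ^ i), map_mul]
  rfl

/-- The identity behind "no group of type `(p, p)` acts with all lines outside one having norm zero". -/
theorem nsmul_fixed_of_norms {K : Type*} [Group K] {M : Type*} [AddCommGroup M]
    (ρ : K →* AddMonoid.End M) {p : ℕ} (hp : p.Prime) (x z : K) (hc : Commute x z) (hz : z ^ p = 1)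
    (hnorm : ∀ j, ∀ v, ∑ i ∈ Finset.range p, ρ ((z ^ j * x) ^ i) v = 0) (v : M) :
    p • ρ z v = p • v := by
  classical
  haveI : NeZero p := ⟨hp.ne_zero⟩
  set W := ∑ j ∈ Finset.range p, ρ (z ^ j) v with hW
  have hWz : ρ z W = W := by
    rw [hW, map_sum]
    have h1 : ∀ j, ρ z (ρ (z ^ j) v) = ρ (z ^ (j + 1)) v := fun j => by
      rw [pow_succ', map_mul]; rfl
    rw [Finset.sum_congr rfl fun j _ => h1 j]
    obtain ⟨q, rfl⟩ := Nat.exists_eq_succ_of_ne_zero hp.ne_zero
    rw [Finset.sum_range_succ, Finset.sum_range_succ' (fun j => ρ (z ^ j) v), hz, pow_zero]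
  have h0 : ∑ j ∈ Finset.range p, ∑ i ∈ Finset.range p, ρ ((z ^ j * x) ^ i) v = 0 :=
    Finset.sum_eq_zero fun j _ => hnorm j v
  rw [Finset.sum_comm] at h0
  have hterm : ∀ i ∈ Finset.range p, ∑ j ∈ Finset.range p, ρ ((z ^ j * x) ^ i) v =
      if i = 0 then p • v else ρ (x ^ i) W := by
    intro i hi
    split_ifs with h
    · subst h; simp
    · have hip : i < p := Finset.mem_range.1 hi
      have hcop : Nat.Coprime i p :=
        ((Nat.Prime.coprime_iff_not_dvd hp).2 fun h' => (Nat.le_of_dvd (Nat.pos_of_ne_zero h) h').not_gt hip).symm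
      obtain ⟨k, -, hk⟩ := Nat.exists_mul_mod_eq_one_of_coprime hcop hp.one_lt
      rw [hW, map_sum]
      refine Finset.sum_bij' (fun j _ => j * i % p) (fun j _ => j * k % p)
        (fun j _ => Finset.mem_range.2 (Nat.mod_lt _ hp.pos))
        (fun j _ => Finset.mem_range.2 (Nat.mod_lt _ hp.pos)) ?_ ?_ ?_
      · intro j hj
        show j * i % p * k % p = j
        rw [Nat.mod_mul_mod, mul_assoc, Nat.mul_mod, hk, mul_one, Nat.mod_mod,
          Nat.mod_eq_of_lt (Finset.mem_range.1 hj)]
      · intro j hj
        show j * k % p * i % p = j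
        rw [Nat.mod_mul_mod, mul_assoc, mul_comm k i, Nat.mul_mod, hk, mul_one, Nat.mod_mod,
          Nat.mod_eq_of_lt (Finset.mem_range.1 hj)]
      · intro j _
        have hc' : Commute (z ^ j) x := (hc.pow_right j).symm
        show ρ ((z ^ j * x) ^ i) v = ρ (x ^ i) (ρ (z ^ (j * i % p)) v)
        rw [hc'.mul_pow, ← pow_mul, ← pow_eq_pow_mod _ hz,
          ((hc.symm.pow_left (j * i)).pow_right i).eq, map_mul]
        rfl
  rw [Finset.sum_congr rfl hterm] at h0
  have hx0 : ∑ i ∈ Finset.range p, ρ (x ^ i) W = 0 := by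
    have := hnorm 0 W
    simpa using this
  obtain ⟨q, rfl⟩ := Nat.exists_eq_succ_of_ne_zero hp.ne_zero
  rw [Finset.sum_range_succ'] at h0 hx0
  simp only [Nat.add_eq_zero_iff, one_ne_zero, and_false, if_false, if_true, pow_zero, map_one,
    AddMonoid.End.coe_one, id_eq] at h0 hx0
  have hWv : W = (q + 1) • v := by
    rw [← eq_neg_iff_add_eq_zero] at h0 hx0
    exact neg_injective (hx0.symm.trans h0)
  rw [← map_nsmul, ← hWv, hWz]

/-- Conjugation on an abelian normal subgroup, additively. -/
def conjEnd {Γ : Type*} [Group Γ] (N : Subgroup Γ) [N.Normal] :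
    Γ →* AddMonoid.End (Additive N) where
  toFun g := MonoidHom.toAdditive (MulAut.conjNormal (H := N) g).toMonoidHom
  map_one' := AddMonoidHom.ext fun v =>
    show Additive.ofMul (MulAut.conjNormal (H := N) 1 (Additive.toMul v)) = v by
      rw [map_one]; rfl
  map_mul' a b := AddMonoidHom.ext fun v =>
    show Additive.ofMul (MulAut.conjNormal (H := N) (a * b) (Additive.toMul v)) = _ by
      rw [map_mul]; rfl

theorem conjEnd_apply {Γ : Type*} [Group Γ] (N : Subgroup Γ) [N.Normal] (g : Γ) (v : Additive N) :
    ((Additive.toMul (conjEnd N g v) : N) : Γ) = g * ((Additive.toMul v : N) : Γ) * g⁻¹ :=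
  MulAut.conjNormal_apply g (Additive.toMul v)

/-- Elements of order dividing `p` on both sides give a vanishing norm. -/
theorem norm_eq_zero {Γ : Type*} [Group Γ] (N : Subgroup Γ) [N.Normal] (hN : ∀ a ∈ N, ∀ b ∈ N, a * b = b * a)
    {p : ℕ} (y : Γ) (hy : y ^ p = 1) (hvy : ∀ v ∈ N, (v * y) ^ p = 1) (v : Additive N) :
    letI : AddCommGroup (Additive N) := @Additive.addCommGroup N
      { (inferInstance : Group N) with mul_comm := fun a b => Subtype.ext (hN a a.2 b b.2) }
    ∑ i ∈ Finset.range p, conjEnd N (y ^ i) v = 0 := by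
  letI cg : CommGroup N :=
    { (inferInstance : Group N) with mul_comm := fun a b => Subtype.ext (hN a a.2 b b.2) }
  show ∑ i ∈ Finset.range p, conjEnd N (y ^ i) v = 0
  have key : ∀ n, ((Additive.toMul (∑ i ∈ Finset.range n, conjEnd N (y ^ i) v) : N) : Γ) * y ^ n =
      (((Additive.toMul v : N) : Γ) * y) ^ n := by
    intro n
    induction n with
    | zero => simp
    | succ n ih =>
      rw [Finset.sum_range_succ, toMul_add, Subgroup.coe_mul, conjEnd_apply]
      calc _ = ((Additive.toMul (∑ x ∈ Finset.range n, conjEnd N (y ^ x) v) : N) : Γ) * y ^ n *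
            (((Additive.toMul v : N) : Γ) * y) := by rw [pow_succ y n]; group
        _ = _ := by rw [ih, ← pow_succ]
  have h := key p
  rw [hy, mul_one, hvy _ (Additive.toMul v).2] at h
  exact Additive.toMul.injective (Subtype.ext h)

/-! ### Kegel's theorem -/

theorem isNilpotent_of_injective' {A B : Type*} [Group A] [Group B] [Group.IsNilpotent B] {f : A →* B}
    (hf : Function.Injective f) : Group.IsNilpotent A :=
  Subgroup.isNilpotent_of_ker_le_center f (by rw [(MonoidHom.ker_eq_bot_iff f).2 hf]; exact bot_le)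


theorem invariant_of_normalHall {G : Type*} [Group G] [Finite G] {K : Subgroup G} [K.Normal]
    (hK : (Nat.card K).Coprime K.index) (σ : MulAut G) : K.map σ.toMonoidHom = K := by
  refine Subgroup.eq_of_le_of_card_ge ?_ (Subgroup.card_map_of_injective σ.injective).ge
  rintro _ ⟨k, hk, rfl⟩
  rw [← QuotientGroup.eq_one_iff, ← orderOf_eq_one_iff]
  refine Nat.eq_one_of_dvd_coprimes hK ?_ ?_
  · refine (orderOf_map_dvd (QuotientGroup.mk' K) (σ k)).trans ?_
    show orderOf (σ k) ∣ _
    rw [σ.orderOf_eq]
    exact Subgroup.orderOf_dvd_natCard K hk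
  · exact orderOf_dvd_natCard _

theorem exists_normalizing {Γ : Type*} [Group Γ] [Finite Γ] (G : Subgroup Γ) [G.Normal]
    (hG : G ≠ ⊤) {q : ℕ} [Fact q.Prime] (Q : Sylow q G) :
    ∃ x, x ∉ G ∧ x ∈ Subgroup.normalizer (((Q : Subgroup G).map G.subtype : Subgroup Γ) : Set Γ) := by
  by_contra hcon
  push Not at hcon
  apply hG
  rw [eq_top_iff, ← Sylow.normalizer_sup_eq_top Q]
  exact sup_le (fun x hx => by_contra fun h => hcon x h hx) le_rfl

/-- **Kegel's theorem.** -/
theorem isNilpotent_of_outside {Γ : Type u} [Group Γ] [Finite Γ] (G : Subgroup Γ) [G.Normal] {p : ℕ}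
    (hp : p.Prime) (hidx : G.index = p) (h : ∀ x, x ∉ G → x ^ p = 1) : Group.IsNilpotent G := by
  suffices H : ∀ n : ℕ, ∀ (Γ : Type u) [Group Γ] [Finite Γ] (G : Subgroup Γ) [G.Normal],
      Nat.card Γ = n → G.index = p → (∀ x, x ∉ G → x ^ p = 1) → Group.IsNilpotent G from
    H _ Γ G rfl hidx h
  intro n
  induction n using Nat.strong_induction_on with
  | _ n ih =>
    intro Γ _ _ G _ hn hidx h
    classical
    by_contra hnil
    have hGtop : G ≠ ⊤ := fun e => hp.one_lt.ne' (by rw [← hidx, e, Subgroup.index_top])
    have hgen : ∀ x, x ∉ G → G ⊔ Subgroup.zpowers x = ⊤ := by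
      intro x hx
      by_contra hne
      have hlt : G < G ⊔ Subgroup.zpowers x := lt_of_le_of_ne le_sup_left fun e =>
        hx (e ▸ Subgroup.mem_sup_right (Subgroup.mem_zpowers x))
      have h1 := Subgroup.relIndex_mul_index hlt.le
      rw [hidx] at h1
      rcases (Nat.dvd_prime hp).1 (Dvd.intro _ h1) with e | e
      · exact hlt.not_ge (Subgroup.relIndex_eq_one.1 e)
      · rw [e] at h1
        exact hne (Subgroup.index_eq_one.1 (Nat.eq_of_mul_eq_mul_left hp.pos (h1.trans (mul_one p).symm)))
    -- proper invariant subgroups are nilpotent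
    have hprop : ∀ A : Subgroup Γ, A ≤ G → A ≠ G →
        (∃ x, x ∉ G ∧ x ∈ Subgroup.normalizer (A : Set Γ)) → Group.IsNilpotent A := by
      rintro A hAG hne ⟨x, hxG, hxA⟩
      set X := A ⊔ Subgroup.zpowers x with hXdef
      have hXtop : X ≠ ⊤ := by
        intro e
        refine hne (le_antisymm hAG fun g hg => ?_)
        have hm : g ∈ (↑(A ⊔ Subgroup.zpowers x) : Set Γ) := by rw [← hXdef, e]; trivial
        rw [Subgroup.coe_mul_of_right_le_normalizer_left A (Subgroup.zpowers x) (Subgroup.zpowers_le.2 hxA)] at hm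
        obtain ⟨a, ha, y, hy, rfl⟩ := hm
        obtain ⟨i, rfl⟩ := Subgroup.mem_zpowers_iff.1 hy
        have hxi : x ^ i ∈ G := by simpa using G.mul_mem (G.inv_mem (hAG ha)) hg
        by_cases h1 : x ^ i = 1
        · show a * x ^ i ∈ A
          rw [h1, mul_one]; exact ha
        exfalso
        apply hxG
        have hcard : Nat.card (Subgroup.zpowers x) = p := by
          rw [Nat.card_zpowers]
          exact orderOf_eq_prime (hp := ⟨hp⟩) (h x hxG) fun e1 => hxG (e1 ▸ G.one_mem)
        have hle : Subgroup.zpowers (x ^ i) = Subgroup.zpowers x := by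
          refine Subgroup.eq_of_le_of_card_ge
            (Subgroup.zpowers_le.2 (zpow_mem (Subgroup.mem_zpowers x) i)) ?_
          have hd : orderOf (x ^ i) ∣ p := hcard ▸ Subgroup.orderOf_dvd_natCard _
            (zpow_mem (Subgroup.mem_zpowers x) i)
          rw [hcard, Nat.card_zpowers, ((Nat.dvd_prime hp).1 hd).resolve_left
            (fun e1 => h1 (orderOf_eq_one_iff.1 e1))]
        have : x ∈ Subgroup.zpowers (x ^ i) := hle ▸ Subgroup.mem_zpowers x
        exact Subgroup.zpowers_le.2 hxi this
      have hidx' : (G.subgroupOf X).index = p := by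
        have h1 : G.relIndex X ∣ p := hidx ▸ Subgroup.relIndex_dvd_index_of_normal G X
        refine ((Nat.dvd_prime hp).1 h1).resolve_left fun e => hxG ?_
        exact Subgroup.relIndex_eq_one.1 e (Subgroup.mem_sup_right (Subgroup.mem_zpowers x))
      have hX : Group.IsNilpotent (G.subgroupOf X) :=
        ih _ (hn ▸ lt_of_le_of_ne (Subgroup.card_le_card_group X)
          fun e => hXtop (Subgroup.eq_top_of_card_eq X e)) X (G.subgroupOf X) rfl hidx' fun y hy =>
            Subtype.ext (h _ hy)
      exact isNilpotent_of_injective'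
        (f := MonoidHom.codRestrict (Subgroup.inclusion (le_sup_left : A ≤ X)) (G.subgroupOf X)
          fun a => hAG a.2)
        fun a b e => Subgroup.inclusion_injective _ (congrArg Subtype.val e)
    -- quotients
    have hquot : ∀ (N : Subgroup Γ) [N.Normal], N ≤ G → N ≠ ⊥ →
        Group.IsNilpotent (G.map (QuotientGroup.mk' N)) := by
      intro N _ hNG hN1
      haveI : (G.map (QuotientGroup.mk' N)).Normal :=
        (inferInstance : G.Normal).map _ (QuotientGroup.mk'_surjective N)
      refine ih _ ?_ (Γ ⧸ N) (G.map (QuotientGroup.mk' N)) rfl ?_ ?_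
      · rw [← hn]
        have h1 := Subgroup.card_eq_card_quotient_mul_card_subgroup N
        have h2 : 1 < Nat.card N := (Subgroup.one_lt_card_iff_ne_bot N).2 hN1
        have h3 : 0 < Nat.card (Γ ⧸ N) := Nat.card_pos
        calc Nat.card (Γ ⧸ N) = Nat.card (Γ ⧸ N) * 1 := (mul_one _).symm
          _ < Nat.card (Γ ⧸ N) * Nat.card N := Nat.mul_lt_mul_of_pos_left h2 h3
          _ = _ := h1.symm
      · rw [Subgroup.index_map_eq _ (QuotientGroup.mk'_surjective N) (by rw [QuotientGroup.ker_mk']; exact hNG)]
        exact hidx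
      · intro y hy
        obtain ⟨x, rfl⟩ := QuotientGroup.mk'_surjective N y
        rw [← map_pow, h x fun hx => hy (Subgroup.mem_map_of_mem _ hx), map_one]
    by_cases hsol : Group.IsSolvable G
    · -- solvable case
      have hGne : G ≠ ⊥ := fun e => by subst e; exact hnil inferInstance
      obtain ⟨N, -, ⟨hNn, hN1, hNG⟩, hmin⟩ := Finite.exists_le_minimal
        (p := fun N : Subgroup Γ => N.Normal ∧ N ≠ ⊥ ∧ N ≤ G) (a := G) ⟨inferInstance, hGne, le_rfl⟩
      haveI := hNn
      have huniq : ∀ A : Subgroup Γ, A.Normal → A ≤ G → A ≠ ⊥ → N ≤ A := by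
        intro A hA hAG hA1
        haveI := hA
        by_contra hle
        have hdisj : N ⊓ A = ⊥ := by
          by_contra hne
          exact hle (le_trans (hmin ⟨inferInstance, hne, inf_le_left.trans hNG⟩ inf_le_left) inf_le_right)
        apply hnil
        haveI := hquot N hNG hN1
        haveI := hquot A hAG hA1
        let f : G →* G.map (QuotientGroup.mk' N) × G.map (QuotientGroup.mk' A) :=
          ((QuotientGroup.mk' N).subgroupMap G).prod ((QuotientGroup.mk' A).subgroupMap G)
        refine isNilpotent_of_injective' (f := f) ((injective_iff_map_eq_one f).2 fun g hg => ?_)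
        have h1 : (g : Γ) ∈ N := (QuotientGroup.eq_one_iff _).1 (congrArg (fun t => (t.1 : Γ ⧸ N)) hg)
        have h2 : (g : Γ) ∈ A := (QuotientGroup.eq_one_iff _).1 (congrArg (fun t => (t.2 : Γ ⧸ A)) hg)
        exact Subtype.ext ((Subgroup.eq_bot_iff_forall _).1 hdisj _ ⟨h1, h2⟩)
      have hNsol : Group.IsSolvable N :=
        solvable_of_solvable_injective (f := Subgroup.inclusion hNG) (Subgroup.inclusion_injective _)
      have hcomm : ⁅N, N⁆ = ⊥ := by
        by_contra hne
        have hle : N ≤ ⁅N, N⁆ := huniq _ inferInstance ((Subgroup.commutator_le_right N N).trans hNG) hne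
        haveI : Nontrivial N := (Subgroup.nontrivial_iff_ne_bot N).2 hN1
        refine (Group.IsSolvable.commutator_lt_top_of_nontrivial (G := N)).not_ge ?_
        rintro ⟨g, hg⟩ -
        have e : (commutator N).map N.subtype = ⁅N, N⁆ := Subgroup.map_subtype_commutator N
        have : g ∈ (commutator N).map N.subtype := e ▸ hle hg
        obtain ⟨g', hg', rfl⟩ := this
        exact hg'
      have hNab : ∀ a ∈ N, ∀ b ∈ N, a * b = b * a := fun a ha b hb =>
        commutatorElement_eq_one_iff_mul_comm.1
          ((Subgroup.eq_bot_iff_forall _).1 hcomm _ (Subgroup.commutator_mem_commutator ha hb))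
      -- `N` is an `r`-group
      obtain ⟨r, hr, hrN⟩ := Nat.exists_prime_and_dvd
        (show Nat.card N ≠ 1 from ((Subgroup.one_lt_card_iff_ne_bot N).2 hN1).ne')
      haveI : Fact r.Prime := ⟨hr⟩
      obtain ⟨R⟩ : Nonempty (Sylow r N) := inferInstance
      haveI : (R : Subgroup N).Normal := ⟨fun a ha b => by
        have e : b * a = a * b := Subtype.ext (hNab b b.2 a a.2)
        rw [e, mul_inv_cancel_right]; exact ha⟩
      have hRchar : (R : Subgroup N).Characteristic := R.characteristic_of_normal inferInstance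
      have hNr : IsPGroup r N := by
        have hR1 : (R : Subgroup N).map N.subtype ≠ ⊥ := by
          rw [Ne, Subgroup.map_eq_bot_iff_of_injective _ N.subtype_injective]
          exact R.ne_bot_of_dvd_card hrN
        haveI := hRchar
        have hle : N ≤ (R : Subgroup N).map N.subtype :=
          huniq _ ConjAct.normal_of_characteristic_of_normal ((Subgroup.map_subtype_le _).trans hNG) hR1
        intro a
        obtain ⟨⟨b, hb⟩, hbR, hba⟩ := hle a.2
        obtain ⟨k, hk⟩ := R.isPGroup' ⟨⟨b, hb⟩, hbR⟩
        refine ⟨k, ?_⟩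
        have : (⟨b, hb⟩ : N) ^ r ^ k = 1 := congrArg Subtype.val hk
        rw [show a = ⟨b, hb⟩ from Subtype.ext hba.symm]
        exact this
      -- another prime
      obtain ⟨s, hs, hsG, hsr⟩ : ∃ s, s.Prime ∧ s ∣ Nat.card G ∧ s ≠ r := by
        by_contra hcon
        push Not at hcon
        exact hnil (IsPGroup.of_card (Nat.eq_prime_pow_of_unique_prime_dvd Nat.card_pos.ne'
          fun hd hdG => hcon _ hd hdG)).isNilpotent
      haveI : Fact s.Prime := ⟨hs⟩
      obtain ⟨Q⟩ : Nonempty (Sylow s G) := inferInstance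
      obtain ⟨x, hxG, hxS⟩ := exists_normalizing G hGtop Q
      set S := (Q : Subgroup G).map G.subtype with hSdef
      have hSG : S ≤ G := Subgroup.map_subtype_le _
      have hS1 : S ≠ ⊥ := by
        rw [hSdef, Ne, Subgroup.map_eq_bot_iff_of_injective _ G.subtype_injective]
        exact Q.ne_bot_of_dvd_card hsG
      have hScard : Nat.card S = Nat.card (Q : Subgroup G) := Subgroup.card_map_of_injective G.subtype_injective
      have hNS : (Nat.card N).Coprime (Nat.card S) := by
        rw [hScard]
        exact IsPGroup.coprime_card_of_ne r s hsr.symm _ _ hNr Q.isPGroup'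
      have hGnorm : S ⊔ N = G := by
        refine le_antisymm (sup_le hSG hNG) ?_
        by_contra hne
        haveI := hquot N hNG hN1
        set π := (QuotientGroup.mk' N).subgroupMap G with hπ
        let Q' := Q.mapSurjective (f := π) (MonoidHom.subgroupMap_surjective _ G)
        have hQ' : (Q' : Subgroup (G.map (QuotientGroup.mk' N))).Normal := by
          exact Sylow.normal_of_normalizerCondition (Group.normalizerCondition_of_isNilpotent) Q'
        have hSN : ∀ g ∈ G, g ∈ Subgroup.normalizer ((S ⊔ N : Subgroup Γ) : Set Γ) := by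
          have hmem : ∀ (b : Γ) (hb : b ∈ G), (b ∈ S ⊔ N ↔ π ⟨b, hb⟩ ∈ (Q' : Subgroup _)) := by
            intro b hb
            rw [Sylow.coe_mapSurjective, Subgroup.mem_map]
            constructor
            · intro hb'
              have : b ∈ (↑(S ⊔ N) : Set Γ) := hb'
              rw [Subgroup.mul_normal] at this
              obtain ⟨a, ⟨a', ha', rfl⟩, c, hc, rfl⟩ := this
              refine ⟨a', ha', Subtype.ext ?_⟩
              show QuotientGroup.mk' N (a' : Γ) = QuotientGroup.mk' N ((a' : Γ) * c)
              rw [map_mul, QuotientGroup.mk'_apply N c, (QuotientGroup.eq_one_iff c).2 hc, mul_one]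
            · rintro ⟨a, ha, he⟩
              have he' : ((a : Γ) : Γ ⧸ N) = (b : Γ ⧸ N) := congrArg Subtype.val he
              rw [QuotientGroup.eq] at he'
              have := Subgroup.mul_mem _ (Subgroup.mem_sup_left (T := N) (show (a : Γ) ∈ S from ⟨a, ha, rfl⟩))
                (Subgroup.mem_sup_right (S := S) he')
              simpa using this
          intro g hg
          rw [Subgroup.mem_normalizer_iff]
          intro b
          by_cases hb : b ∈ G
          · rw [hmem b hb, hmem (g * b * g⁻¹) (G.mul_mem (G.mul_mem hg hb) (G.inv_mem hg))]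
            have e : π ⟨g * b * g⁻¹, G.mul_mem (G.mul_mem hg hb) (G.inv_mem hg)⟩ =
                π ⟨g, hg⟩ * π ⟨b, hb⟩ * (π ⟨g, hg⟩)⁻¹ := by
              rw [← map_inv, ← map_mul, ← map_mul]; rfl
            rw [e]
            exact ⟨fun hh => hQ'.conj_mem _ hh _, fun hh => by simpa [mul_assoc] using hQ'.conj_mem _ hh (π ⟨g, hg⟩)⁻¹⟩
          · refine ⟨fun hh => absurd (sup_le hSG hNG hh) hb, fun hh => absurd ?_ hb⟩
            have h4 := G.mul_mem (G.mul_mem (G.inv_mem hg) (sup_le hSG hNG hh)) hg
            simpa [mul_assoc] using h4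
        have hxN : x ∈ Subgroup.normalizer (N : Set Γ) := by
          rw [Subgroup.normalizer_eq_top]; trivial
        have hxSN : x ∈ Subgroup.normalizer ((S ⊔ N : Subgroup Γ) : Set Γ) := by
          rw [Subgroup.mem_normalizer_iff_map_conj_eq] at hxS hxN ⊢
          rw [Subgroup.map_sup, hxS, hxN]
        have hnilSN := hprop _ (sup_le hSG hNG) (fun e => hne e.ge) ⟨x, hxG, hxSN⟩
        haveI : (S ⊔ N).Normal := by
          rw [← Subgroup.normalizer_eq_top_iff, eq_top_iff, ← hgen x hxG]
          exact sup_le hSN (Subgroup.zpowers_le.2 hxSN)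
        haveI := hnilSN
        have hSsyl : ∃ P : Sylow s ↥(S ⊔ N), (P : Subgroup ↥(S ⊔ N)) = S.subgroupOf (S ⊔ N) := by
          obtain ⟨P, hP⟩ := ((Q.isPGroup'.map G.subtype).comap_subtype (K := S ⊔ N)).exists_le_sylow
          refine ⟨P, le_antisymm ?_ hP⟩
          intro y hy
          have hsup : S ≤ (P : Subgroup ↥(S ⊔ N)).map (S ⊔ N).subtype := fun a ha =>
            ⟨⟨a, Subgroup.mem_sup_left ha⟩, hP ha, rfl⟩
          have hcard : Nat.card ((P : Subgroup ↥(S ⊔ N)).map (S ⊔ N).subtype) ≤ Nat.card S := by
            rw [hScard, Q.card_eq_multiplicity, Subgroup.card_map_of_injective (S ⊔ N).subtype_injective,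
              P.card_eq_multiplicity]
            refine Nat.le_of_dvd (pow_pos hs.pos _) (pow_dvd_pow s ?_)
            exact (Nat.factorization_le_iff_dvd Nat.card_pos.ne' Nat.card_pos.ne').2
              (Subgroup.card_dvd_of_le (sup_le hSG hNG)) s
          have := Subgroup.eq_of_le_of_card_ge hsup hcard
          show (y : Γ) ∈ S
          exact this.ge ⟨y, hy, rfl⟩
        obtain ⟨P, hP⟩ := hSsyl
        have hPn : (P : Subgroup ↥(S ⊔ N)).Normal :=
          Sylow.normal_of_normalizerCondition Group.normalizerCondition_of_isNilpotent P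
        haveI := P.characteristic_of_normal hPn
        have hSn : S.Normal := by
          have e : (P : Subgroup ↥(S ⊔ N)).map (S ⊔ N).subtype = S := by
            rw [hP, Subgroup.map_subgroupOf_eq_of_le le_sup_left]
          rw [← e]
          exact ConjAct.normal_of_characteristic_of_normal
        exact hN1 (inf_eq_left.2 (huniq S hSn hSG hS1) ▸ Subgroup.inf_eq_bot_of_coprime hNS)
      -- fixed points of `S` on `N`
      set C := N ⊓ Subgroup.centralizer (S : Set Γ) with hC
      have hCn : C.Normal := by
        rw [← Subgroup.normalizer_eq_top_iff, eq_top_iff, ← hgen x hxG, ← hGnorm, hC]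
        refine sup_le (sup_le ?_ ?_) ?_
        · intro a ha
          rw [Subgroup.mem_normalizer_iff]
          intro b
          constructor
          · rintro ⟨hb, hbc⟩
            have e : a * b * a⁻¹ = b := by rw [hbc a ha, mul_inv_cancel_right]
            rw [e]
            exact ⟨hb, hbc⟩
          · rintro ⟨hb, hbc⟩
            have e : a * (a * b * a⁻¹) = (a * b * a⁻¹) * a := hbc a ha
            rw [inv_mul_cancel_right] at e
            have e2 : a * b * a⁻¹ = b := mul_left_cancel e
            rw [e2] at hb hbc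
            exact ⟨hb, hbc⟩
        · intro a ha
          rw [Subgroup.mem_normalizer_iff]
          intro b
          constructor
          · rintro ⟨hb, hbc⟩
            rw [hNab a ha b hb, mul_inv_cancel_right]
            exact ⟨hb, hbc⟩
          · rintro ⟨hb, hbc⟩
            have hb' : b ∈ N := by
              have := hNn.conj_mem _ hb a⁻¹
              simpa [mul_assoc] using this
            rw [hNab a ha b hb', mul_inv_cancel_right] at hb hbc
            exact ⟨hb, hbc⟩
        · rw [Subgroup.zpowers_le]
          rw [Subgroup.mem_normalizer_iff_map_conj_eq] at hxS ⊢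
          refine Subgroup.eq_of_le_of_card_ge ?_ (Subgroup.card_map_of_injective (MulAut.conj x).injective).ge
          rintro _ ⟨b, ⟨hb, hbc⟩, rfl⟩
          refine ⟨hNn.conj_mem b hb x, fun c hc => ?_⟩
          rw [SetLike.mem_coe, ← hxS] at hc
          obtain ⟨c', hc', rfl⟩ := hc
          show (MulAut.conj x) c' * (MulAut.conj x) b = (MulAut.conj x) b * (MulAut.conj x) c'
          rw [← map_mul, ← map_mul, hbc c' hc']
      have hC1 : C = ⊥ := by
        by_contra hne
        have hle : N ≤ C := huniq C hCn (inf_le_left.trans hNG) hne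
        have hSn : S.Normal := by
          rw [← Subgroup.normalizer_eq_top_iff, eq_top_iff, ← hgen x hxG, ← hGnorm]
          exact sup_le (sup_le Subgroup.le_normalizer
            ((Subgroup.le_centralizer_iff.1 (Subgroup.le_centralizer_iff.1 (hle.trans inf_le_right))).trans
              (Subgroup.centralizer_le_normalizer _))) (Subgroup.zpowers_le.2 hxS)
        exact hN1 (inf_eq_left.2 (huniq S hSn hSG hS1) ▸ Subgroup.inf_eq_bot_of_coprime hNS)
      -- the norm identity
      letI cg : CommGroup N :=
        { (inferInstance : Group N) with mul_comm := fun a b => Subtype.ext (hNab a a.2 b b.2) }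
      set K := S ⊔ Subgroup.zpowers x with hK
      have hKG : ∀ y : K, (y : Γ) ∈ G → (y : Γ) ∈ S := by
        intro y hy
        have hm : (y : Γ) ∈ (↑(S ⊔ Subgroup.zpowers x) : Set Γ) := y.2
        rw [Subgroup.coe_mul_of_right_le_normalizer_left S (Subgroup.zpowers x) (Subgroup.zpowers_le.2 hxS)] at hm
        obtain ⟨a, ha, b, hb, hab⟩ := hm
        have hab' : a * b = (y : Γ) := hab
        have hbG : b ∈ G := by
          have := G.mul_mem (G.inv_mem (hSG ha)) hy
          rwa [← hab', inv_mul_cancel_left] at this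
        have hinf : G ⊓ Subgroup.zpowers x = ⊥ := by
          rw [Subgroup.eq_bot_iff_forall]
          rintro c ⟨hcG, hcx⟩
          by_contra hc1
          have hcard : Nat.card (Subgroup.zpowers x) = p := by
            rw [Nat.card_zpowers]
            exact orderOf_eq_prime (hp := ⟨hp⟩) (h x hxG) fun e1 => hxG (e1 ▸ G.one_mem)
          have hd : orderOf c ∣ p := hcard ▸ Subgroup.orderOf_dvd_natCard _ hcx
          have : x ∈ Subgroup.zpowers c := by
            rw [Subgroup.eq_of_le_of_card_ge (Subgroup.zpowers_le.2 hcx) (by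
              rw [hcard, Nat.card_zpowers, ((Nat.dvd_prime hp).1 hd).resolve_left
                (fun e1 => hc1 (orderOf_eq_one_iff.1 e1))])]
            exact Subgroup.mem_zpowers x
          exact hxG (Subgroup.zpowers_le.2 hcG this)
        have : b = 1 := (Subgroup.eq_bot_iff_forall _).1 hinf b ⟨hbG, hb⟩
        rw [← hab', this, mul_one]
        exact ha
      have key := card_nsmul_eq_zero ((conjEnd N).comp K.subtype) hp (S.subgroupOf K)
        ⟨x, Subgroup.mem_sup_right (Subgroup.mem_zpowers x)⟩ (fun hmem => hxG (hSG hmem))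
        (fun a ha => (Subgroup.mem_normalizer_iff.1 hxS _).1 ha)
        (fun y hy => Subtype.ext (h _ fun hyG => hy (hKG y hyG)))
        (fun y hy v => by
          have hyG : (y : Γ) ∉ G := fun hyG => hy (hKG y hyG)
          have := norm_eq_zero N hNab (y : Γ) (h _ hyG) (fun w hw => h _ fun hwy => hyG (by
            have := G.mul_mem (G.inv_mem (hNG hw)) hwy
            rwa [inv_mul_cancel_left] at this)) v
          simpa using this)
        (fun v hv => by
          apply Additive.toMul.injective
          apply Subtype.ext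
          refine (Subgroup.eq_bot_iff_forall _).1 hC1 _ ⟨(Additive.toMul v).2, fun a ha => ?_⟩
          have h1 := congrArg (fun w : Additive N => ((Additive.toMul w : N) : Γ))
            (hv ⟨a, Subgroup.mem_sup_left ha⟩ ha)
          have h2 : a * ((Additive.toMul v : N) : Γ) * a⁻¹ = ((Additive.toMul v : N) : Γ) :=
            (conjEnd_apply N a v).symm.trans h1
          exact mul_inv_eq_iff_eq_mul.1 h2)
      apply hN1
      rw [Subgroup.eq_bot_iff_forall]
      intro a ha
      have h1 := key (Additive.ofMul ⟨a, ha⟩)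
      rw [Nat.card_congr (Subgroup.subgroupOfEquivOfLe (le_sup_left : S ≤ K)).toEquiv, ← ofMul_pow] at h1
      have h2 : a ^ Nat.card S = 1 := congrArg Subtype.val (Additive.ofMul.injective h1)
      rw [← orderOf_eq_one_iff]
      exact Nat.eq_one_of_dvd_coprimes hNS (Subgroup.orderOf_dvd_natCard N ha) (orderOf_dvd_of_pow_eq_one h2)
    · -- non-solvable case
      have hmin : ∀ A : Subgroup Γ, A.Normal → A ≤ G → A = ⊥ ∨ A = G := by
        intro A hA hAG
        by_contra hcon
        push Not at hcon
        haveI := hA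
        have hAnil := hprop A hAG hcon.2 (by
          obtain ⟨x, hx⟩ : ∃ x, x ∉ G := by
            by_contra hh
            push Not at hh
            exact hGtop (eq_top_iff.2 fun y _ => hh y)
          exact ⟨x, hx, by rw [Subgroup.normalizer_eq_top]; trivial⟩)
        haveI := hquot A hAG hcon.1
        haveI := hAnil
        apply hsol
        exact solvable_of_ker_le_range (f := Subgroup.inclusion hAG)
          (g := (QuotientGroup.mk' A).subgroupMap G) (fun g hg => ⟨⟨g, (QuotientGroup.eq_one_iff _).1
            (congrArg Subtype.val (MonoidHom.mem_ker.1 hg))⟩, rfl⟩)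
      obtain ⟨q, hq, hqG, hq2⟩ : ∃ q, q.Prime ∧ q ∣ Nat.card G ∧ q ≠ 2 := by
        by_contra hcon
        push Not at hcon
        exact hnil (IsPGroup.of_card (Nat.eq_prime_pow_of_unique_prime_dvd Nat.card_pos.ne'
          fun hd hdG => hcon _ hd hdG)).isNilpotent
      haveI : Fact q.Prime := ⟨hq⟩
      obtain ⟨Q⟩ : Nonempty (Sylow q G) := inferInstance
      obtain ⟨x, hxG, hxS⟩ := exists_normalizing G hGtop Q
      set σ := MulAut.conjNormal (H := G) x with hσ
      have hlift : ∀ A : Subgroup G, A.map σ.toMonoidHom = A →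
          x ∈ Subgroup.normalizer ((A.map G.subtype : Subgroup Γ) : Set Γ) := by
        intro A hA
        rw [Subgroup.mem_normalizer_iff_map_conj_eq, Subgroup.map_map]
        conv_rhs => rw [← hA, Subgroup.map_map]
        congr 1
      have hQσ : (Q : Subgroup G).map σ.toMonoidHom = (Q : Subgroup G) := by
        rw [Subgroup.mem_normalizer_iff_map_conj_eq, Subgroup.map_map] at hxS
        apply Subgroup.map_injective G.subtype_injective
        rw [Subgroup.map_map]
        exact hxS
      have hnormal : ∀ A : Subgroup G, A.Normal → A.map σ.toMonoidHom = A → A = ⊥ ∨ A = ⊤ := by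
        intro A hA hAσ
        have hn : (A.map G.subtype).Normal := by
          rw [← Subgroup.normalizer_eq_top_iff, eq_top_iff, ← hgen x hxG]
          refine sup_le ?_ (Subgroup.zpowers_le.2 (hlift A hAσ))
          intro g hg
          rw [Subgroup.mem_normalizer_iff_map_conj_eq]
          have e : (A.map G.subtype).map (MulAut.conj g).toMonoidHom =
              (A.map (MulAut.conj (⟨g, hg⟩ : G)).toMonoidHom).map G.subtype := by
            rw [Subgroup.map_map, Subgroup.map_map]; rfl
          refine e.trans ?_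
          congr 1
          refine Subgroup.eq_of_le_of_card_ge ?_ (Subgroup.card_map_of_injective (MulAut.conj (⟨g, hg⟩ : G)).injective).ge
          rintro _ ⟨a, ha, rfl⟩
          exact hA.conj_mem a ha _
        rcases hmin _ hn (Subgroup.map_subtype_le A) with e | e
        · exact Or.inl ((Subgroup.map_eq_bot_iff_of_injective _ G.subtype_injective).1 e)
        · refine Or.inr (Subgroup.map_injective G.subtype_injective (e.trans ?_))
          rw [← MonoidHom.range_eq_map, Subgroup.range_subtype]
      have hQtop : (Q : Subgroup G) ≠ ⊤ := fun e => by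
        apply hsol
        haveI : Group.IsNilpotent G := (Q.isPGroup'.of_equiv
          ((MulEquiv.subgroupCongr e).trans Subgroup.topEquiv)).isNilpotent
        infer_instance
      have hQ1 : (Q : Subgroup G) ≠ ⊥ := Q.ne_bot_of_dvd_card hqG
      have hsubnil : ∀ A : Subgroup G, A.map σ.toMonoidHom = A → A ≠ ⊤ → Group.IsNilpotent A := by
        intro A hA hne
        haveI := hprop (A.map G.subtype) (Subgroup.map_subtype_le A)
          (fun e => hne (Subgroup.map_injective G.subtype_injective (e.trans (by
            rw [← MonoidHom.range_eq_map, Subgroup.range_subtype])))) ⟨x, hxG, hlift A hA⟩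
        exact isNilpotent_of_injective' (f := (A.equivMapOfInjective G.subtype G.subtype_injective).toMonoidHom)
          (MulEquiv.injective _)
      have hJσ : (Cfsg.thompsonSubgroupOf q (Q : Subgroup G)).map σ.toMonoidHom =
          Cfsg.thompsonSubgroupOf q (Q : Subgroup G) :=
        FixedPointFreeThompson.thompson_invariant hQσ
      have hNJ : Subgroup.normalizer (Cfsg.thompsonSubgroupOf q (Q : Subgroup G) : Set G) ≠ ⊤ := by
        intro e
        rcases hnormal _ (Subgroup.normalizer_eq_top_iff.1 e) hJσ with e' | e'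
        · exact ThompsonNPC.thompson_ne_bot Q.isPGroup' hQ1 e'
        · refine hQtop (eq_top_iff.2 (e' ▸ ?_))
          exact Subgroup.map_subtype_le _
      set Z := (Q : Subgroup G) ⊓ Subgroup.centralizer ((Q : Subgroup G) : Set G) with hZ
      have hZσ : Z.map σ.toMonoidHom = Z :=
        FixedPointFreeThompson.inf_invariant hQσ (FixedPointFreeThompson.map_centralizer hQσ)
      have hCZ : Subgroup.centralizer (Z : Set G) ≠ ⊤ := by
        intro e
        have hn : Z.Normal := ⟨fun a ha b => by
          have hb : b ∈ Subgroup.centralizer (Z : Set G) := by rw [e]; trivial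
          rw [← hb a ha, mul_inv_cancel_right]; exact ha⟩
        rcases hnormal Z hn hZσ with e' | e'
        · exact ThompsonNPC.center_ne_bot Q.isPGroup' hQ1 e'
        · exact hQtop (eq_top_iff.2 (e' ▸ inf_le_left))
      haveI hnp1 := hsubnil _ (FixedPointFreeThompson.map_normalizer hJσ) hNJ
      haveI hnp2 := hsubnil _ (FixedPointFreeThompson.map_centralizer hZσ) hCZ
      obtain ⟨P, K, hKn, hKP⟩ := ThompsonNPC.hasNormalPComplement_of_thompson hq2 Q
        (FixedPointFreeThompson.hasNormalPComplement_of_nilpotent)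
        (FixedPointFreeThompson.hasNormalPComplement_of_nilpotent)
      haveI := hKn
      have hKidx : K.index = Nat.card (P : Subgroup G) := hKP.symm.index_eq_card
      have hPidx : (P : Subgroup G).index = Nat.card K := hKP.index_eq_card
      have hco : (Nat.card K).Coprime K.index := by
        rw [hKidx, P.card_eq_multiplicity, ← hPidx]
        exact Nat.Coprime.pow_right _ ((Nat.Prime.coprime_iff_not_dvd hq).2 P.not_dvd_index).symm
      rcases hnormal K hKn (invariant_of_normalHall hco σ) with e | e
      · rw [e, Subgroup.index_bot] at hKidx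
        refine hQtop (Subgroup.eq_top_of_card_eq _ ?_)
        rw [hKidx]
        exact Nat.card_congr (Q.equiv P).toEquiv
      · rw [e, Subgroup.index_top] at hKidx
        exact P.ne_bot_of_dvd_card hqG (Subgroup.card_eq_one.1 hKidx.symm)

end Cfsg.Agent.KegelHughes
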