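import Cfsg.Agent.Lib.FiniteGroup.IndexBasics
import Mathlib.GroupTheory.Nilpotent
import Mathlib.Data.Nat.Choose.Basic
import Mathlib.GroupTheory.Commutator.Basic

/-!
Polynomial sequences in a nilpotent group (Lazard), giving the Hall-Petrescu formula for groups of
class less than `p`.
-/

set_option autoImplicit false
open scoped commutatorElement

namespace Cfsg.Agent.PolySeq

variable {G : Type*} [Group G]

/-- The lower central series indexed from `1`. -/
def gam (G : Type*) [Group G] (i : ℕ) : Subgroup G := (⊤ : Subgroup G).lowerCentralSeries (i - 1)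

instance gam_normal (i : ℕ) : (gam G i).Normal := by
  unfold gam
  infer_instance

theorem gam_anti {i j : ℕ} (h : i ≤ j) : gam G j ≤ gam G i :=
  Subgroup.lowerCentralSeries_antitone _ (Nat.sub_le_sub_right h 1)

theorem lcs_commutator (a b : ℕ) :
    ⁅(⊤ : Subgroup G).lowerCentralSeries a, (⊤ : Subgroup G).lowerCentralSeries b⁆ ≤
      (⊤ : Subgroup G).lowerCentralSeries (a + b + 1) := by
  induction b generalizing a with
  | zero => exact le_rfl
  | succ b ih =>
    rw [Subgroup.lowerCentralSeries_succ, Subgroup.commutator_comm]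
    refine FiniteGroup.three_subgroups_le _ _ _ _ ?_ ?_
    · rw [Subgroup.commutator_comm ⊤, ← Subgroup.lowerCentralSeries_succ]
      refine (ih (a + 1)).trans (le_of_eq ?_)
      congr 1
      omega
    · refine (Subgroup.commutator_mono (ih a) le_rfl).trans (le_of_eq ?_)
      rw [← Subgroup.lowerCentralSeries_succ]
      congr 1

theorem gam_commutator {i j : ℕ} {a b : G} (ha : a ∈ gam G i) (hb : b ∈ gam G j) :
    ⁅a, b⁆ ∈ gam G (i + j) := by
  rcases Nat.eq_zero_or_pos i with rfl | hi
  · rw [zero_add]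
    rw [← inv_mem_iff, commutatorElement_inv, commutatorElement_def, mul_assoc, mul_assoc]
    exact mul_mem hb (by rw [← mul_assoc]; exact (gam_normal j).conj_mem _ (inv_mem hb) a)
  rcases Nat.eq_zero_or_pos j with rfl | hj
  · rw [add_zero, commutatorElement_def, mul_assoc, mul_assoc]
    exact mul_mem ha (by rw [← mul_assoc]; exact (gam_normal i).conj_mem _ (inv_mem ha) b)
  have h := lcs_commutator (G := G) (i - 1) (j - 1) (Subgroup.commutator_mem_commutator ha hb)
  show _ ∈ (⊤ : Subgroup G).lowerCentralSeries _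
  rwa [show i + j - 1 = (i - 1) + (j - 1) + 1 by omega]

/-- The discrete derivative. -/
def D (g : ℕ → G) : ℕ → G := fun n => (g n)⁻¹ * g (n + 1)

theorem D_one : D (1 : ℕ → G) = 1 := by funext n; simp [D]

/-- Polynomial sequences of level `i`. -/
inductive P : ℕ → (ℕ → G) → Prop
  | one (i : ℕ) : P i 1
  | mk (i : ℕ) (g : ℕ → G) (hv : ∀ n, g n ∈ gam G i) (h1 : P (i + 1) (D g)) (h2 : P (i + 1) (D g⁻¹)) :
      P i g

theorem P.val {i : ℕ} {g : ℕ → G} (h : P i g) (n : ℕ) : g n ∈ gam G i := by
  cases h with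
  | one => exact one_mem _
  | mk _ _ hv _ _ => exact hv n

theorem P.deriv {i : ℕ} {g : ℕ → G} (h : P i g) : P (i + 1) (D g) := by
  cases h with
  | one => rw [D_one]; exact P.one _
  | mk _ _ _ h1 _ => exact h1

theorem P.deriv_inv {i : ℕ} {g : ℕ → G} (h : P i g) : P (i + 1) (D g⁻¹) := by
  cases h with
  | one => rw [inv_one, D_one]; exact P.one _
  | mk _ _ _ _ h2 => exact h2

theorem P.inv {i : ℕ} {g : ℕ → G} (h : P i g) : P i g⁻¹ :=
  P.mk i _ (fun n => inv_mem (h.val n)) h.deriv_inv (by rw [inv_inv]; exact h.deriv)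

theorem P.mono_succ {i : ℕ} {g : ℕ → G} (h : P i g) : ∀ {j : ℕ}, i = j + 1 → P j g := by
  induction h with
  | one => exact fun _ => P.one _
  | mk i g hv _ _ ih1 ih2 =>
    intro j hj
    exact P.mk j g (fun n => gam_anti (by omega) (hv n)) (ih1 (by omega)) (ih2 (by omega))

theorem P.mono {i j : ℕ} {g : ℕ → G} (h : P i g) (hji : j ≤ i) : P j g := by
  induction hji with
  | refl => exact h
  | step _ ih => exact ih (h.mono_succ rfl)

/-- Products and commutators of polynomial sequences. -/
theorem mul_and_comm {N : ℕ} (hN : gam G N = ⊥) : ∀ k s : ℕ, N ≤ s + k →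
    (∀ g h : ℕ → G, P s g → P s h → P s (g * h)) ∧
    (∀ i j, i + j = s → ∀ g h : ℕ → G, P i g → P j h → P s ⁅g, h⁆) := by
  intro k
  induction k with
  | zero =>
    intro s hs
    have hbot : ∀ (f : ℕ → G), (∀ n, f n ∈ gam G s) → f = 1 := fun f hf => funext fun n => by
      have := gam_anti (G := G) (show N ≤ s by omega) (hf n)
      rwa [hN, Subgroup.mem_bot] at this
    refine ⟨fun g h hg hh => ?_, fun i j hij g h hg hh => ?_⟩
    · rw [hbot g hg.val, hbot h hh.val, one_mul]; exact P.one s
    · rw [hbot ⁅g, h⁆ fun n => hij ▸ gam_commutator (hg.val n) (hh.val n)]; exact P.one s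
  | succ k ih =>
    intro s hs
    have hA : ∀ t, s < t → ∀ g h : ℕ → G, P t g → P t h → P t (g * h) := fun t ht =>
      (ih t (by omega)).1
    have hB : ∀ t, s < t → ∀ i j, i + j = t → ∀ g h : ℕ → G, P i g → P j h → P t ⁅g, h⁆ := fun t ht =>
      (ih t (by omega)).2
    have conj : ∀ {t : ℕ} {z w : ℕ → G}, P t z → P (s + 1) w → P (s + 1) (z * w * z⁻¹) := by
      intro t z w hz hw
      have h1 := (hB (t + (s + 1)) (by omega) t (s + 1) rfl z w hz hw).mono (show s + 1 ≤ t + (s + 1) by omega)
      have h2 := hA (s + 1) (by omega) _ _ h1 hw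
      rwa [commutatorElement_def, inv_mul_cancel_right] at h2
    have hmulD : ∀ g h : ℕ → G, P s g → P s h → P (s + 1) (D (g * h)) := by
      intro g h hg hh
      have e : D (g * h) = h⁻¹ * D g * h⁻¹⁻¹ * D h := by
        funext n; simp [D, mul_assoc]
      rw [e]
      exact hA (s + 1) (by omega) _ _ (conj hh.inv hg.deriv) hh.deriv
    have hcommD : ∀ i j, i + j = s → ∀ g h : ℕ → G, P i g → P j h → P (s + 1) (D ⁅g, h⁆) := by
      intro i j hij g h hg hh
      have ha : P (s + 1) ⁅D g, h⁆ :=
        hB (s + 1) (by omega) (i + 1) j (by omega) _ _ hg.deriv hh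
      have hb : P (s + 1) ⁅D g, D h⁆ :=
        (hB (s + 2) (by omega) (i + 1) (j + 1) (by omega) _ _ hg.deriv hh.deriv).mono (by omega)
      have hc : P (s + 1) ⁅g, D h⁆ :=
        hB (s + 1) (by omega) i (j + 1) (by omega) _ _ hg hh.deriv
      have hX := hA (s + 1) (by omega) _ _ (conj hg ha) (conj hg (conj hh hb))
      have hX' := conj hh (conj hg (conj hh.inv (conj hg.inv hX)))
      have e : D ⁅g, h⁆ =
          h * (g * (h⁻¹ * (g⁻¹ * (g * ⁅D g, h⁆ * g⁻¹ * (g * (h * ⁅D g, D h⁆ * h⁻¹) * g⁻¹)) * g⁻¹⁻¹) * h⁻¹⁻¹) * g⁻¹) * h⁻¹ *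
            (h * ⁅g, D h⁆ * h⁻¹) := by
        funext n
        simp only [D, commutatorElement_def, Pi.mul_apply, Pi.inv_apply]
        group
      rw [e]
      exact hA (s + 1) (by omega) _ _ hX' (conj hh hc)
    refine ⟨fun g h hg hh => P.mk s _ (fun n => mul_mem (hg.val n) (hh.val n)) (hmulD g h hg hh) ?_,
      fun i j hij g h hg hh => P.mk s _ (fun n => hij ▸ gam_commutator (hg.val n) (hh.val n))
        (hcommD i j hij g h hg hh) ?_⟩
    · -- the inverse product is a product in the other order
      rw [mul_inv_rev]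
      exact hmulD _ _ hh.inv hg.inv
    · rw [commutatorElement_inv]
      exact hcommD j i (by omega) h g hh hg

theorem P.mul {N : ℕ} (hN : gam G N = ⊥) {s : ℕ} {g h : ℕ → G} (hg : P s g) (hh : P s h) : P s (g * h) :=
  (mul_and_comm hN N s (by omega)).1 g h hg hh

theorem P.const {i : ℕ} {a : G} (ha : a ∈ gam G i) : P i (fun _ => a) := by
  refine P.mk i _ (fun _ => ha) ?_ ?_
  · rw [show D (fun _ : ℕ => a) = 1 from funext fun n => inv_mul_cancel a]; exact P.one _
  · rw [show D (fun _ : ℕ => a)⁻¹ = 1 from funext fun n => inv_mul_cancel a⁻¹]; exact P.one _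

theorem P.binom : ∀ {k i : ℕ} {a : G}, a ∈ gam G (i + k) → P i (fun n => a ^ n.choose k) := by
  intro k
  induction k with
  | zero => intro i a ha; simpa using P.const (by simpa using ha)
  | succ k ih =>
    intro i a ha
    have key : ∀ b : G, b ∈ gam G (i + (k + 1)) → P (i + 1) (D fun n => b ^ n.choose (k + 1)) := by
      intro b hb
      have e : D (fun n => b ^ n.choose (k + 1)) = fun n => b ^ n.choose k := by
        funext n
        simp only [D, Nat.choose_succ_succ', pow_add]
        rw [← mul_assoc, mul_assoc, ((Commute.refl b).pow_pow _ _).eq]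
        group
      rw [e]
      exact ih (by rwa [show i + 1 + k = i + (k + 1) by omega])
    refine P.mk i _ (fun n => pow_mem (gam_anti (by omega) ha) _) (key a ha) ?_
    rw [show (fun n => a ^ n.choose (k + 1))⁻¹ = fun n : ℕ => a⁻¹ ^ n.choose (k + 1) from
      funext fun n => (inv_pow _ _).symm]
    exact key _ (inv_mem ha)

/-- A sequence of level `i` vanishing below `k` has its value at `k` in level `i + k`. -/
theorem P.val_of_vanish : ∀ {k i : ℕ} {g : ℕ → G}, P i g → (∀ n < k, g n = 1) → g k ∈ gam G (i + k) := by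
  intro k
  induction k with
  | zero => intro i g hg _; exact hg.val 0
  | succ k ih =>
    intro i g hg hz
    have h := ih hg.deriv (fun n hn => by simp [D, hz n (by omega), hz (n + 1) (by omega)])
    rw [show i + 1 + k = i + (k + 1) by omega] at h
    simpa [D, hz k (by omega)] using h

/-- In a group of class less than `p`, `(x * y) ^ q = x ^ q * y ^ q * c` with `c` a product of
`q`-th powers of elements of the derived subgroup, for every `q` a power of `p`. -/
theorem hall_petrescu {p : ℕ} (hp : p.Prime) (hN : gam G p = ⊥) (x y : G) (n : ℕ) :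
    ∃ c ∈ Subgroup.closure {z : G | ∃ d ∈ _root_.commutator G, z = d ^ p ^ n},
      (x * y) ^ p ^ n = x ^ p ^ n * y ^ p ^ n * c := by
  set q := p ^ n with hq
  set S := Subgroup.closure {z : G | ∃ d ∈ _root_.commutator G, z = d ^ q}
  set g : ℕ → G := fun m => (y ^ m)⁻¹ * (x ^ m)⁻¹ * (x * y) ^ m with hg
  have hpow : ∀ a : G, P 0 (fun m => a ^ m) := fun a => by
    have h := P.binom (k := 1) (i := 0) (a := a) (by simp [gam])
    simpa [Nat.choose_one_right] using h
  have hgP : P 0 g := ((hpow y).inv.mul hN (hpow x).inv).mul hN (hpow (x * y))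
  have key : ∀ k, ∃ E : ℕ → G, P 0 E ∧ E q ∈ S ∧ ∀ m < k, E m = g m := by
    intro k
    induction k with
    | zero => exact ⟨1, P.one 0, one_mem _, fun m hm => absurd hm (by omega)⟩
    | succ k ih =>
      obtain ⟨E, hE, hEq, hEg⟩ := ih
      by_cases hk : k < 2
      · refine ⟨1, P.one 0, one_mem _, fun m hm => ?_⟩
        rcases (show m = 0 ∨ m = 1 by omega) with rfl | rfl <;> simp [hg, mul_assoc]
      have hh : P 0 (E⁻¹ * g) := hE.inv.mul hN hgP
      have hak : (E⁻¹ * g) k ∈ gam G k := by
        have := hh.val_of_vanish (k := k) fun m hm => by simp [hEg m hm]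
        simpa using this
      set a := (E⁻¹ * g) k with ha
      refine ⟨E * fun m => a ^ m.choose k, hE.mul hN (P.binom (by simpa using hak)), mul_mem hEq ?_, ?_⟩
      · by_cases hkp : p ≤ k
        · have := gam_anti hkp hak
          rw [hN, Subgroup.mem_bot] at this
          simp [this]
        have hdvd : q ∣ q.choose k := by
          have h1 : q * (q - 1).choose (k - 1) = q.choose k * k := by
            have := Nat.add_one_mul_choose_eq (q - 1) (k - 1)
            rwa [Nat.sub_add_cancel (pow_pos hp.pos n : 1 ≤ q), Nat.sub_add_cancel (by omega : 1 ≤ k)] at this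
          refine Nat.Coprime.dvd_of_dvd_mul_right ?_ (Dvd.intro _ h1)
          exact Nat.Coprime.pow_left n ((Nat.Prime.coprime_iff_not_dvd hp).2
            fun h => hkp (Nat.le_of_dvd (by omega) h))
        obtain ⟨t, ht⟩ := hdvd
        refine Subgroup.subset_closure ⟨a ^ t, ?_, ?_⟩
        · refine pow_mem ?_ t
          have := gam_anti (show 2 ≤ k by omega) hak
          exact this
        · show a ^ q.choose k = _
          rw [ht, ← pow_mul, mul_comm]
      · intro m hm
        rcases Nat.lt_succ_iff_lt_or_eq.1 hm with hm' | rfl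
        · simp [hEg m hm', Nat.choose_eq_zero_of_lt hm']
        · simp [ha]
  obtain ⟨E, hE, hEq, hEg⟩ := key p
  have heq : ∀ m, E m = g m := by
    intro m
    induction m using Nat.strong_induction_on with
    | _ m ih =>
      by_cases hm : m < p
      · exact hEg m hm
      have hh := (hE.inv.mul hN hgP).val_of_vanish (k := m) fun j hj => by simp [ih j hj]
      have := gam_anti (show p ≤ 0 + m by omega) hh
      rw [hN, Subgroup.mem_bot] at this
      exact inv_mul_eq_one.1 this
  refine ⟨g q, heq q ▸ hEq, ?_⟩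
  simp [hg, mul_assoc]

end Cfsg.Agent.PolySeq
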