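import Mathlib.GroupTheory.Sylow
import Mathlib.GroupTheory.Transfer
import Mathlib.GroupTheory.SpecificGroups.Cyclic
import Mathlib.GroupTheory.Perm.Cycle.Type
import Mathlib.GroupTheory.GroupAction.Quotient

/-!
Tools for ruling out Sylow numbers: passing to the image in the symmetric group on the Sylow
subgroups, and to normal subgroups of index prime to `p`.
-/

set_option autoImplicit false

namespace Cfsg.Agent.SylowCount

variable {G : Type*} [Group G] [Finite G] {p : ℕ} [Fact p.Prime]

/-- An element of a `p`-subgroup fixing a Sylow subgroup lies in it. -/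
theorem le_of_le_normalizer {D : Subgroup G} (hD : IsPGroup p D) (Q : Sylow p G)
    (h : D ≤ Subgroup.normalizer (Q : Set G)) : D ≤ (Q : Subgroup G) := by
  have h2 := hD.inf_normalizer_sylow Q
  rw [inf_eq_left.2 h] at h2
  exact inf_eq_left.1 h2.symm

theorem smul_eq_iff_mem (P Q : Sylow p G) {x : G} (hx : x ∈ (P : Subgroup G)) :
    x • Q = Q ↔ x ∈ (Q : Subgroup G) := by
  rw [Sylow.smul_eq_iff_mem_normalizer]
  constructor
  · intro h
    have hle := le_of_le_normalizer (D := Subgroup.zpowers x)
      (P.isPGroup'.to_le (Subgroup.zpowers_le.2 hx)) Q (Subgroup.zpowers_le.2 h)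
    exact hle (Subgroup.mem_zpowers x)
  · exact fun h => Subgroup.le_normalizer h

theorem sylow_eq_of_le {P Q : Sylow p G} (h : (P : Subgroup G) ≤ Q) : P = Q :=
  (Sylow.ext (P.3 Q.isPGroup' h)).symm

/-- Passing to the image in the symmetric group on the Sylow subgroups keeps the Sylow number. -/
theorem card_sylow_quotient_permKer :
    Nat.card (Sylow p (G ⧸ (MulAction.toPermHom G (Sylow p G)).ker)) = Nat.card (Sylow p G) := by
  set K := (MulAction.toPermHom G (Sylow p G)).ker with hK
  set π := QuotientGroup.mk' K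
  have hsurj : Function.Surjective π := QuotientGroup.mk'_surjective K
  refine (Nat.card_eq_of_bijective (fun P : Sylow p G => P.mapSurjective hsurj)
    ⟨fun P Q h => ?_, Sylow.mapSurjective_surjective hsurj p⟩).symm
  have h' : (P : Subgroup G).map π = (Q : Subgroup G).map π :=
    congrArg (fun R : Sylow p (G ⧸ K) => R.toSubgroup) h
  refine (sylow_eq_of_le (le_of_le_normalizer Q.isPGroup' P ?_)).symm
  refine le_trans (Subgroup.le_comap_map π Q) ?_
  rw [← h', Subgroup.comap_map_eq, QuotientGroup.ker_mk']
  refine sup_le Subgroup.le_normalizer fun g hg => ?_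
  refine Sylow.smul_eq_iff_mem_normalizer.1 ?_
  exact DFunLike.congr_fun (MonoidHom.mem_ker.1 hg) P

/-- The image in the symmetric group on the Sylow subgroups acts faithfully on its Sylow subgroups. -/
theorem faithful_quotient_permKer :
    FaithfulSMul (G ⧸ (MulAction.toPermHom G (Sylow p G)).ker)
      (Sylow p (G ⧸ (MulAction.toPermHom G (Sylow p G)).ker)) := by
  set K := (MulAction.toPermHom G (Sylow p G)).ker with hK
  set π := QuotientGroup.mk' K
  have hsurj : Function.Surjective π := QuotientGroup.mk'_surjective K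
  have hinj : Function.Injective (fun P : Sylow p G => P.mapSurjective hsurj) := by
    exact ((Nat.bijective_iff_surjective_and_card _).2 ⟨Sylow.mapSurjective_surjective hsurj p,
      (card_sylow_quotient_permKer (G := G) (p := p)).symm⟩).1
  have key : ∀ (g : G) (P : Sylow p G),
      π g • P.mapSurjective hsurj = (g • P).mapSurjective hsurj := by
    intro g P
    apply Sylow.ext
    rw [Sylow.coe_subgroup_smul, Sylow.coe_mapSurjective, Sylow.coe_mapSurjective,
      Sylow.coe_subgroup_smul]
    change ((P : Subgroup G).map π).map (MulAut.conj (π g)).toMonoidHom =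
      ((P : Subgroup G).map (MulAut.conj g).toMonoidHom).map π
    rw [Subgroup.map_map, Subgroup.map_map]
    congr 1
  refine ⟨fun {a b} h => ?_⟩
  obtain ⟨a, rfl⟩ := hsurj a
  obtain ⟨b, rfl⟩ := hsurj b
  apply QuotientGroup.eq.2
  rw [hK, MonoidHom.mem_ker]
  apply Equiv.ext
  intro P
  have h1 := h (P.mapSurjective hsurj)
  rw [key, key] at h1
  show (a⁻¹ * b) • P = P
  rw [mul_smul, ← hinj h1, inv_smul_smul]

/-- A subgroup containing every Sylow subgroup has the same Sylow number. -/
theorem card_sylow_of_forall_le (M : Subgroup G) (hle : ∀ P : Sylow p G, (P : Subgroup G) ≤ M) :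
    Nat.card (Sylow p M) = Nat.card (Sylow p G) := by
  refine (Nat.card_eq_of_bijective (fun P : Sylow p G => P.subtype (hle P))
    ⟨fun P Q h => Sylow.subtype_injective h, fun R => ?_⟩).symm
  obtain ⟨Q, hQ⟩ := R.exists_comap_subtype_eq
  exact ⟨Q, Sylow.ext hQ⟩

/-- Every `p`-subgroup lies in a normal subgroup of index prime to `p`. -/
theorem le_of_not_dvd_index (M : Subgroup G) [M.Normal] (hM : ¬ p ∣ M.index) {D : Subgroup G}
    (hD : IsPGroup p D) : D ≤ M := by
  obtain ⟨k, hk⟩ := hD.index (M.subgroupOf D)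
  rw [← Subgroup.relIndex_eq_one]
  show (M.subgroupOf D).index = 1
  rw [hk]
  rcases Nat.eq_zero_or_pos k with rfl | hpos
  · rfl
  · exfalso
    refine hM (dvd_trans ?_ (Subgroup.relIndex_dvd_index_of_normal (H := M) (K := D)))
    show p ∣ (M.subgroupOf D).index
    rw [hk]
    exact dvd_pow_self p hpos.ne'

/-- If `N(Q) ≤ C(Q)` for a Sylow `q`-subgroup, the number of Sylow `p`-subgroups is prime to `q`. -/
theorem not_dvd_card_sylow_of_central {q : ℕ} [Fact q.Prime] (hpq : p ≠ q) (Q : Sylow q G)
    (h : Subgroup.normalizer (Q : Set G) ≤ Subgroup.centralizer (Q : Set G)) :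
    ¬ q ∣ Nat.card (Sylow p G) := by
  have hco := MonoidHom.ker_transferSylow_isComplement' Q h
  have hnd := MonoidHom.not_dvd_card_ker_transferSylow Q h
  set K := (MonoidHom.transferSylow Q h).ker
  have hle : ∀ P : Sylow p G, (P : Subgroup G) ≤ K := by
    intro P
    refine le_of_not_dvd_index K ?_ P.isPGroup'
    obtain ⟨k, hk⟩ := IsPGroup.iff_card.1 Q.isPGroup'
    rw [hco.symm.index_eq_card, hk]
    intro hd
    exact hpq ((Nat.prime_dvd_prime_iff_eq Fact.out Fact.out).1 ((Fact.out (p := p.Prime)).dvd_of_dvd_pow hd))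
  intro hd
  obtain ⟨P⟩ : Nonempty (Sylow p K) := inferInstance
  rw [← card_sylow_of_forall_le K hle, P.card_eq_index_normalizer] at hd
  exact hnd (hd.trans (Subgroup.index_dvd_card _))

end Cfsg.Agent.SylowCount
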