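import Cfsg.Agent.Lib.Solvable.Coprime
import Mathlib.GroupTheory.Sylow
import Mathlib.GroupTheory.Subgroup.Simple

/-!
M. Hall's factorisation of Sylow numbers along a normal subgroup, and the prime-power parts of
Sylow numbers under coprime action.
-/

set_option autoImplicit false
set_option linter.style.haveILetI false

namespace Cfsg.Agent.SylowNumbers

open scoped Pointwise

universe u v

variable {G : Type u} [Group G] {p : ℕ}

theorem index_eq_relIndex_of_sup_eq_top [Finite G] {B N : Subgroup G} [N.Normal] (h : B ⊔ N = ⊤) :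
    B.index = B.relIndex N := by
  have e1 : N.index = N.relIndex B := by
    rw [← Subgroup.relIndex_top_right, ← h, Subgroup.relIndex_sup_right]
  have hB : N.relIndex B * Nat.card (N ⊓ B : Subgroup G) = Nat.card B := by
    rw [← Subgroup.inf_relIndex_right N B, mul_comm]
    have := Subgroup.relIndex_mul_relIndex ⊥ (N ⊓ B) B bot_le inf_le_right
    simpa [Subgroup.relIndex_bot_left] using this
  have hN : B.relIndex N * Nat.card (N ⊓ B : Subgroup G) = Nat.card N := by
    rw [inf_comm, ← Subgroup.inf_relIndex_right B N, mul_comm]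
    have := Subgroup.relIndex_mul_relIndex ⊥ (B ⊓ N) N bot_le inf_le_right
    simpa [Subgroup.relIndex_bot_left] using this
  have hG : Nat.card B * B.index = Nat.card N * N.index := by
    rw [Subgroup.card_mul_index, Subgroup.card_mul_index]
  rw [← hB, ← hN, e1] at hG
  have hpos : 0 < N.relIndex B * Nat.card (N ⊓ B : Subgroup G) :=
    hB ▸ Nat.card_pos
  apply Nat.eq_of_mul_eq_mul_left hpos
  rw [hG]; ring

theorem card_sylow_congr {H : Type v} [Group H] [Finite G] [Finite H] [Fact p.Prime] (e : G ≃* H) :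
    Nat.card (Sylow p G) = Nat.card (Sylow p H) :=
  le_antisymm
    (Nat.card_le_card_of_surjective _
      (Sylow.mapSurjective_surjective (f := e.symm.toMonoidHom) e.symm.surjective p))
    (Nat.card_le_card_of_surjective _
      (Sylow.mapSurjective_surjective (f := e.toMonoidHom) e.surjective p))

theorem card_eq [Finite G] [Fact p.Prime] (P : Sylow p G) :
    Nat.card (Sylow p G) = (Subgroup.normalizer ((P : Subgroup G) : Set G)).index :=
  Sylow.card_eq_index_normalizer P

/-- A normal `p`-subgroup does not change the Sylow number. -/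
theorem card_sylow_quotient_pgroup [Finite G] [Fact p.Prime] (D : Subgroup G) [D.Normal]
    (hD : IsPGroup p D) : Nat.card (Sylow p (G ⧸ D)) = Nat.card (Sylow p G) := by
  obtain ⟨P, hP⟩ := hD.exists_le_sylow
  have hπ := QuotientGroup.mk'_surjective D
  rw [card_eq P, card_eq (P.mapSurjective hπ),
    Sylow.coe_mapSurjective, ← Subgroup.index_comap_of_surjective _ hπ,
    Subgroup.comap_normalizer_eq_of_surjective _ hπ, Subgroup.comap_map_eq, QuotientGroup.ker_mk',
    sup_eq_left.2 hP]

theorem card_sylow_of_normal_of_le [Finite G] [Fact p.Prime] {L : Subgroup G} [L.Normal]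
    (P : Sylow p G) (hP : (P : Subgroup G) ≤ L) : Nat.card (Sylow p L) = Nat.card (Sylow p G) := by
  have hall : ∀ R : Sylow p G, (R : Subgroup G) ≤ L := by
    intro R
    obtain ⟨g, rfl⟩ := MulAction.exists_smul_eq G P R
    rintro _ ⟨y, hy, rfl⟩
    exact (inferInstance : L.Normal).conj_mem y (hP hy) g
  refine (Nat.card_eq_of_bijective (fun R : Sylow p G => R.subtype (hall R)) ⟨?_, ?_⟩).symm
  · intro R S h
    exact Sylow.subtype_injective h
  · intro T
    obtain ⟨R, hR⟩ := (T.isPGroup'.map L.subtype).exists_le_sylow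
    exact ⟨R, Sylow.ext (T.3 ((R.subtype (hall R)).isPGroup') (fun t ht => hR ⟨t, ht, rfl⟩))⟩

theorem card_sylow_eq_mul_sup [Finite G] [Fact p.Prime] (P : Sylow p G) (K : Subgroup G) [K.Normal] :
    Nat.card (Sylow p G) =
      Nat.card (Sylow p (G ⧸ K)) * Nat.card (Sylow p ↥((P : Subgroup G) ⊔ K)) := by
  set L := (P : Subgroup G) ⊔ K with hL
  set M := Subgroup.normalizer (L : Set G) with hM
  have hπ := QuotientGroup.mk'_surjective K
  have h1 : Nat.card (Sylow p (G ⧸ K)) = M.index := by
    rw [card_eq (P.mapSurjective hπ), Sylow.coe_mapSurjective,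
      ← Subgroup.index_comap_of_surjective _ hπ, Subgroup.comap_normalizer_eq_of_surjective _ hπ,
      Subgroup.comap_map_eq, QuotientGroup.ker_mk']
  have hNM : Subgroup.normalizer ((P : Subgroup G) : Set G) ≤ M := by
    intro g hg
    rw [hM, Subgroup.mem_normalizer_iff_map_conj_eq, hL, Subgroup.map_sup,
      Subgroup.mem_normalizer_iff_map_conj_eq.1 hg]
    congr 1
    exact Subgroup.mem_normalizer_iff_map_conj_eq.1
      (by rw [Subgroup.normalizer_eq_top]; trivial)
  have hPL : (P : Subgroup G) ≤ L := le_sup_left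
  have hLM : L ≤ M := Subgroup.le_normalizer
  let PM : Sylow p M := P.subtype (hPL.trans hLM)
  haveI : (L.subgroupOf M).Normal := Subgroup.normal_subgroupOf_of_le_normalizer le_rfl
  have h2 : Nat.card (Sylow p L) = Nat.card (Sylow p M) := by
    rw [← card_sylow_congr (Subgroup.subgroupOfEquivOfLe hLM)]
    exact card_sylow_of_normal_of_le PM (fun x hx => hPL hx)
  rw [h1, h2, card_eq P, card_eq PM,
    ← Subgroup.relIndex_mul_index hNM, mul_comm]
  congr 1
  rw [Subgroup.relIndex]
  congr 1
  exact Subgroup.subgroupOf_normalizer_eq (hPL.trans hLM) |>.symm ▸ rfl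

theorem card_sylow_eq_mul_of_sup_eq_top [Finite G] [Fact p.Prime] (P : Sylow p G) (K : Subgroup G)
    [K.Normal] (h : (P : Subgroup G) ⊔ K = ⊤) :
    Nat.card (Sylow p G) = Nat.card (Sylow p K) *
      Nat.card (Sylow p ↥(Subgroup.normalizer (((P : Subgroup G) ⊓ K : Subgroup G) : Set G))) := by
  set D := (P : Subgroup G) ⊓ K with hD
  set N := Subgroup.normalizer (D : Set G) with hN
  set Np := Subgroup.normalizer ((P : Subgroup G) : Set G)
  have hNp : Np ≤ N := by
    intro g hg
    rw [hN, Subgroup.mem_normalizer_iff]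
    intro x
    rw [hD, Subgroup.mem_inf, Subgroup.mem_inf, ← Subgroup.mem_normalizer_iff.1 hg x]
    refine and_congr_right fun _ => ⟨fun hx => (inferInstance : K.Normal).conj_mem x hx g, fun hx => ?_⟩
    simpa [mul_assoc] using (inferInstance : K.Normal).conj_mem _ hx g⁻¹
  have hPN : (P : Subgroup G) ≤ N := Subgroup.le_normalizer.trans hNp
  have hsup : N ⊔ K = ⊤ := eq_top_iff.2 (h ▸ sup_le_sup_right hPN K)
  obtain ⟨R, hR⟩ : ∃ R : Sylow p K, (R : Subgroup K) = (P : Subgroup G).subgroupOf K := by
    have hpg : IsPGroup p ((P : Subgroup G).subgroupOf K) :=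
      P.isPGroup'.comap_subtype (K := K)
    refine ⟨hpg.toSylow ?_, rfl⟩
    intro hdvd
    refine P.not_dvd_index (hdvd.trans ?_)
    rw [index_eq_relIndex_of_sup_eq_top h]
    exact dvd_rfl
  have h1 : Nat.card (Sylow p K) = N.index := by
    rw [index_eq_relIndex_of_sup_eq_top hsup, card_eq R, Subgroup.relIndex]
    congr 1
    rw [hR, ← Subgroup.inf_subgroupOf_right, ← Subgroup.subgroupOf_normalizer_eq inf_le_right]
  rw [h1, card_eq P,
    card_eq (P.subtype hPN), ← Subgroup.relIndex_mul_index hNp, mul_comm]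
  congr 1
  rw [Subgroup.relIndex]
  congr 1
  exact Subgroup.subgroupOf_normalizer_eq hPN

/-- The three-factor formula. -/
theorem card_sylow_eq_mul [Finite G] [Fact p.Prime] (P : Sylow p G) (K : Subgroup G) [K.Normal]
    (N : Subgroup G)
    (hN : N = ((P : Subgroup G) ⊔ K) ⊓ Subgroup.normalizer (((P : Subgroup G) ⊓ K : Subgroup G) : Set G)) :
    Nat.card (Sylow p G) = Nat.card (Sylow p (G ⧸ K)) * Nat.card (Sylow p K) * Nat.card (Sylow p N) := by
  set L := (P : Subgroup G) ⊔ K with hL
  let PL : Sylow p L := P.subtype le_sup_left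
  have htop : (PL : Subgroup L) ⊔ K.subgroupOf L = ⊤ := by
    show (P : Subgroup G).subgroupOf L ⊔ K.subgroupOf L = ⊤
    rw [← Subgroup.subgroupOf_sup le_sup_left le_sup_right]
    exact Subgroup.subgroupOf_self _
  rw [card_sylow_eq_mul_sup P K, card_sylow_eq_mul_of_sup_eq_top PL (K.subgroupOf L) htop, ← mul_assoc,
    card_sylow_congr (Subgroup.subgroupOfEquivOfLe (le_sup_right : K ≤ L))]
  congr 1
  have hDL : (P : Subgroup G) ⊓ K ≤ L := inf_le_right.trans le_sup_right
  have e : Subgroup.normalizer (((PL : Subgroup L) ⊓ K.subgroupOf L : Subgroup L) : Set L) = N.subgroupOf L := by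
    have e1 : (PL : Subgroup L) ⊓ K.subgroupOf L = ((P : Subgroup G) ⊓ K).subgroupOf L := rfl
    rw [e1, ← Subgroup.subgroupOf_normalizer_eq hDL, hN, Subgroup.inf_subgroupOf_left]
  rw [e]
  exact card_sylow_congr (Subgroup.subgroupOfEquivOfLe (hN ▸ inf_le_left))

/-- Every prime-power part of `n` is congruent to `1` modulo `p`. -/
def Good (p n : ℕ) : Prop := ∀ l : ℕ, l.Prime → l ^ n.factorization l % p = 1

theorem good_one [hp : Fact p.Prime] : Good p 1 := fun l _ => by
  simp [Nat.one_mod_eq_one.2 hp.out.ne_one]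

theorem Good.mul [hp : Fact p.Prime] {a b : ℕ} (ha : Good p a) (hb : Good p b) (ha0 : a ≠ 0) (hb0 : b ≠ 0) :
    Good p (a * b) := by
  intro l hl
  rw [Nat.factorization_mul ha0 hb0, Finsupp.add_apply, pow_add, Nat.mul_mod, ha l hl, hb l hl]
  exact Nat.one_mod_eq_one.2 hp.out.ne_one

theorem card_eq_pow_of_sylow [Finite G] {l : ℕ} [Fact l.Prime] {K : Subgroup G} (Q : Sylow l K) :
    Nat.card ((Q : Subgroup K).map K.subtype : Subgroup G) = l ^ (Nat.card K).factorization l := by
  rw [Subgroup.card_map_of_injective K.subtype_injective, Q.card_eq_multiplicity]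

/-- Coprime action: the number of Sylow `p`-subgroups has all prime-power parts `1` modulo `p`. -/
theorem good_of_coprime [Finite G] [hp : Fact p.Prime] (P : Sylow p G) (K : Subgroup G) [K.Normal]
    (h : (P : Subgroup G) ⊔ K = ⊤) (hcop : (Nat.card (P : Subgroup G)).Coprime (Nat.card K)) :
    Good p (Nat.card (Sylow p G)) := by
  set A := (P : Subgroup G) with hA
  set Np := Subgroup.normalizer (A : Set G) with hNp
  set C := K ⊓ Subgroup.centralizer (A : Set G) with hC
  have hinf : K ⊓ A = ⊥ := SchurZ.inf_eq_bot hcop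
  have hAK : A ≤ Subgroup.normalizer (K : Set G) := Subgroup.le_normalizer_of_normal
  haveI : Group.IsNilpotent A := P.isPGroup'.isNilpotent
  have hCN : Np ⊓ K = C := by
    refine le_antisymm (fun c hc => ⟨hc.2,
      SchurZ.mem_centralizer_of_mem_normalizer hAK hinf hc.2 hc.1⟩) ?_
    exact le_inf (inf_le_right.trans (Subgroup.centralizer_le_normalizer _)) inf_le_left
  have hsup : Np ⊔ K = ⊤ := eq_top_iff.2 (h ▸ sup_le_sup_right Subgroup.le_normalizer K)
  have hn : Nat.card (Sylow p G) = C.relIndex K := by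
    rw [card_eq P, index_eq_relIndex_of_sup_eq_top hsup, ← Subgroup.inf_relIndex_right Np K, hCN]
  have hn0 : Nat.card (Sylow p G) ≠ 0 := Nat.card_pos.ne'
  have hmul : Nat.card C * Nat.card (Sylow p G) = Nat.card K := by
    rw [hn]
    have := Subgroup.relIndex_mul_relIndex ⊥ C K bot_le inf_le_left
    simpa [Subgroup.relIndex_bot_left] using this
  intro l hl
  haveI : Fact l.Prime := ⟨hl⟩
  obtain ⟨S⟩ : Nonempty (Sylow l C) := inferInstance
  set U := (S : Subgroup C).map C.subtype with hU
  have hUC : U ≤ C := Subgroup.map_subtype_le _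
  have hUA : A ≤ Subgroup.normalizer (U : Set G) :=
    (Subgroup.le_centralizer_iff.1 (hUC.trans inf_le_right)).trans (Subgroup.centralizer_le_normalizer _)
  obtain ⟨Q, hUQ, hAQ⟩ := CoprimeAct.exists_invariant_sylow_ge hAK hcop (Or.inl inferInstance)
    (hUC.trans inf_le_left) (S.isPGroup'.map C.subtype) hUA
  set Qg := (Q : Subgroup K).map K.subtype with hQg
  have hQK : Qg ≤ K := Subgroup.map_subtype_le _
  have hQC : Qg ⊓ C = U := by
    refine (Subgroup.eq_of_le_of_card_ge (le_inf hUQ hUC) ?_).symm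
    obtain ⟨k, hk⟩ := IsPGroup.iff_card.1 ((Q.isPGroup'.map K.subtype).to_le (inf_le_left : Qg ⊓ C ≤ Qg))
    rw [hk, hU, card_eq_pow_of_sylow S]
    refine Nat.pow_le_pow_right hl.pos ((hl.pow_dvd_iff_le_factorization Nat.card_pos.ne').1 ?_)
    exact hk ▸ Subgroup.card_dvd_of_le inf_le_right
  letI : MulAction A Qg :=
    MulAction.compHom Qg ((Subgroup.normalizerMonoidHom Qg).comp (Subgroup.inclusion hAQ))
  have hsmul : ∀ (a : A) (q : Qg), ((a • q : Qg) : G) = a * q * (a : G)⁻¹ := fun a q => rfl
  have hmod := P.isPGroup'.card_modEq_card_fixedPoints Qg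
  have hfix : Nat.card (MulAction.fixedPoints A Qg) = Nat.card U := by
    rw [← hQC]
    refine Nat.card_congr ⟨fun q => ⟨((q : Qg) : G), (q : Qg).2, hQK (q : Qg).2, ?_⟩,
      fun u => ⟨⟨u, u.2.1⟩, ?_⟩, fun q => rfl, fun u => rfl⟩
    · intro a ha
      have := congrArg Subtype.val (q.2 ⟨a, ha⟩)
      rw [hsmul] at this
      exact mul_inv_eq_iff_eq_mul.1 this
    · intro a
      apply Subtype.ext
      rw [hsmul]
      exact CoprimeAct.conj_eq_of_commute (u.2.2.2 a a.2)
  have hQcard : Nat.card Qg = Nat.card U * l ^ (Nat.card (Sylow p G)).factorization l := by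
    rw [hQg, card_eq_pow_of_sylow Q, hU, card_eq_pow_of_sylow S, ← hmul,
      Nat.factorization_mul Nat.card_pos.ne' hn0, Finsupp.add_apply, pow_add]
  rw [hfix, hQcard] at hmod
  by_cases hA1 : A = ⊥
  · -- trivial case
    have : Nat.card (Sylow p G) = 1 := by
      rw [card_eq P, ← hA, hA1, Subgroup.normalizer_eq_top, Subgroup.index_top]
    rw [this]
    simp [Nat.one_mod_eq_one.2 hp.out.ne_one]
  have hpK : ¬ p ∣ Nat.card K := by
    intro hd
    obtain ⟨k, hk⟩ := IsPGroup.iff_card.1 P.isPGroup'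
    have hk0 : k ≠ 0 := fun e => hA1 (Subgroup.card_eq_one.1 (by rw [hA, hk, e, pow_zero]))
    have hdA : p ∣ Nat.card A := by rw [hA, hk]; exact dvd_pow_self p hk0
    exact hp.out.not_dvd_one (hcop ▸ Nat.dvd_gcd hdA hd)
  have hUp : p.Coprime (Nat.card U) :=
    (Nat.Prime.coprime_iff_not_dvd hp.out).2 fun hd =>
      hpK (hd.trans (Subgroup.card_dvd_of_le (hUC.trans inf_le_left)))
  have h2 : Nat.card U * l ^ (Nat.card (Sylow p G)).factorization l ≡ Nat.card U * 1 [MOD p] := by
    rw [mul_one]; exact hmod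
  have h3 := Nat.ModEq.cancel_left_of_coprime hUp h2
  rw [Nat.ModEq, Nat.one_mod_eq_one.2 hp.out.ne_one] at h3
  exact h3

/-- Induction principle for multiplicative properties of Sylow numbers. -/
theorem induction_sylow (p : ℕ) [Fact p.Prime] (Q : ℕ → Prop)
    (hmul : ∀ a b, a ≠ 0 → b ≠ 0 → Q a → Q b → Q (a * b)) (hgood : ∀ n, n ≠ 0 → Good p n → Q n)
    (C : ∀ (G : Type u) [Group G], Prop)
    (hsub : ∀ (G : Type u) [Group G] (H : Subgroup G), C G → C H)
    (hquot : ∀ (G : Type u) [Group G] (H : Subgroup G) [H.Normal], C G → C (G ⧸ H))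
    (hsimple : ∀ (S : Type u) [Group S] [Finite S], IsSimpleGroup S → C S → Q (Nat.card (Sylow p S)))
    (G : Type u) [Group G] [Finite G] (hG : C G) : Q (Nat.card (Sylow p G)) := by
  suffices H : ∀ n : ℕ, ∀ (G : Type u) [Group G] [Finite G], Nat.card G = n → C G →
      Q (Nat.card (Sylow p G)) from H _ G rfl hG
  clear! G
  intro n
  induction n using Nat.strong_induction_on with
  | _ n ih =>
    intro G _ _ hn hG
    obtain ⟨P⟩ : Nonempty (Sylow p G) := inferInstance
    by_cases hK : ∃ K : Subgroup G, K.Normal ∧ K ≠ ⊥ ∧ K ≠ ⊤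
    · obtain ⟨K, hKn, hK1, hKtop⟩ := hK
      haveI := hKn
      set N := ((P : Subgroup G) ⊔ K) ⊓
        Subgroup.normalizer (((P : Subgroup G) ⊓ K : Subgroup G) : Set G) with hN
      have hcard := Subgroup.card_eq_card_quotient_mul_card_subgroup K
      have h2 : 1 < Nat.card K := (Subgroup.one_lt_card_iff_ne_bot K).2 hK1
      have h3 : 1 < Nat.card (G ⧸ K) := by
        have := Subgroup.index_ne_zero_of_finite (H := K)
        have h1 : K.index ≠ 1 := fun e => hKtop (Subgroup.index_eq_one.1 e)
        show 1 < K.index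
        omega
      have hq : Q (Nat.card (Sylow p (G ⧸ K))) :=
        ih _ (by rw [← hn, hcard]; exact lt_mul_of_one_lt_right Nat.card_pos h2) _ rfl (hquot G K hG)
      have hk : Q (Nat.card (Sylow p K)) :=
        ih _ (by rw [← hn, hcard]; exact lt_mul_of_one_lt_left Nat.card_pos h3) _ rfl (hsub G K hG)
      rw [card_sylow_eq_mul P K N hN]
      refine hmul _ _ (mul_ne_zero Nat.card_pos.ne' Nat.card_pos.ne') Nat.card_pos.ne'
        (hmul _ _ Nat.card_pos.ne' Nat.card_pos.ne' hq hk) ?_
      by_cases hNtop : N = ⊤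
      · have hLtop : (P : Subgroup G) ⊔ K = ⊤ := eq_top_iff.2 (hNtop ▸ inf_le_left)
        haveI hDn : ((P : Subgroup G) ⊓ K).Normal :=
          Subgroup.normalizer_eq_top_iff.1 (eq_top_iff.2 (hNtop ▸ inf_le_right))
        rw [hNtop, card_sylow_congr Subgroup.topEquiv]
        by_cases hD : (P : Subgroup G) ⊓ K = ⊥
        · refine hgood _ Nat.card_pos.ne' (good_of_coprime P K hLtop ?_)
          have hidx := P.not_dvd_index
          rw [index_eq_relIndex_of_sup_eq_top hLtop, ← Subgroup.inf_relIndex_right, hD,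
            Subgroup.relIndex_bot_left] at hidx
          obtain ⟨k, hk⟩ := IsPGroup.iff_card.1 P.isPGroup'
          rw [hk]
          exact Nat.Coprime.pow_left k ((Nat.Prime.coprime_iff_not_dvd (Fact.out : p.Prime)).2 hidx)
        · rw [← card_sylow_quotient_pgroup ((P : Subgroup G) ⊓ K) (P.isPGroup'.to_le inf_le_left)]
          refine ih _ ?_ _ rfl (hquot G _ hG)
          rw [← hn, Subgroup.card_eq_card_quotient_mul_card_subgroup ((P : Subgroup G) ⊓ K)]
          exact lt_mul_of_one_lt_right Nat.card_pos ((Subgroup.one_lt_card_iff_ne_bot _).2 hD)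
      · refine ih _ ?_ N rfl (hsub G N hG)
        rw [← hn]
        exact lt_of_le_of_ne (Subgroup.card_le_card_group N) fun e => hNtop (Subgroup.eq_top_of_card_eq N e)
    · rcases subsingleton_or_nontrivial G with hG1 | hG1
      · have : Nat.card (Sylow p G) = 1 := by
          rw [card_eq P, Subgroup.index_eq_one]
          exact Subsingleton.elim _ _
        rw [this]
        exact hgood 1 one_ne_zero good_one
      · refine hsimple G ⟨fun K hKn => ?_⟩ hG
        by_contra hcon
        push Not at hcon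
        exact hK ⟨K, hKn, hcon.1, hcon.2⟩

end Cfsg.Agent.SylowNumbers
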