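import Cfsg.Agent.Lib.FiniteGroup.SylowCount
import Mathlib.GroupTheory.IndexNormal
import Mathlib.RingTheory.IntegralDomain
import Mathlib.Algebra.Field.ZMod
import Mathlib.Combinatorics.Enumerative.DoubleCounting

/-!
Groups acting faithfully with exactly `2p + 1` Sylow `p`-subgroups: there is a section of odd
order `(2p+1) p k` with `k ∣ p - 1` with the same Sylow number.
-/

set_option autoImplicit false

open scoped Pointwise

namespace Cfsg.Agent.SylowCount

variable {G : Type*} [Group G] [Finite G] {p : ℕ} [Fact p.Prime]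

theorem prod_stabilizer_eq (P Q : Sylow p G) :
    MulAction.stabilizer (P : Subgroup G) Q = (Q : Subgroup G).subgroupOf P := by
  ext x
  rw [MulAction.mem_stabilizer_iff, Subgroup.mem_subgroupOf]
  exact smul_eq_iff_mem P Q x.2

/-- The orbit length of a Sylow subgroup under another one is the index of the intersection. -/
theorem ncard_orbit (P Q : Sylow p G) :
    (MulAction.orbit (P : Subgroup G) Q).ncard = (Q : Subgroup G).relIndex P := by
  rw [← MulAction.index_stabilizer, prod_stabilizer_eq]
  rfl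

theorem one_lt_relIndex {P Q : Sylow p G} (h : Q ≠ P) : 1 < (Q : Subgroup G).relIndex P := by
  have h0 : (Q : Subgroup G).relIndex P ≠ 0 := Subgroup.index_ne_zero_of_finite
  have h1 : (Q : Subgroup G).relIndex P ≠ 1 := fun h1 =>
    h (sylow_eq_of_le (Subgroup.relIndex_eq_one.1 h1)).symm
  omega

theorem notMem_orbit_self {P Q : Sylow p G} (h : Q ≠ P) :
    P ∉ MulAction.orbit (P : Subgroup G) Q := by
  rintro ⟨x, hx⟩
  apply h
  have hfix : x • P = P := (smul_eq_iff_mem P P x.2).2 x.2
  have h2 : x • Q = x • P := (show x • Q = P from hx).trans hfix.symm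
  exact smul_left_cancel x h2

theorem relIndex_eq_prime (hp : p ≠ 2) (hn : Nat.card (Sylow p G) = 2 * p + 1) {P Q : Sylow p G}
    (h : Q ≠ P) : (Q : Subgroup G).relIndex P = p := by
  have hp' : p.Prime := Fact.out
  have hlt : (Q : Subgroup G).relIndex P < 2 * p + 1 := by
    rw [← hn, ← ncard_orbit, ← Set.ncard_univ]
    refine Set.ncard_lt_ncard ?_ Set.finite_univ
    refine Set.ssubset_univ_iff.2 fun he => notMem_orbit_self h ?_
    rw [he]; trivial
  have h1 := one_lt_relIndex h
  obtain ⟨k, hk⟩ := P.isPGroup'.index ((Q : Subgroup G).subgroupOf P)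
  have hk' : (Q : Subgroup G).relIndex P = p ^ k := hk
  rw [hk'] at hlt h1 ⊢
  have h3 : 3 ≤ p := by have := hp'.two_le; omega
  rcases k with _ | _ | k
  · simp at h1
  · exact pow_one p
  · exfalso
    have : p ^ 2 ≤ p ^ (k + 2) := Nat.pow_le_pow_right hp'.pos (by omega)
    nlinarith

/-- With exactly `2p + 1` Sylow subgroups and a faithful action, the Sylow subgroups have order `p`. -/
theorem card_eq_prime [FaithfulSMul G (Sylow p G)] (hp : p ≠ 2)
    (hn : Nat.card (Sylow p G) = 2 * p + 1) (P : Sylow p G) : Nat.card (P : Subgroup G) = p := by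
  classical
  haveI : Fintype (Sylow p G) := Fintype.ofFinite _
  have hp' : p.Prime := Fact.out
  -- intersection with another Sylow subgroup
  have hI : ∀ (A B : Sylow p G), B ≠ A →
      Nat.card ((B : Subgroup G) ⊓ A : Subgroup G) * p = Nat.card (A : Subgroup G) := by
    intro A B h
    have h1 := Subgroup.relIndex_mul_relIndex (⊥ : Subgroup G) ((B : Subgroup G) ⊓ A) (A : Subgroup G)
      bot_le inf_le_right
    rw [Subgroup.relIndex_bot_left, Subgroup.relIndex_bot_left, Subgroup.inf_relIndex_right,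
      relIndex_eq_prime hp hn h] at h1
    exact h1
  let F : Sylow p G → Subgroup G → Finset (Sylow p G) := fun A D =>
    Finset.univ.filter fun B => B ≠ A ∧ (B : Subgroup G) ⊓ A = D
  have hF : ∀ (A : Sylow p G) (D : Subgroup G), (F A D).Nonempty → p ≤ (F A D).card := by
    rintro A D ⟨B, hB⟩
    simp only [F, Finset.mem_filter, Finset.mem_univ, true_and] at hB
    obtain ⟨hBA, rfl⟩ := hB
    have hnorm : (((B : Subgroup G) ⊓ A).subgroupOf A).Normal := by
      have hidx : (((B : Subgroup G) ⊓ A).subgroupOf A).index = p := by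
        show ((B : Subgroup G) ⊓ A).relIndex A = p
        rw [Subgroup.inf_relIndex_right]
        exact relIndex_eq_prime hp hn hBA
      refine Subgroup.normal_of_index_eq_minFac_card ?_
      obtain ⟨k, hk⟩ := IsPGroup.iff_card.1 A.isPGroup'
      have hd : p ∣ Nat.card (A : Subgroup G) := by
        exact hidx.symm.dvd.trans (Subgroup.index_dvd_card _)
      rcases Nat.eq_zero_or_pos k with rfl | hpos
      · rw [hk, pow_zero] at hd
        exact absurd (Nat.le_of_dvd one_pos hd) (not_le.2 hp'.one_lt)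
      · rw [hidx, hk, Nat.pow_minFac hpos.ne', hp'.minFac_eq]
    have hsub : MulAction.orbit (A : Subgroup G) B ⊆
        ↑(F A ((B : Subgroup G) ⊓ A)) := by
      rintro _ ⟨x, rfl⟩
      simp only [F, Finset.coe_filter, Finset.mem_univ, true_and, Set.mem_setOf_eq]
      refine ⟨fun he => notMem_orbit_self hBA ⟨x, he⟩, ?_⟩
      have hfix : (x : G) • A = A := (smul_eq_iff_mem A A x.2).2 x.2
      ext y
      show y ∈ ((x : G) • B : Sylow p G) ∧ y ∈ A ↔ _
      have e : (y ∈ ((x : G) • B : Sylow p G)) ↔ (x : G)⁻¹ * y * x ∈ (B : Subgroup G) := by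
        show y ∈ (((x : G) • B : Sylow p G) : Subgroup G) ↔ _
        rw [Sylow.coe_subgroup_smul, Subgroup.mem_pointwise_smul_iff_inv_smul_mem]
        simp [mul_assoc]
      rw [e, Subgroup.mem_inf]
      constructor
      · rintro ⟨h1, h2⟩
        have h3 : (x : G)⁻¹ * y * x ∈ (A : Subgroup G) :=
          (A : Subgroup G).mul_mem ((A : Subgroup G).mul_mem ((A : Subgroup G).inv_mem x.2) h2) x.2
        have := hnorm.conj_mem ⟨_, h3⟩
          (show (x : G)⁻¹ * y * x ∈ (B : Subgroup G) ⊓ A from ⟨h1, h3⟩) x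
        rw [Subgroup.mem_subgroupOf] at this
        simpa [mul_assoc] using this
      · rintro ⟨h1, h2⟩
        have := hnorm.conj_mem ⟨y, h2⟩ (show y ∈ (B : Subgroup G) ⊓ A from ⟨h1, h2⟩) x⁻¹
        rw [Subgroup.mem_subgroupOf] at this
        have h4 : _ ∈ (B : Subgroup G) := this.1
        exact ⟨by simpa [mul_assoc] using h4, h2⟩
    calc p = (MulAction.orbit (A : Subgroup G) B).ncard := by
          rw [ncard_orbit, relIndex_eq_prime hp hn hBA]
      _ ≤ (F A ((B : Subgroup G) ⊓ A) : Set (Sylow p G)).ncard :=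
          Set.ncard_le_ncard hsub (Finset.finite_toSet _)
      _ = _ := Set.ncard_coe_finset _
  let S : Sylow p G → Finset (Subgroup G) := fun A =>
    (Finset.univ.filter fun B : Sylow p G => B ≠ A).image fun B : Sylow p G => (B : Subgroup G) ⊓ A
  have hsum : ∀ A : Sylow p G, ∑ D ∈ S A, (F A D).card = 2 * p := by
    intro A
    have h1 : (Finset.univ.filter fun B => B ≠ A).card = 2 * p := by
      rw [Finset.filter_ne', Finset.card_erase_of_mem (Finset.mem_univ _), Finset.card_univ,
        ← Nat.card_eq_fintype_card, hn]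
      omega
    rw [← h1, Finset.card_eq_sum_card_fiberwise (f := fun B : Sylow p G => (B : Subgroup G) ⊓ A) (t := S A)
      (fun B hB => Finset.mem_image_of_mem _ hB)]
    exact Finset.sum_congr rfl fun D _ => congrArg Finset.card (by ext B; simp [F])
  have hS2 : ∀ A : Sylow p G, (S A).card ≤ 2 := by
    intro A
    have h1 : (S A).card • p ≤ ∑ D ∈ S A, (F A D).card := Finset.card_nsmul_le_sum _ _ _ fun D hD => by
      obtain ⟨B, hB, rfl⟩ := Finset.mem_image.1 hD
      exact hF A _ ⟨B, by simpa [F] using hB⟩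
    rw [hsum A, smul_eq_mul] at h1
    exact Nat.le_of_mul_le_mul_right h1 hp'.pos
  -- the intersections of `P` with the others meet trivially
  have htriv : ∀ x ∈ (P : Subgroup G), (∀ D ∈ S P, x ∈ D) → x = 1 := by
    intro x hx h
    refine eq_of_smul_eq_smul (α := Sylow p G) fun B => ?_
    rw [one_smul, smul_eq_iff_mem P B hx]
    by_cases hB : B = P
    · rwa [hB]
    · exact (Subgroup.mem_inf.1 (h _ (Finset.mem_image_of_mem _ (by simp [hB])))).1
  obtain ⟨B₁, hB₁⟩ : ∃ B₁ : Sylow p G, B₁ ≠ P := Fintype.exists_ne_of_one_lt_card (by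
    rw [← Nat.card_eq_fintype_card, hn]; have := hp'.pos; omega) P
  set D₁ := (B₁ : Subgroup G) ⊓ P with hD₁
  have hD₁S : D₁ ∈ S P := Finset.mem_image_of_mem _ (by simp [hB₁])
  have hDp : Nat.card D₁ * p = Nat.card (P : Subgroup G) := hI P B₁ hB₁
  by_cases hone : ∀ D ∈ S P, D = D₁
  · have : D₁ = ⊥ := by
      rw [Subgroup.eq_bot_iff_forall]
      exact fun x hx => htriv x (inf_le_right (a := (B₁ : Subgroup G)) hx) fun D hD => (hone D hD).symm ▸ hx
    rw [← hDp, this, Subgroup.card_bot, one_mul]
  exfalso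
  push Not at hone
  obtain ⟨D₂, hD₂S, hne⟩ := hone
  have hSP : S P = {D₁, D₂} := by
    refine (Finset.eq_of_subset_of_card_le ?_ ?_).symm
    · intro D hD
      rcases Finset.mem_insert.1 hD with rfl | hD
      · exact hD₁S
      · rw [Finset.mem_singleton.1 hD]; exact hD₂S
    · rw [Finset.card_pair (Ne.symm hne)]; exact hS2 P
  have hbot : D₁ ⊓ D₂ = ⊥ := by
    rw [Subgroup.eq_bot_iff_forall]
    intro x hx
    refine htriv x (inf_le_right (a := (B₁ : Subgroup G)) hx.1) fun D hD => ?_
    rw [hSP] at hD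
    rcases Finset.mem_insert.1 hD with rfl | hD
    · exact hx.1
    · rw [Finset.mem_singleton.1 hD]; exact hx.2
  have hcardP : Nat.card D₁ = p := by
    obtain ⟨B₂, hB₂, rfl⟩ := Finset.mem_image.1 hD₂S
    simp only [Finset.mem_filter, Finset.mem_univ, true_and] at hB₂
    have h1 : ((B₂ : Subgroup G) ⊓ P).relIndex D₁ = Nat.card D₁ := by
      rw [← Subgroup.inf_relIndex_right, inf_comm, hbot, Subgroup.relIndex_bot_left]
    have h2 : ((B₂ : Subgroup G) ⊓ P).relIndex D₁ ≤ ((B₂ : Subgroup G) ⊓ P).relIndex (P : Subgroup G) :=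
      Subgroup.relIndex_le_of_le_right inf_le_right Subgroup.index_ne_zero_of_finite
    rw [h1, Subgroup.inf_relIndex_right, relIndex_eq_prime hp hn hB₂] at h2
    refine le_antisymm h2 ?_
    by_contra hlt
    obtain ⟨j, hj⟩ := IsPGroup.iff_card.1 (P.isPGroup'.to_le (inf_le_right : D₁ ≤ (P : Subgroup G)))
    rw [hj] at hlt h2
    rcases j with _ | j
    · have hbot' : D₁ = ⊥ := Subgroup.card_eq_one.1 (by rw [hj, pow_zero])
      have h5 := hI P B₂ hB₂
      rw [← hDp, hbot', Subgroup.card_bot, one_mul] at h5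
      have h6 : Nat.card ((B₂ : Subgroup G) ⊓ P : Subgroup G) = 1 := by
        nlinarith [hp'.pos]
      exact hne ((Subgroup.card_eq_one.1 h6).trans hbot'.symm)
    · exact hlt (Nat.le_self_pow (Nat.succ_ne_zero j) p)
  have hcard : ∀ A : Sylow p G, Nat.card (A : Subgroup G) = p * p := by
    intro A
    rw [Nat.card_congr (A.equiv P).toEquiv]
    rw [← hDp, hcardP]
  have hID : ∀ (A B : Sylow p G), B ≠ A → Nat.card ((B : Subgroup G) ⊓ A : Subgroup G) = p := fun A B h =>
    Nat.eq_of_mul_eq_mul_right hp'.pos ((hI A B h).trans (hcard A))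
  -- exactly two classes at each point
  have hexact : ∀ A : Sylow p G, (S A).card = 2 ∧ ∀ D ∈ S A, (F A D).card = p := by
    intro A
    have hge : ∀ D ∈ S A, p ≤ (F A D).card := fun D hD => by
      obtain ⟨B, hB, rfl⟩ := Finset.mem_image.1 hD
      exact hF A _ ⟨B, by simpa [F] using hB⟩
    have htwo : (S A).card = 2 := by
      refine le_antisymm (hS2 A) ?_
      by_contra hlt
      obtain ⟨C, hC⟩ : ∃ C : Sylow p G, C ≠ A := Fintype.exists_ne_of_one_lt_card (by
        rw [← Nat.card_eq_fintype_card, hn]; have := hp'.pos; omega) A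
      have hall : ∀ B : Sylow p G, B ≠ A → (B : Subgroup G) ⊓ A = (C : Subgroup G) ⊓ A := fun B hB =>
        Finset.card_le_one.1 (by omega : (S A).card ≤ 1) _ (Finset.mem_image_of_mem _ (by simp [hB]))
          _ (Finset.mem_image_of_mem _ (by simp [hC]))
      have hb : (C : Subgroup G) ⊓ A = ⊥ := by
        rw [Subgroup.eq_bot_iff_forall]
        intro x hx
        refine eq_of_smul_eq_smul (α := Sylow p G) fun B => ?_
        rw [one_smul, smul_eq_iff_mem A B hx.2]
        by_cases hB : B = A
        · rw [hB]; exact hx.2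
        · have hx' : x ∈ (B : Subgroup G) ⊓ A := by rw [hall B hB]; exact hx
          exact hx'.1
      have := hID A C hC
      rw [hb, Subgroup.card_bot] at this
      exact hp'.one_lt.ne this
    refine ⟨htwo, fun D hD => le_antisymm ?_ (hge D hD)⟩
    have h1 := hsum A
    rw [← Finset.add_sum_erase _ _ hD] at h1
    have h2 : ((S A).erase D).card • p ≤ ∑ E ∈ (S A).erase D, (F A E).card :=
      Finset.card_nsmul_le_sum _ _ _ fun E hE => hge E (Finset.mem_of_mem_erase hE)
    rw [Finset.card_erase_of_mem hD, htwo, smul_eq_mul] at h2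
    omega
  haveI : Fintype (Subgroup G) := Fintype.ofFinite _
  let 𝒟 : Finset (Subgroup G) := Finset.univ.biUnion S
  have hfix : ∀ D ∈ 𝒟, (Finset.univ.filter fun B : Sylow p G => D ≤ (B : Subgroup G)).card = p + 1 := by
    intro D hD
    obtain ⟨A, -, hDA⟩ := Finset.mem_biUnion.1 hD
    have hDle : D ≤ (A : Subgroup G) ∧ Nat.card D = p := by
      obtain ⟨B, hB, rfl⟩ := Finset.mem_image.1 hDA
      exact ⟨inf_le_right, hID A B (by simpa using hB)⟩
    have e : (Finset.univ.filter fun B : Sylow p G => D ≤ (B : Subgroup G)) = insert A (F A D) := by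
      ext B
      simp only [F, Finset.mem_filter, Finset.mem_univ, true_and, Finset.mem_insert]
      constructor
      · intro h
        by_cases hB : B = A
        · exact Or.inl hB
        · exact Or.inr ⟨hB, (Subgroup.eq_of_le_of_card_ge (le_inf h hDle.1)
            (by rw [hID A B hB, hDle.2])).symm⟩
      · rintro (rfl | ⟨-, rfl⟩)
        · exact hDle.1
        · exact inf_le_left
    rw [e, Finset.card_insert_of_notMem (by simp [F]), (hexact A).2 D hDA]
  have hper : ∀ A : Sylow p G, (𝒟.filter fun D => D ≤ (A : Subgroup G)) = S A := by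
    intro A
    ext D
    simp only [Finset.mem_filter, 𝒟, Finset.mem_biUnion, Finset.mem_univ, true_and]
    constructor
    · rintro ⟨⟨C, hDC⟩, hle⟩
      by_cases hCA : C = A
      · exact hCA ▸ hDC
      · obtain ⟨B, hB, rfl⟩ := Finset.mem_image.1 hDC
        have hBC : B ≠ C := by simpa using hB
        have e : (B : Subgroup G) ⊓ C = (C : Subgroup G) ⊓ A :=
          Subgroup.eq_of_le_of_card_ge (le_inf inf_le_right hle)
            (by rw [hID A C hCA, hID C B hBC])
        rw [e]
        exact Finset.mem_image_of_mem _ (by simp [hCA])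
    · intro hD
      refine ⟨⟨A, hD⟩, ?_⟩
      obtain ⟨B, -, rfl⟩ := Finset.mem_image.1 hD
      exact inf_le_right
  have hdouble := Finset.sum_card_bipartiteAbove_eq_sum_card_bipartiteBelow
    (s := 𝒟) (t := (Finset.univ : Finset (Sylow p G))) (fun (D : Subgroup G) (B : Sylow p G) => D ≤ (B : Subgroup G))
  simp only [Finset.bipartiteAbove, Finset.bipartiteBelow] at hdouble
  have hbelow : ∀ A : Sylow p G, (𝒟.filter fun D => D ≤ (A : Subgroup G)).card = 2 := fun A => by
    rw [hper A, (hexact A).1]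
  rw [Finset.sum_congr rfl hfix, Finset.sum_congr rfl (fun A _ => hbelow A),
    Finset.sum_const, Finset.sum_const, Finset.card_univ, ← Nat.card_eq_fintype_card, hn,
    smul_eq_mul, smul_eq_mul] at hdouble
  have hd : p + 1 ∣ 2 := by
    have h4 : p + 1 ∣ (p + 1) * 4 := dvd_mul_right _ _
    have h5 : p + 1 ∣ (2 * p + 1) * 2 := ⟨𝒟.card, by rw [← hdouble, mul_comm]⟩
    have h6 := Nat.dvd_sub h4 h5
    rwa [show (p + 1) * 4 - (2 * p + 1) * 2 = 2 by omega] at h6
  have := Nat.le_of_dvd (by norm_num) hd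
  have := hp'.two_le
  omega

/-- A centralizing element of order prime to `p` is a fixed-point-free involution on the other Sylow subgroups. -/
theorem centralizing_pPrime [FaithfulSMul G (Sylow p G)] (hp : p ≠ 2)
    (hn : Nat.card (Sylow p G) = 2 * p + 1) (P : Sylow p G) {c : G}
    (hc : c ∈ Subgroup.centralizer ((P : Subgroup G) : Set G)) (hco : (orderOf c).Coprime p)
    (hne : c ≠ 1) : c ^ 2 = 1 ∧ ∀ Q : Sylow p G, c • Q = Q ↔ Q = P := by
  classical
  haveI : Fintype (Sylow p G) := Fintype.ofFinite _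
  have hp' : p.Prime := Fact.out
  have hcard := card_eq_prime hp hn P
  have hcP : c • P = P := by
    rw [Sylow.smul_eq_iff_mem_normalizer]
    exact Subgroup.centralizer_le_normalizer _ hc
  have hcomm : ∀ x ∈ (P : Subgroup G), Commute c x := fun x hx =>
    (Subgroup.mem_centralizer_iff.1 hc x hx).symm
  -- an element of `P` moves everything else
  have hfree : ∀ x ∈ (P : Subgroup G), ∀ Q : Sylow p G, Q ≠ P → x • Q = Q → x = 1 := by
    intro x hx Q hQ h
    have h1 := (smul_eq_iff_mem P Q hx).1 h
    have hbot : (Q : Subgroup G) ⊓ P = ⊥ := by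
      apply Subgroup.card_eq_one.1
      have h2 := Subgroup.relIndex_mul_relIndex (⊥ : Subgroup G) ((Q : Subgroup G) ⊓ P) (P : Subgroup G)
        bot_le inf_le_right
      rw [Subgroup.relIndex_bot_left, Subgroup.relIndex_bot_left, Subgroup.inf_relIndex_right,
        relIndex_eq_prime hp hn hQ, hcard] at h2
      exact (Nat.mul_eq_right hp'.ne_zero).1 h2
    have : x ∈ (Q : Subgroup G) ⊓ P := ⟨h1, hx⟩
    rwa [hbot, Subgroup.mem_bot] at this
  have htwist : ∀ d : G, d ∈ Subgroup.centralizer ((P : Subgroup G) : Set G) → (orderOf d).Coprime p →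
      ∀ Q : Sylow p G, Q ≠ P → d • Q ∈ MulAction.orbit (P : Subgroup G) Q → d • Q = Q := by
    rintro d hd hdco Q hQ ⟨x, hx⟩
    have hx' : (x : G) • Q = d • Q := hx
    have hcomm' : Commute d (x : G) := (Subgroup.mem_centralizer_iff.1 hd x x.2).symm
    have key : ∀ j : ℕ, d ^ j • Q = (x : G) ^ j • Q := by
      intro j
      induction j with
      | zero => simp
      | succ j ih =>
        rw [pow_succ', mul_smul, ih, ← mul_smul, (hcomm'.pow_right j).eq, mul_smul, ← hx', ← mul_smul,
          ← pow_succ]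
    have h1 := key (orderOf d)
    rw [pow_orderOf_eq_one, one_smul] at h1
    have h2 : (x : G) ^ orderOf d = 1 := hfree _ (pow_mem x.2 _) Q hQ h1.symm
    have h3 : (x : G) ^ p = 1 := by
      have h4 := pow_card_eq_one' (x := x)
      rw [hcard] at h4
      exact congrArg Subtype.val h4
    have h5 : (x : G) = 1 := by
      rw [← orderOf_eq_one_iff]
      exact Nat.eq_one_of_dvd_coprimes hdco (orderOf_dvd_of_pow_eq_one h2) (orderOf_dvd_of_pow_eq_one h3)
    rw [← hx', h5, one_smul]
  have horb : ∀ Q : Sylow p G, Q ≠ P → (MulAction.orbit (P : Subgroup G) Q).ncard = p := fun Q hQ => by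
    rw [ncard_orbit, relIndex_eq_prime hp hn hQ]
  have hthree : ∀ A B C : Sylow p G, A ≠ P → B ≠ P → C ≠ P →
      A ∈ MulAction.orbit (P : Subgroup G) B ∨ A ∈ MulAction.orbit (P : Subgroup G) C ∨
        B ∈ MulAction.orbit (P : Subgroup G) C := by
    intro A B C hA hB hC
    by_contra hcon
    simp only [not_or] at hcon
    obtain ⟨h1, h2, h3⟩ := hcon
    have hd : ∀ X Y : Sylow p G, X ∉ MulAction.orbit (P : Subgroup G) Y →
        Disjoint (MulAction.orbit (P : Subgroup G) X) (MulAction.orbit (P : Subgroup G) Y) := by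
      intro X Y h
      rw [Set.disjoint_left]
      intro Z hZX hZY
      rw [← MulAction.orbit_eq_iff] at hZX hZY
      exact h (MulAction.orbit_eq_iff.1 (hZX.symm.trans hZY))
    have hsub : MulAction.orbit (P : Subgroup G) A ∪ MulAction.orbit (P : Subgroup G) B ∪
        MulAction.orbit (P : Subgroup G) C ⊆ ({P}ᶜ : Set (Sylow p G)) := by
      rintro Z ((hZ | hZ) | hZ) hZP <;> rw [Set.mem_singleton_iff.1 hZP] at hZ
      · exact notMem_orbit_self hA hZ
      · exact notMem_orbit_self hB hZ
      · exact notMem_orbit_self hC hZ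
    have h4 := Set.ncard_le_ncard hsub (Set.toFinite _)
    rw [Set.ncard_union_eq (Disjoint.union_left (hd A C h2) (hd B C h3)) (Set.toFinite _) (Set.toFinite _),
      Set.ncard_union_eq (hd A B h1) (Set.toFinite _) (Set.toFinite _), horb A hA, horb B hB, horb C hC,
      Set.ncard_compl, Set.ncard_singleton, hn] at h4
    have := hp'.pos
    omega
  have hmoveP : ∀ Q : Sylow p G, Q ≠ P → c • Q ≠ P := fun Q hQ h => hQ (smul_left_cancel c (h.trans hcP.symm))
  have hmap : ∀ Q R : Sylow p G, R ∈ MulAction.orbit (P : Subgroup G) Q →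
      c • R ∈ MulAction.orbit (P : Subgroup G) (c • Q) := by
    rintro Q _ ⟨x, rfl⟩
    refine ⟨x, ?_⟩
    show (x : G) • c • Q = c • (x : G) • Q
    rw [← mul_smul, ← mul_smul, (hcomm x x.2).eq]
  have hsq : c ^ 2 = 1 := by
    refine eq_of_smul_eq_smul (α := Sylow p G) fun Q => ?_
    rw [one_smul, pow_two, mul_smul]
    by_cases hQ : Q = P
    · rw [hQ, hcP, hcP]
    rcases hthree Q (c • Q) (c • c • Q) hQ (hmoveP Q hQ) (hmoveP _ (hmoveP Q hQ)) with h | h | h
    · have h' := htwist c hc hco Q hQ (MulAction.mem_orbit_symm.1 h)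
      rw [h', h']
    · have h' := htwist (c ^ 2) (pow_mem hc 2) ((hco.coprime_dvd_left (orderOf_pow_dvd 2))) Q hQ
        (by rw [pow_two, mul_smul]; exact MulAction.mem_orbit_symm.1 h)
      rw [pow_two, mul_smul] at h'
      exact h'
    · have h' := htwist c hc hco (c • Q) (hmoveP Q hQ) (MulAction.mem_orbit_symm.1 h)
      have h'' : c • Q = Q := smul_left_cancel c h'
      rw [h'', h'']
  refine ⟨hsq, fun Q => ⟨fun hQ => ?_, fun hQ => hQ ▸ hcP⟩⟩
  by_contra hQP
  apply hne
  refine eq_of_smul_eq_smul (α := Sylow p G) fun R => ?_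
  rw [one_smul]
  by_cases hR : R = P
  · rw [hR, hcP]
  have hall : ∀ T : Sylow p G, T ∈ MulAction.orbit (P : Subgroup G) Q → c • T = T := by
    rintro _ ⟨x, rfl⟩
    show c • (x : G) • Q = (x : G) • Q
    rw [← mul_smul, (hcomm x x.2).eq, mul_smul, hQ]
  rcases hthree R (c • R) Q hR (hmoveP R hR) hQP with h | h | h
  · exact htwist c hc hco R hR (MulAction.mem_orbit_symm.1 h)
  · exact hall R h
  · have h' : c • c • R = c • R := hall _ h
    exact smul_left_cancel c h'

/-- The odd-order group with the same Sylow number. -/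
theorem exists_odd_subgroup [FaithfulSMul G (Sylow p G)] (hp : p ≠ 2)
    (hn : Nat.card (Sylow p G) = 2 * p + 1) :
    ∃ M : Subgroup G, Nat.card (Sylow p M) = 2 * p + 1 ∧ Odd (Nat.card M) ∧
      ∃ k, k ∣ p - 1 ∧ Nat.card M = (2 * p + 1) * (p * k) := by
  classical
  haveI : Fintype (Sylow p G) := Fintype.ofFinite _
  have hp' : p.Prime := Fact.out
  set f : G →* ℤˣ := (Equiv.Perm.sign).comp (MulAction.toPermHom G (Sylow p G)) with hf
  haveI : f.ker.Normal := f.normal_ker
  have hle : ∀ P : Sylow p G, (P : Subgroup G) ≤ f.ker := fun P =>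
    le_of_not_dvd_index f.ker (by
      intro hd
      rw [Subgroup.index_ker] at hd
      have h2 : Nat.card f.range ∣ 2 := by
        have h0 := Subgroup.card_subgroup_dvd_card f.range
        have h1 : Nat.card ℤˣ = 2 := by rw [Nat.card_eq_fintype_card]; rfl
        rwa [h1] at h0
      exact hp ((Nat.prime_dvd_prime_iff_eq hp' Nat.prime_two).1 (hd.trans h2))) P.isPGroup'
  set A := f.ker with hA
  have hnA : Nat.card (Sylow p A) = 2 * p + 1 := (card_sylow_of_forall_le A hle).trans hn
  obtain ⟨P⟩ : Nonempty (Sylow p G) := inferInstance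
  set P' : Sylow p A := P.subtype (hle P) with hP'
  have hcard : Nat.card (P : Subgroup G) = p := card_eq_prime hp hn P
  have hcard' : Nat.card (P' : Subgroup A) = p := by
    rw [hP', Sylow.coe_subtype, Nat.card_congr (Subgroup.subgroupOfEquivOfLe (hle P)).toEquiv, hcard]
  -- the centralizer inside the kernel
  have hC : Subgroup.centralizer ((P' : Subgroup A) : Set A) = (P' : Subgroup A) := by
    have hab : IsMulCommutative (P' : Subgroup A) := by
      have := isCyclic_of_prime_card (α := (P' : Subgroup A)) hcard'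
      exact ⟨⟨fun a b => (IsCyclic.commGroup (α := (P' : Subgroup A))).mul_comm a b⟩⟩
    have hle' : (P' : Subgroup A) ≤ Subgroup.centralizer ((P' : Subgroup A) : Set A) :=
      Subgroup.le_centralizer_iff_isMulCommutative.2 hab
    refine P'.3 ?_ hle'
    intro c
    obtain ⟨a, m, hm, hord⟩ := Nat.exists_eq_pow_mul_and_not_dvd (orderOf_pos c).ne' p hp'.ne_one
    refine ⟨a, ?_⟩
    have hcp : orderOf (c ^ p ^ a) = m := by
      rw [orderOf_pow_of_dvd (pow_ne_zero _ hp'.ne_zero) (Dvd.intro m hord.symm), hord,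
        Nat.mul_div_cancel_left _ (pow_pos hp'.pos _)]
    set d : A := (c : A) ^ p ^ a with hd
    have hd1 : ((c ^ p ^ a : Subgroup.centralizer ((P' : Subgroup A) : Set A)) : A) = d := by simp [hd]
    by_contra hne
    have hdne : (d : G) ≠ 1 := fun h => hne (Subtype.ext (hd1.trans (Subtype.ext h)))
    have hdC : (d : G) ∈ Subgroup.centralizer ((P : Subgroup G) : Set G) := by
      rw [Subgroup.mem_centralizer_iff]
      intro x hx
      have h1 := Subgroup.mem_centralizer_iff.1 (c ^ p ^ a).2 ⟨x, hle P hx⟩ (by exact hx)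
      rw [hd1] at h1
      exact congrArg Subtype.val h1
    have hordd : orderOf (d : G) = m := by rw [Subgroup.orderOf_coe, ← hd1, Subgroup.orderOf_coe, hcp]
    obtain ⟨hsq, hfix⟩ := centralizing_pPrime hp hn P hdC
      (by rw [hordd]; exact (hp'.coprime_iff_not_dvd.2 hm).symm) hdne
    set σ := MulAction.toPermHom G (Sylow p G) (d : G) with hσ
    have hσne : σ ≠ 1 := fun h => by
      have hall : ∀ Q : Sylow p G, (d : G) • Q = Q := fun Q => DFunLike.congr_fun h Q
      obtain ⟨Q, hQ⟩ := Fintype.exists_ne_of_one_lt_card (α := Sylow p G) (by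
        rw [← Nat.card_eq_fintype_card, hn]; have := hp'.pos; omega) P
      exact hQ ((hfix Q).1 (hall Q))
    have hσord : orderOf σ = 2 := orderOf_eq_prime (by rw [hσ, ← map_pow, hsq, map_one]) hσne
    obtain ⟨j, hj⟩ := Equiv.Perm.cycleType_prime_order (σ := σ) (by rw [hσord]; exact Nat.prime_two)
    have hsupp : σ.support = Finset.univ.erase P := by
      ext Q
      rw [Equiv.Perm.mem_support]
      show (d : G) • Q ≠ Q ↔ _
      simp [hfix Q]
    have hsum := σ.sum_cycleType
    rw [hsupp, Finset.card_erase_of_mem (Finset.mem_univ _), Finset.card_univ,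
      ← Nat.card_eq_fintype_card, hn, hj, hσord, Multiset.sum_replicate, smul_eq_mul] at hsum
    have hsign : Equiv.Perm.sign σ = -1 := by
      rw [Equiv.Perm.sign_of_cycleType, hj, hσord, Multiset.sum_replicate, Multiset.card_replicate,
        smul_eq_mul, show (j + 1) * 2 + (j + 1) = 3 * p by omega]
      exact ((by decide : Odd 3).mul (hp'.odd_of_ne_two hp)).neg_one_pow
    have hker : f (d : G) = 1 := MonoidHom.mem_ker.1 d.2
    rw [hf, MonoidHom.comp_apply] at hker
    rw [hsign] at hker
    exact absurd hker (by decide)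
  -- normaliser in the kernel
  have hnorm := P'.card_eq_index_normalizer
  rw [hnA] at hnorm
  change 2 * p + 1 = (Subgroup.normalizer ((P' : Subgroup A) : Set A)).index at hnorm
  set N := Subgroup.normalizer ((P' : Subgroup A) : Set A) with hN
  have hcyc : IsCyclic (MulAut (P' : Subgroup A)) := by
    haveI := isCyclic_of_prime_card (α := (P' : Subgroup A)) hcard'
    haveI : Fact p.Prime := ⟨hp'⟩
    have e := (IsCyclic.mulAutMulEquiv (P' : Subgroup A)).toMonoidHom
    haveI : IsCyclic (ZMod (Nat.card (P' : Subgroup A)))ˣ := by rw [hcard']; infer_instance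
    exact isCyclic_of_injective (IsCyclic.mulAutMulEquiv (P' : Subgroup A)).toMonoidHom
      (MulEquiv.injective _)
  have hcardAut : Nat.card (MulAut (P' : Subgroup A)) = p - 1 := by
    haveI := isCyclic_of_prime_card (α := (P' : Subgroup A)) hcard'
    rw [IsCyclic.card_mulAut, hcard', Nat.totient_prime hp']
  set φ := (P' : Subgroup A).normalizerMonoidHom with hφ
  have hker : φ.ker = (P' : Subgroup A).subgroupOf N := by
    rw [hφ, Subgroup.normalizerMonoidHom_ker, hC]
  have hk : φ.ker.index ∣ p - 1 := by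
    rw [Subgroup.index_ker, ← hcardAut]
    exact Subgroup.card_subgroup_dvd_card _
  have hcN : Nat.card N = p * φ.ker.index := by
    rw [← φ.ker.card_mul_index, hker, Nat.card_congr (Subgroup.subgroupOfEquivOfLe Subgroup.le_normalizer).toEquiv,
      hcard']
  have hcA : Nat.card A = (2 * p + 1) * (p * φ.ker.index) := by
    rw [← N.card_mul_index, ← hnorm, hcN]; ring
  by_cases hodd : Odd (Nat.card A)
  · exact ⟨A, hnA, hodd, φ.ker.index, hk, hcA⟩
  -- a cyclic Sylow two-subgroup
  have heven : 2 ∣ Nat.card A := (Nat.not_odd_iff_even.1 hodd).two_dvd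
  obtain ⟨T⟩ : Nonempty (Sylow 2 N) := inferInstance
  have hTdisj : Disjoint (T : Subgroup N) φ.ker := by
    rw [hker]
    apply Subgroup.disjoint_of_coprime_natCard
    obtain ⟨i, hi⟩ := IsPGroup.iff_card.1 T.isPGroup'
    rw [hi, Nat.card_congr (Subgroup.subgroupOfEquivOfLe Subgroup.le_normalizer).toEquiv, hcard']
    exact Nat.Coprime.pow_left _ ((Nat.coprime_primes Nat.prime_two hp').2 (Ne.symm hp))
  haveI := hcyc
  have hTc : IsCyclic (T : Subgroup N) := isCyclic_of_injective (φ.comp (T : Subgroup N).subtype) (by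
    rw [← MonoidHom.ker_eq_bot_iff, ← MonoidHom.comap_ker]
    rw [← Subgroup.subgroupOf, Subgroup.subgroupOf_eq_bot]
    exact hTdisj.symm)
  have hTA : Nat.card ((T : Subgroup N).map N.subtype) = 2 ^ (Nat.card A).factorization 2 := by
    rw [Subgroup.card_map_of_injective N.subtype_injective, T.card_eq_multiplicity,
      ← N.card_mul_index, Nat.factorization_mul Nat.card_pos.ne' Subgroup.index_ne_zero_of_finite,
      Finsupp.add_apply, ← hnorm, Nat.factorization_eq_zero_of_not_dvd (n := 2 * p + 1) (by omega), add_zero]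
  let S : Sylow 2 A := Sylow.ofCard _ hTA
  have hSc : IsCyclic (S : Subgroup A) := by
    rw [Sylow.coe_ofCard]
    exact isCyclic_of_surjective _ ((T : Subgroup N).equivMapOfInjective N.subtype N.subtype_injective).surjective
  have hmin : (Nat.card A).minFac = 2 := (Nat.minFac_eq_two_iff _).2 heven
  have hco := IsCyclic.isComplement' hmin (P := S) hSc
  have hnd := MonoidHom.not_dvd_card_ker_transferSylow S (hSc.normalizer_le_centralizer hmin)
  set M₀ := (MonoidHom.transferSylow S (hSc.normalizer_le_centralizer hmin)).ker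
  have hle₀ : ∀ Q : Sylow p A, (Q : Subgroup A) ≤ M₀ := fun Q =>
    le_of_not_dvd_index M₀ (by
      rw [hco.symm.index_eq_card, Sylow.coe_ofCard, hTA]
      exact fun hd => hp ((Nat.prime_dvd_prime_iff_eq hp' Nat.prime_two).1 (hp'.dvd_of_dvd_pow hd))) Q.isPGroup'
  refine ⟨M₀.map A.subtype, ?_, ?_, φ.ker.index / 2 ^ (Nat.card A).factorization 2, ?_, ?_⟩
  all_goals
    have hcm : Nat.card (M₀.map A.subtype) = Nat.card M₀ := Subgroup.card_map_of_injective A.subtype_injective
  · refine (card_sylow_of_forall_le _ fun R x hx => ?_).trans hn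
    exact ⟨⟨x, hle R hx⟩, hle₀ (R.subtype (hle R)) hx, rfl⟩
  · rw [hcm]
    exact Nat.not_even_iff_odd.1 fun he => hnd he.two_dvd
  all_goals
    have hmul : Nat.card M₀ * 2 ^ (Nat.card A).factorization 2 = Nat.card A := by
      rw [← hTA]; exact hco.card_mul_card
    have hdiv : 2 ^ (Nat.card A).factorization 2 ∣ φ.ker.index := by
      have h1 : 2 ^ (Nat.card A).factorization 2 ∣ (2 * p + 1) * (p * φ.ker.index) :=
        hcA ▸ Nat.ordProj_dvd _ _
      have h2 : Nat.Coprime (2 ^ (Nat.card A).factorization 2) (2 * p + 1) :=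
        Nat.Coprime.pow_left _ (Nat.prime_two.coprime_iff_not_dvd.2 (by omega))
      have h3 : Nat.Coprime (2 ^ (Nat.card A).factorization 2) p :=
        Nat.Coprime.pow_left _ ((Nat.coprime_primes Nat.prime_two hp').2 (Ne.symm hp))
      exact h3.dvd_of_dvd_mul_left (h2.dvd_of_dvd_mul_left h1)
  · exact dvd_trans (Nat.div_dvd_of_dvd hdiv) hk
  · rw [hcm]
    refine Nat.eq_of_mul_eq_mul_right (pow_pos two_pos ((Nat.card A).factorization 2)) ?_
    rw [hmul, mul_assoc, mul_assoc, Nat.div_mul_cancel hdiv, ← hcA]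

/-- No group has `2p + 1` Sylow `p`-subgroups if a prime `q` dividing `2p + 1` exactly once has
`q - 1` a power of two and `q ∤ p - 1`. -/
theorem card_sylow_ne_twice_add_one (G : Type*) [Group G] [Finite G] (p q : ℕ) [Fact p.Prime]
    [Fact q.Prime] (hp : p ≠ 2) (hq : q ∣ 2 * p + 1) (hq2 : ¬ q ^ 2 ∣ 2 * p + 1)
    (hqp : ¬ q ∣ p * (p - 1)) (hq1 : ∃ j, q - 1 = 2 ^ j) : Nat.card (Sylow p G) ≠ 2 * p + 1 := by
  intro hn
  haveI := faithful_quotient_permKer (G := G) (p := p)
  obtain ⟨M, hM, hodd, k, hk, hcard⟩ :=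
    exists_odd_subgroup hp ((card_sylow_quotient_permKer (G := G) (p := p)).trans hn)
  have hp' : p.Prime := Fact.out
  have hq' : q.Prime := Fact.out
  obtain ⟨Q⟩ : Nonempty (Sylow q M) := inferInstance
  have hpk : ¬ q ∣ p * k := fun h => hqp (h.trans (Nat.mul_dvd_mul_left p hk))
  have hQ : Nat.card (Q : Subgroup M) = q := by
    have h0 : p * k ≠ 0 := fun h => hpk (h ▸ dvd_zero q)
    rw [Q.card_eq_multiplicity, hcard, Nat.factorization_mul (by omega) h0, Finsupp.add_apply,
      Nat.factorization_eq_zero_of_not_dvd hpk, add_zero]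
    have h1 : 1 ≤ (2 * p + 1).factorization q := hq'.dvd_iff_one_le_factorization (by omega) |>.1 hq
    have h2 : (2 * p + 1).factorization q < 2 := by
      by_contra h
      exact hq2 ((hq'.pow_dvd_iff_le_factorization (by omega)).2 (by omega))
    rw [show (2 * p + 1).factorization q = 1 by omega, pow_one]
  have hcyc := isCyclic_of_prime_card (α := (Q : Subgroup M)) hQ
  have hcent : Subgroup.normalizer (Q : Set M) ≤ Subgroup.centralizer (Q : Set M) := by
    have key := Subgroup.card_dvd_of_injective _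
      (QuotientGroup.kerLift_injective (Q : Subgroup M).normalizerMonoidHom)
    rw [Subgroup.normalizerMonoidHom_ker, ← Subgroup.index, ← Subgroup.relIndex, IsCyclic.card_mulAut,
      hQ, Nat.totient_prime hq'] at key
    refine Subgroup.relIndex_eq_one.1 (Nat.eq_one_of_dvd_coprimes ?_ key
      ((Subgroup.relIndex_dvd_card _ _).trans (Subgroup.card_subgroup_dvd_card _)))
    obtain ⟨j, hj⟩ := hq1
    rw [hj]
    exact Nat.Coprime.pow_left _ (Nat.prime_two.coprime_iff_not_dvd.2 hodd.not_two_dvd_nat)
  refine not_dvd_card_sylow_of_central (p := p) (fun e => hqp (by rw [← e]; exact dvd_mul_right p _)) Q hcent ?_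
  rw [hM]
  exact hq

end Cfsg.Agent.SylowCount
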