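import Mathlib.GroupTheory.Nilpotent
import Mathlib.GroupTheory.Sylow
import Mathlib.Algebra.Group.End
import Mathlib.Data.ZMod.Basic
import Mathlib.Data.Finite.Perm
import Mathlib.Data.Fintype.Card

/-! A Sylow `p`-subgroup of the symmetric group of degree `p²` has class at least `p`. -/

set_option autoImplicit false

namespace Cfsg.Agent.WreathClass

open scoped commutatorElement

variable {p : ℕ} [hp : Fact p.Prime]

/-- The translations `(i, j) ↦ (i + a, j + f i)`. -/
def trans : Subgroup (Equiv.Perm (ZMod p × ZMod p)) where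
  carrier := {π | ∃ (a : ZMod p) (f : ZMod p → ZMod p), ∀ i j, π (i, j) = (i + a, j + f i)}
  one_mem' := ⟨0, 0, fun i j => by simp⟩
  mul_mem' := by
    rintro π ρ ⟨a, f, hf⟩ ⟨b, g, hg⟩
    exact ⟨b + a, fun i => g i + f (i + b), fun i j => by
      rw [Equiv.Perm.mul_apply, hg, hf, add_assoc, add_assoc]⟩
  inv_mem' := by
    rintro π ⟨a, f, hf⟩
    refine ⟨-a, fun i => -f (i - a), fun i j => ?_⟩
    rw [Equiv.Perm.inv_def, Equiv.symm_apply_eq, hf]
    simp [sub_eq_add_neg]

theorem pow_mem_form {π : Equiv.Perm (ZMod p × ZMod p)} (hπ : π ∈ trans (p := p)) (n : ℕ) :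
    ∃ a : ZMod p, ∃ F : ZMod p → ZMod p, ∀ i j, (π ^ n) (i, j) = (i + (n : ZMod p) * a, j + F i) := by
  obtain ⟨a, f, hf⟩ := hπ
  refine ⟨a, ?_⟩
  induction n with
  | zero => exact ⟨0, fun i j => by simp⟩
  | succ n ih =>
    obtain ⟨F, hF⟩ := ih
    refine ⟨fun i => f i + F (i + a), fun i j => ?_⟩
    rw [pow_succ, Equiv.Perm.mul_apply, hf, hF, Nat.cast_add, Nat.cast_one, add_mul, one_mul]
    exact Prod.ext (by ring) (by ring)

theorem trans_isPGroup : IsPGroup p (trans (p := p)) := by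
  intro π
  refine ⟨2, Subtype.ext ?_⟩
  obtain ⟨a, F, hF⟩ := pow_mem_form π.2 p
  have h1 : ∀ n : ℕ, ∀ i j, (((π : Equiv.Perm (ZMod p × ZMod p)) ^ p) ^ n) (i, j) = (i, j + (n : ZMod p) * F i) := by
    intro n
    induction n with
    | zero => intro i j; simp
    | succ n ih =>
      intro i j
      rw [pow_succ, Equiv.Perm.mul_apply, hF, ZMod.natCast_self, zero_mul, add_zero, ih]
      push_cast
      exact Prod.ext rfl (by ring)
  rw [SubmonoidClass.coe_pow, OneMemClass.coe_one, pow_two, pow_mul]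
  ext ⟨i, j⟩ : 1
  rw [h1 p i j, ZMod.natCast_self, zero_mul, add_zero, Equiv.Perm.one_apply]

/-- The shift `(i, j) ↦ (i + 1, j)`. -/
def shift : Equiv.Perm (ZMod p × ZMod p) := Equiv.prodCongr (Equiv.addRight 1) (Equiv.refl _)

/-- The translation `(i, j) ↦ (i, j + f i)`. -/
def fibre (f : ZMod p → ZMod p) : Equiv.Perm (ZMod p × ZMod p) where
  toFun x := (x.1, x.2 + f x.1)
  invFun x := (x.1, x.2 - f x.1)
  left_inv x := by simp
  right_inv x := by simp

theorem shift_mem : shift (p := p) ∈ trans (p := p) := ⟨1, 0, fun i j => by simp [shift]⟩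

theorem fibre_mem (f : ZMod p → ZMod p) : fibre f ∈ trans (p := p) := ⟨0, f, fun i j => by simp [fibre]⟩

/-- The difference operator. -/
def dif (f : ZMod p → ZMod p) : ZMod p → ZMod p := fun i => f i - f (i - 1)

theorem commutator_fibre_shift (f : ZMod p → ZMod p) :
    ⁅fibre f, shift⁆ = fibre (dif f) := by
  ext ⟨i, j⟩ : 1
  simp only [commutatorElement_def, Equiv.Perm.mul_apply]
  simp [shift, fibre, dif, Equiv.Perm.inv_def, sub_eq_add_neg]
  abel

/-- The point mass at `0`. -/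
def delta : ZMod p → ZMod p := fun i => if i = 0 then 1 else 0

theorem dif_iterate_delta : ∀ k : ℕ, k < p →
    (dif^[k] delta) (0 : ZMod p) = 1 ∧ ∀ i : ZMod p, k < i.val → (dif^[k] delta) i = 0 := by
  intro k
  induction k with
  | zero =>
    intro _
    refine ⟨if_pos rfl, fun i hi => if_neg fun h => ?_⟩
    rw [h, ZMod.val_zero] at hi
    exact lt_irrefl _ hi
  | succ k ih =>
    intro hk
    obtain ⟨h0, hs⟩ := ih (Nat.lt_of_succ_lt hk)
    have h1 : (1 : ZMod p).val = 1 := ZMod.val_one p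
    rw [Function.iterate_succ_apply']
    refine ⟨?_, fun i hi => ?_⟩
    · have h2 : k < ((0 : ZMod p) - 1).val := by
        rw [zero_sub, ZMod.neg_val, if_neg one_ne_zero, h1]
        omega
      rw [dif, h0, hs _ h2, sub_zero]
    · have h2 : (i - 1).val = i.val - 1 := by
        rw [ZMod.val_sub (by omega), h1]
      rw [dif, hs i (by omega), hs (i - 1) (by omega), sub_zero]

theorem fibre_mem_lcs : ∀ k : ℕ, fibre (dif^[k] delta) ∈ (trans (p := p)).lowerCentralSeries k := by
  intro k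
  induction k with
  | zero => exact fibre_mem _
  | succ k ih =>
    rw [Function.iterate_succ_apply', ← commutator_fibre_shift, Subgroup.lowerCentralSeries_succ]
    exact Subgroup.commutator_mem_commutator ih shift_mem

theorem lcs_trans_ne_bot : (trans (p := p)).lowerCentralSeries (p - 1) ≠ ⊥ := by
  intro h
  have h1 := fibre_mem_lcs (p := p) (p - 1)
  rw [h, Subgroup.mem_bot] at h1
  have h2 : fibre (dif^[p - 1] delta) ((0 : ZMod p), (0 : ZMod p)) = (0, 0) := by rw [h1]; rfl
  have h3 : (dif^[p - 1] delta) (0 : ZMod p) = 0 := by simpa [fibre] using h2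
  rw [(dif_iterate_delta (p - 1) (Nat.sub_lt hp.out.pos one_pos)).1] at h3
  exact one_ne_zero h3

/-- A Sylow `p`-subgroup of `Sym(p²)` has nilpotency class at least `p`. -/
theorem sylow_perm_sq_lcs_ne_bot (W : Sylow p (Equiv.Perm (Fin (p ^ 2)))) :
    (W : Subgroup (Equiv.Perm (Fin (p ^ 2)))).lowerCentralSeries (p - 1) ≠ ⊥ := by
  intro hW
  have hc : Fintype.card (ZMod p × ZMod p) = p ^ 2 := by rw [Fintype.card_prod, ZMod.card, pow_two]
  let e : Equiv.Perm (ZMod p × ZMod p) ≃* Equiv.Perm (Fin (p ^ 2)) :=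
    (Fintype.equivFinOfCardEq hc).permCongrHom
  obtain ⟨Q, hQ⟩ := ((trans_isPGroup (p := p)).map e.toMonoidHom).exists_le_sylow
  obtain ⟨g, hg⟩ := MulAction.exists_smul_eq (Equiv.Perm (Fin (p ^ 2))) Q W
  let c : Equiv.Perm (ZMod p × ZMod p) →* Equiv.Perm (Fin (p ^ 2)) :=
    (MulAut.conj g).toMonoidHom.comp e.toMonoidHom
  have hle : (trans (p := p)).map c ≤ (W : Subgroup (Equiv.Perm (Fin (p ^ 2)))) := by
    rw [← Subgroup.map_map, ← hg]
    rintro _ ⟨x, hx, rfl⟩
    exact ⟨x, hQ hx, rfl⟩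
  have h1 : ((trans (p := p)).lowerCentralSeries (p - 1)).map c ≤ ⊥ := by
    rw [Subgroup.map_lowerCentralSeries, ← hW]
    exact Subgroup.lowerCentralSeries_mono (p - 1) hle
  refine lcs_trans_ne_bot (p := p) (eq_bot_iff.2 fun x hx => ?_)
  have h2 : c x = 1 := h1 (Subgroup.mem_map_of_mem c hx)
  have h3 : MulAut.conj g (e x) = 1 := h2
  rw [(MulAut.conj g).map_eq_one_iff, e.map_eq_one_iff] at h3
  exact Subgroup.mem_bot.2 h3

end Cfsg.Agent.WreathClass
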